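import Mathlib.LinearAlgebra.Dimension.Constructions
import Mathlib.LinearAlgebra.FiniteDimensional.Lemmas
import Mathlib.LinearAlgebra.TensorProduct.Tower

/-!
# Adapted bases of exact linked chains of subspaces
-/

set_option autoImplicit false
set_option linter.style.haveILetI false
set_option linter.unusedSectionVars false

universe u v

noncomputable section

namespace LinkedGrassLib

variable {R : Type u} [CommRing R] {E : Type v} [AddCommGroup E] [Module R E]
variable (F G : ℕ → (E →ₗ[R] E))

/-- Composite of forward maps. -/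
def up (j : ℕ) : ℕ → (E →ₗ[R] E)
  | 0 => LinearMap.id
  | t + 1 => (F (j + t)).comp (up j t)

/-- Composite of backward maps. -/
def down : ℕ → ℕ → (E →ₗ[R] E)
  | _, 0 => LinearMap.id
  | i, t + 1 => (G i).comp (down (i + 1) t)

/-- The transition map from the `j`-th to the `i`-th copy. -/
def trans (i j : ℕ) : E →ₗ[R] E := if j ≤ i then up F j (i - j) else down G i (j - i)

theorem trans_self (i : ℕ) : trans F G i i = LinearMap.id := by
  simp [trans, up]

theorem F_trans {i j : ℕ} (h : j ≤ i) : (F i).comp (trans F G i j) = trans F G (i + 1) j := by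
  rw [trans, trans, if_pos h, if_pos (h.trans (Nat.le_succ i)), show i + 1 - j = (i - j) + 1 by omega, up,
    show j + (i - j) = i by omega]

theorem G_trans {i j : ℕ} (h : i < j) : (G i).comp (trans F G (i + 1) j) = trans F G i j := by
  have h1 : ¬ j ≤ i := Nat.not_le.2 h
  by_cases h2 : j ≤ i + 1
  · obtain rfl : j = i + 1 := le_antisymm h2 h
    rw [trans_self, trans, if_neg h1, show i + 1 - i = 1 by omega, down, down]
  · rw [trans, trans, if_neg h1, if_neg h2, show j - i = (j - (i + 1)) + 1 by omega, down]

theorem F_trans_of_gt {i j : ℕ} (h : i < j) (s : R) (hs : (F i).comp (G i) = s • LinearMap.id) :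
    (F i).comp (trans F G i j) = s • trans F G (i + 1) j := by
  rw [← G_trans F G h, ← LinearMap.comp_assoc, hs, LinearMap.smul_comp, LinearMap.id_comp]

theorem G_trans_of_le {i j : ℕ} (h : j ≤ i) (s : R) (hs : (G i).comp (F i) = s • LinearMap.id) :
    (G i).comp (trans F G (i + 1) j) = s • trans F G i j := by
  rw [← F_trans F G h, ← LinearMap.comp_assoc, hs, LinearMap.smul_comp, LinearMap.id_comp]

/-- The transition maps preserve linked families. -/
theorem map_trans_le {n : ℕ} (N : ℕ → Submodule R E) (hF : ∀ i < n, (N i).map (F i) ≤ N (i + 1))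
    (hG : ∀ i < n, (N (i + 1)).map (G i) ≤ N i) {i j : ℕ} (hi : i ≤ n) (hj : j ≤ n) :
    (N j).map (trans F G i j) ≤ N i := by
  have hup : ∀ t, j + t ≤ n → (N j).map (up F j t) ≤ N (j + t) := by
    intro t
    induction t with
    | zero => intro _; simp [up]
    | succ t ih =>
      intro ht
      rw [up, Submodule.map_comp]
      exact (Submodule.map_mono (ih (by omega))).trans (hF (j + t) (by omega))
  have hdown : ∀ t i, i + t ≤ n → (N (i + t)).map (down G i t) ≤ N i := by
    intro t
    induction t with
    | zero => intro i _; simp [down]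
    | succ t ih =>
      intro i hi
      rw [down, Submodule.map_comp]
      refine (Submodule.map_mono ?_).trans (hG i (by omega))
      have := ih (i + 1) (by omega)
      rwa [show i + 1 + t = i + (t + 1) by omega] at this
  rw [trans]
  split
  · have := hup (i - j) (by omega)
    rwa [show j + (i - j) = i by omega] at this
  · have := hdown (j - i) i (by omega)
    rwa [show i + (j - i) = j by omega] at this

/-- The transition maps commute with maps commuting with the chain. -/
theorem trans_natural {S : Type u} [CommRing S] {E' : Type v} [AddCommGroup E'] [Module S E']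
    (F' G' : ℕ → (E' →ₗ[S] E')) (Φ : E → E') (hF : ∀ i x, Φ (F i x) = F' i (Φ x)) (hG : ∀ i x, Φ (G i x) = G' i (Φ x))
    (i j : ℕ) (x : E) : Φ (trans F G i j x) = trans F' G' i j (Φ x) := by
  have hup : ∀ t x, Φ (up F j t x) = up F' j t (Φ x) := by
    intro t
    induction t with
    | zero => intro x; rfl
    | succ t ih => intro x; exact (hF _ _).trans (congrArg (F' (j + t)) (ih x))
  have hdown : ∀ t i x, Φ (down G i t x) = down G' i t (Φ x) := by
    intro t
    induction t with
    | zero => intro i x; rfl
    | succ t ih => intro i x; exact (hG _ _).trans (congrArg (G' i) (ih (i + 1) x))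
  rw [trans, trans]
  split
  · exact hup _ x
  · exact hdown _ _ x

section Field

variable {k : Type u} [Field k] {V₀ : Type v} [AddCommGroup V₀] [Module k V₀] [FiniteDimensional k V₀]
variable (A B : ℕ → (V₀ →ₗ[k] V₀)) (n : ℕ) (V : ℕ → Submodule k V₀)
variable (hA : ∀ i < n, (V i).map (A i) ≤ V (i + 1)) (hB : ∀ i < n, (V (i + 1)).map (B i) ≤ V i)
variable (r : ℕ) (hr : ∀ i ≤ n, Module.finrank k (V i) = r)

include hA hB hr in
/-- Exact linked chains with zero composites have adapted subspaces. -/
theorem exists_adapted_zero_containing (hAB : ∀ i < n, (B i).comp (A i) = 0)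
    (hexA : ∀ i < n, LinearMap.ker (A i) ⊓ V i ≤ (V (i + 1)).map (B i))
    (hBA : ∀ i < n, (A i).comp (B i) = 0)
    (hIII : ∀ i, i + 1 < n → LinearMap.range (A i) ⊓ LinearMap.ker (A (i + 1)) = ⊥)
    (C : Submodule k V₀) (hC : C ≤ V n) (hCd : ∀ i < n, i + 1 = n → (V i).map (A i) ⊓ C = ⊥) :
    ∃ W : ℕ → Submodule k V₀, C ≤ W n ∧ (∀ j ≤ n, W j ≤ V j) ∧ (∑ j ∈ Finset.range (n + 1), Module.finrank k (W j)) = r ∧
      ∀ i ≤ n, V i ≤ ⨆ j ∈ Finset.range (n + 1), (W j).map (trans A B i j) := by
  let a : ℕ → Submodule k V₀ := fun j => match j with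
    | 0 => ⊥
    | j + 1 => (V j).map (A j)
  let b : ℕ → Submodule k V₀ := fun j => if j < n then (V (j + 1)).map (B j) else ⊥
  have ha : ∀ j ≤ n, a j ≤ V j := fun j hj => by
    cases j with
    | zero => exact bot_le
    | succ j => exact hA j hj
  have hb : ∀ j ≤ n, b j ≤ V j := fun j _ => by
    show (if j < n then _ else _) ≤ _
    split
    · exact hB j ‹_›
    · exact bot_le
  have hex : ∀ j, ∃ W : Submodule k (V j), IsCompl (Submodule.comap (V j).subtype (a j ⊔ b j)) W ∧
      (j = n → Submodule.comap (V j).subtype C ≤ W) := fun j => by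
    by_cases hj : j = n
    · have hd : a j ⊓ C = ⊥ := by
        cases j with
        | zero => exact bot_inf_eq _
        | succ j => exact hCd j (by omega) hj
      have hbn : b j = ⊥ := by
        show (if j < n then _ else _) = _
        rw [if_neg (by omega)]
      obtain ⟨W, hW1, hW2⟩ := (show Disjoint (Submodule.comap (V j).subtype C)
          (Submodule.comap (V j).subtype (a j ⊔ b j)) from disjoint_iff.2 (by
            rw [← Submodule.comap_inf, hbn, sup_bot_eq, inf_comm, hd, Submodule.comap_bot, Submodule.ker_subtype])).exists_isCompl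
      exact ⟨W, hW2.symm, fun _ => hW1⟩
    · obtain ⟨W, hW⟩ := Submodule.exists_isCompl (Submodule.comap (V j).subtype (a j ⊔ b j))
      exact ⟨W, hW, fun h => absurd h hj⟩
  choose W hW hWC using hex
  let W' : ℕ → Submodule k V₀ := fun j => (W j).map (V j).subtype
  have hW' : ∀ j, W' j ≤ V j := fun j => Submodule.map_subtype_le _ _
  have hsup : ∀ j ≤ n, a j ⊔ b j ⊔ W' j = V j := fun j hj => by
    refine le_antisymm (sup_le (sup_le (ha j hj) (hb j hj)) (hW' j)) fun x hx => ?_
    have h1 : (⟨x, hx⟩ : V j) ∈ Submodule.comap (V j).subtype (a j ⊔ b j) ⊔ W j := by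
      rw [(hW j).sup_eq_top]; trivial
    obtain ⟨y, hy, z, hz, hyz⟩ := Submodule.mem_sup.1 h1
    rw [show x = (y : V₀) + z from (congrArg Subtype.val hyz).symm]
    exact add_mem (Submodule.mem_sup_left hy) (Submodule.mem_sup_right ⟨z, hz, rfl⟩)
  have hfin : ∀ j ≤ n, Module.finrank k (W' j) + (Module.finrank k (a j) + Module.finrank k (b j)) = r := fun j hj => by
    have h1 := Submodule.finrank_add_eq_of_isCompl (hW j)
    have h2 : Module.finrank k (Submodule.comap (V j).subtype (a j ⊔ b j)) = Module.finrank k ↥(a j ⊔ b j) :=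
      LinearEquiv.finrank_eq (Submodule.comapSubtypeEquivOfLe (sup_le (ha j hj) (hb j hj)))
    have h3 : Module.finrank k (W' j) = Module.finrank k (W j) := Submodule.finrank_map_subtype_eq _ _
    have h4 : a j ⊓ b j = ⊥ := by
      cases j with
      | zero => exact bot_inf_eq _
      | succ j =>
        show (V j).map (A j) ⊓ (if j + 1 < n then _ else _) = ⊥
        split
        · rename_i hj'
          refine le_bot_iff.1 (le_trans (inf_le_inf LinearMap.map_le_range ?_) (hIII j hj').le)
          rintro _ ⟨y, -, rfl⟩
          exact LinearMap.congr_fun (hBA (j + 1) hj') y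
        · exact inf_bot_eq _
    have h5 := Submodule.finrank_sup_add_finrank_inf_eq (a j) (b j)
    rw [h4, finrank_bot, add_zero] at h5
    rw [h3, ← h5, ← h2, ← hr j hj]
    omega
  have hab : ∀ j < n, Module.finrank k (a (j + 1)) + Module.finrank k (b j) = r := fun j hj => by
    have hb' : b j = LinearMap.ker (A j) ⊓ V j := by
      show (if j < n then _ else _) = _
      rw [if_pos hj]
      refine le_antisymm (le_inf ?_ (hB j hj)) (hexA j hj)
      rintro _ ⟨y, -, rfl⟩
      exact LinearMap.congr_fun (hBA j hj) y
    have h := LinearMap.finrank_range_add_finrank_ker (K := k) (V := V j) (V₂ := V₀) ((A j).domRestrict (V j))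
    rw [LinearMap.range_domRestrict, LinearMap.ker_domRestrict, hr j hj.le] at h
    rw [hb', inf_comm, ← Submodule.map_comap_subtype, Submodule.finrank_map_subtype_eq]
    exact h
  refine ⟨W', fun x hx => ⟨⟨x, hC hx⟩, hWC n rfl hx, rfl⟩, fun j _ => hW' j, ?_, ?_⟩
  · have key : ∀ m ≤ n, (∑ j ∈ Finset.range m, Module.finrank k (W' j)) = Module.finrank k (a m) := by
      intro m
      induction m with
      | zero => intro _; exact (finrank_bot k V₀).symm
      | succ m ih =>
        intro hm
        rw [Finset.sum_range_succ, ih (Nat.le_of_succ_le hm)]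
        have h1 := hfin m (Nat.le_of_succ_le hm)
        have h2 := hab m hm
        omega
    rw [Finset.sum_range_succ, key n le_rfl]
    have h1 := hfin n le_rfl
    have h2 : Module.finrank k (b n) = 0 := by
      show Module.finrank k ↥(if n < n then _ else _ : Submodule k V₀) = 0
      rw [if_neg (lt_irrefl n)]
      exact finrank_bot k V₀
    omega
  · let S : ℕ → Submodule k V₀ := fun i => ⨆ j ∈ Finset.range (n + 1), (W' j).map (trans A B i j)
    have hWS : ∀ i ≤ n, W' i ≤ S i := fun i hi => by
      refine le_trans ?_ (le_iSup₂ (f := fun j _ => (W' j).map (trans A B i j)) i (Finset.mem_range.2 (Nat.lt_succ_of_le hi)))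
      rw [trans_self, Submodule.map_id]
    have hAS : ∀ i < n, (S i).map (A i) ≤ S (i + 1) := fun i hi => by
      show (⨆ j ∈ Finset.range (n + 1), (W' j).map (trans A B i j)).map (A i) ≤ _
      simp only [Submodule.map_iSup, ← Submodule.map_comp]
      refine iSup₂_le fun j hj => ?_
      rcases le_or_gt j i with h | h
      · rw [F_trans A B h]
        exact le_iSup₂ (f := fun j _ => (W' j).map (trans A B (i + 1) j)) j hj
      · rw [F_trans_of_gt A B h 0 (by rw [hBA i hi, zero_smul]), zero_smul, Submodule.map_zero]
        exact bot_le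
    have hBS : ∀ i < n, (S (i + 1)).map (B i) ≤ S i := fun i hi => by
      show (⨆ j ∈ Finset.range (n + 1), (W' j).map (trans A B (i + 1) j)).map (B i) ≤ _
      simp only [Submodule.map_iSup, ← Submodule.map_comp]
      refine iSup₂_le fun j hj => ?_
      rcases le_or_gt j i with h | h
      · rw [G_trans_of_le A B h 0 (by rw [hAB i hi, zero_smul]), zero_smul, Submodule.map_zero]
        exact bot_le
      · rw [G_trans A B h]
        exact le_iSup₂ (f := fun j _ => (W' j).map (trans A B i j)) j hj
    have haS : ∀ i ≤ n, a i ≤ S i := by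
      intro i
      induction i with
      | zero => intro _; exact bot_le
      | succ i ih =>
        intro hi
        show (V i).map (A i) ≤ _
        rw [← hsup i (Nat.le_of_succ_le hi), Submodule.map_sup, Submodule.map_sup]
        refine sup_le (sup_le ?_ ?_) ?_
        · exact (Submodule.map_mono (ih (Nat.le_of_succ_le hi))).trans (hAS i hi)
        · refine le_of_eq_of_le ?_ bot_le
          show Submodule.map (A i) (if i < n then _ else _) = ⊥
          rw [if_pos (show i < n from hi), ← Submodule.map_comp, hBA i hi, Submodule.map_zero]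
        · exact (Submodule.map_mono (hWS i (Nat.le_of_succ_le hi))).trans (hAS i hi)
    have hbS : ∀ t i, i + t = n → b i ≤ S i := by
      intro t
      induction t with
      | zero =>
        intro i hi
        show (if i < n then _ else _) ≤ _
        rw [if_neg (by omega)]
        exact bot_le
      | succ t ih =>
        intro i hi
        have hin : i < n := by omega
        show (if i < n then _ else _) ≤ _
        rw [if_pos hin, ← hsup (i + 1) hin, Submodule.map_sup, Submodule.map_sup]
        refine sup_le (sup_le ?_ ?_) ?_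
        · refine le_of_eq_of_le ?_ bot_le
          show Submodule.map (B i) ((V i).map (A i)) = ⊥
          rw [← Submodule.map_comp, hAB i hin, Submodule.map_zero]
        · exact (Submodule.map_mono (ih (i + 1) (by omega))).trans (hBS i hin)
        · exact (Submodule.map_mono (hWS (i + 1) hin)).trans (hBS i hin)
    exact fun i hi => (hsup i hi).ge.trans (sup_le (sup_le (haS i hi) (hbS (n - i) i (by omega))) (hWS i hi))

include hA hB hr in
/-- Exact linked chains with zero composites have adapted subspaces. -/
theorem exists_adapted_zero (hAB : ∀ i < n, (B i).comp (A i) = 0)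
    (hexA : ∀ i < n, LinearMap.ker (A i) ⊓ V i ≤ (V (i + 1)).map (B i))
    (hBA : ∀ i < n, (A i).comp (B i) = 0)
    (hIII : ∀ i, i + 1 < n → LinearMap.range (A i) ⊓ LinearMap.ker (A (i + 1)) = ⊥) :
    ∃ W : ℕ → Submodule k V₀, (∀ j ≤ n, W j ≤ V j) ∧ (∑ j ∈ Finset.range (n + 1), Module.finrank k (W j)) = r ∧
      ∀ i ≤ n, V i ≤ ⨆ j ∈ Finset.range (n + 1), (W j).map (trans A B i j) :=
  let ⟨W, _, h⟩ := exists_adapted_zero_containing A B n V hA hB r hr hAB hexA hBA hIII ⊥ bot_le fun _ _ _ => inf_bot_eq _
  ⟨W, h⟩

include hA hB hr in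
/-- Linked chains of isomorphisms have adapted subspaces. -/
theorem exists_adapted_unit {s : k} (hs : s ≠ 0) (hAB : ∀ i < n, (B i).comp (A i) = s • LinearMap.id) :
    ∃ W : ℕ → Submodule k V₀, (∀ j ≤ n, W j ≤ V j) ∧ (∑ j ∈ Finset.range (n + 1), Module.finrank k (W j)) = r ∧
      ∀ i ≤ n, V i ≤ ⨆ j ∈ Finset.range (n + 1), (W j).map (trans A B i j) := by
  refine ⟨fun j => if j = 0 then V 0 else ⊥, fun j _ => ?_, ?_, fun i hi => ?_⟩
  · dsimp only
    split
    · subst j; exact le_rfl
    · exact bot_le
  · dsimp only
    rw [Finset.sum_eq_single 0 (fun j _ hj => by simp [hj]) (by simp)]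
    simpa using hr 0 (Nat.zero_le _)
  · refine le_trans ?_ (le_iSup₂ (f := fun j _ => (if j = 0 then V 0 else ⊥ : Submodule k V₀).map (trans A B i j)) 0
      (Finset.mem_range.2 (Nat.succ_pos n)))
    rw [if_pos rfl]
    induction i with
    | zero => rw [trans_self, Submodule.map_id]
    | succ i ih =>
      have hinj : Function.Injective (A i) := fun x y h => by
        have h1 : s • x = s • y := by
          rw [← LinearMap.id_apply (R := k) x, ← LinearMap.id_apply (R := k) y, ← LinearMap.smul_apply,
            ← LinearMap.smul_apply, ← hAB i hi]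
          exact congrArg (B i) h
        exact smul_right_injective V₀ hs h1
      have he : (V i).map (A i) = V (i + 1) := Submodule.eq_of_le_of_finrank_eq (hA i hi) (by
        rw [hr (i + 1) hi, ← (Submodule.equivMapOfInjective (A i) hinj (V i)).finrank_eq, hr i (Nat.le_of_succ_le hi)])
      rw [← he, ← F_trans A B (Nat.zero_le i), Submodule.map_comp]
      exact Submodule.map_mono (ih (Nat.le_of_succ_le hi))

end Field

end LinkedGrassLib

end
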