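import Groth.Agent.LinkedGrassLib.Lift
import Groth.Agent.GrassLib.Free

/-!
# Affine charts of a linked Grassmannian around exact points
-/

set_option autoImplicit false
set_option linter.style.haveILetI false
set_option linter.unusedSectionVars false

universe u

open TensorProduct GrassLib

noncomputable section

namespace LinkedGrassLib

variable {k : Type u} [CommRing k] [Nontrivial k] {d r n : ℕ}

/-- Combinatorial data of a chart: levels and coordinates of the chosen vectors, complementary coordinates. -/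
structure ChartData (d r n : ℕ) where
  σ : Type
  fin : Fintype σ
  hrd : r ≤ d
  card : Fintype.card σ = r
  j : σ → Fin (n + 1)
  s : σ → Fin d
  S : Fin (n + 1) → (Fin (d - r) ↪ Fin d)

attribute [instance] ChartData.fin

namespace ChartData

variable (C : ChartData d r n) {A B : Type u} [CommRing A] [Algebra k A] [CommRing B] [Algebra k B]

/-- The complementary coordinate vectors. -/
abbrev x (k : Type u) [CommRing k] (i : Fin (n + 1)) : Fin (d - r) → (Fin d → k) := stdTuple k (C.S i)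

/-- A normalised vector. -/
def vec (c : C.σ → Fin (d - r) → A) (t : C.σ) : A ⊗[k] (Fin d → k) :=
  1 ⊗ₜ[k] Pi.single (C.s t) 1 - ∑ a, c t a • (1 ⊗ₜ[k] C.x k (C.j t) a)

theorem mapM_vec (φ : A →ₐ[k] B) (c : C.σ → Fin (d - r) → A) (t : C.σ) :
    mapM φ (C.vec c t) = C.vec (fun t a => φ (c t a)) t := by
  simp [vec, map_sum, mapM_smul]

variable (f g : Fin n → ((Fin d → k) →ₗ[k] (Fin d → k)))

/-- A transported normalised vector. -/
def row (c : C.σ → Fin (d - r) → A) (i : Fin (n + 1)) (t : C.σ) : A ⊗[k] (Fin d → k) :=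
  trans (fwd f A) (fwd g A) i (C.j t) (C.vec c t)

theorem mapM_row (φ : A →ₐ[k] B) (c : C.σ → Fin (d - r) → A) (i : Fin (n + 1)) (t : C.σ) :
    mapM φ (C.row f g c i t) = C.row f g (fun t a => φ (c t a)) i t := by
  rw [row, row, mapM_trans, mapM_vec]

theorem row_self (c : C.σ → Fin (d - r) → A) (t : C.σ) : C.row f g c (C.j t) t = C.vec c t := by
  rw [row, trans_self, LinearMap.id_apply]

theorem card_idx : Fintype.card (C.σ ⊕ Fin (d - r)) = d := by
  rw [Fintype.card_sum, Fintype.card_fin, C.card, Nat.add_sub_cancel' C.hrd]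

/-- An enumeration of the rows. -/
def idx : C.σ ⊕ Fin (d - r) ≃ Fin d := Fintype.equivFinOfCardEq C.card_idx

/-- The rows of a chart matrix. -/
def family (c : C.σ → Fin (d - r) → A) (i : Fin (n + 1)) : C.σ ⊕ Fin (d - r) → A ⊗[k] (Fin d → k) :=
  Sum.elim (C.row f g c i) fun a => 1 ⊗ₜ[k] C.x k i a

theorem mapM_family (φ : A →ₐ[k] B) (c : C.σ → Fin (d - r) → A) (i : Fin (n + 1)) (a : C.σ ⊕ Fin (d - r)) :
    mapM φ (C.family f g c i a) = C.family f g (fun t a => φ (c t a)) i a := by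
  rcases a with t | a
  · exact C.mapM_row f g φ c i t
  · simp [family]

/-- The standard basis. -/
def std (k : Type u) [CommRing k] (A : Type u) [CommRing A] [Algebra k A] (d : ℕ) :
    Module.Basis (Fin d) A (A ⊗[k] (Fin d → k)) :=
  Algebra.TensorProduct.basis A (Pi.basisFun k (Fin d))

theorem std_repr_mapM (φ : A →ₐ[k] B) (y : A ⊗[k] (Fin d → k)) (a : Fin d) :
    (std k B d).repr (mapM φ y) a = φ ((std k A d).repr y a) := by
  induction y using TensorProduct.induction_on with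
  | zero => simp
  | tmul c v => simp [std, mul_comm]
  | add y z hy hz => simp [map_add, hy, hz]

/-- The chart determinant. -/
def D (c : C.σ → Fin (d - r) → A) (i : Fin (n + 1)) : A :=
  (std k A d).det fun a => C.family f g c i (C.idx.symm a)

theorem map_D (φ : A →ₐ[k] B) (c : C.σ → Fin (d - r) → A) (i : Fin (n + 1)) :
    φ (C.D f g c i) = C.D f g (fun t a => φ (c t a)) i := by
  rw [D, D, Module.Basis.det_apply, Module.Basis.det_apply, AlgHom.map_det]
  congr 1
  ext a b
  rw [AlgHom.mapMatrix_apply, Matrix.map_apply, Module.Basis.toMatrix_apply, Module.Basis.toMatrix_apply,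
    ← std_repr_mapM, mapM_family]

theorem exists_basis {c : C.σ → Fin (d - r) → A} {i : Fin (n + 1)} (h : IsUnit (C.D f g c i)) :
    ∃ b : Module.Basis (C.σ ⊕ Fin (d - r)) A (A ⊗[k] (Fin d → k)), ∀ a, b a = C.family f g c i a := by
  obtain ⟨hli, hsp⟩ := ((std k A d).is_basis_iff_det).2 h
  refine ⟨(Module.Basis.mk hli hsp.ge).reindex C.idx.symm, fun a => ?_⟩
  rw [Module.Basis.reindex_apply, Module.Basis.mk_apply]
  simp

/-- A tuple in the chart. -/
def Good {A : Type u} [CommRing A] [Algebra k A] (V : Fin (n + 1) → Pt k (Fin d → k) (d - r) A) : Prop :=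
  ∃ c : C.σ → Fin (d - r) → A, (∀ i, IsUnit (C.D f g c i)) ∧
    ∀ i, (V i).toSubmodule = Submodule.span A (Set.range (C.row f g c i))

theorem exists_pt {c : C.σ → Fin (d - r) → A} {i : Fin (n + 1)} (h : IsUnit (C.D f g c i)) :
    ∃ N : Pt k (Fin d → k) (d - r) A, IsIn (C.x k i) N ∧ N.toSubmodule = Submodule.span A (Set.range (C.row f g c i)) := by
  classical
  obtain ⟨b, hb⟩ := C.exists_basis f g h
  let φ : (Fin d → k) →ₗ[k] (Fin (d - r) → A) :=
    ((LinearMap.pi fun a => (Finsupp.lapply (Sum.inr a)).comp b.repr.toLinearMap).restrictScalars k).comp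
      (TensorProduct.mk k A (Fin d → k) 1)
  have hφ : Normal (C.x k i) φ := fun a => funext fun a' => by
    show b.repr (1 ⊗ₜ[k] C.x k i a) (Sum.inr a') = _
    rw [show (1 : A) ⊗ₜ[k] C.x k i a = b (Sum.inr a) from (hb (Sum.inr a)).symm, b.repr_self, Finsupp.single_apply,
      Pi.single_apply]
    simp [eq_comm]
  have hlift : ∀ y, φ.liftBaseChange A y = fun a => b.repr y (Sum.inr a) := by
    intro y
    induction y using TensorProduct.induction_on with
    | zero => simp; rfl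
    | tmul c v =>
      rw [LinearMap.liftBaseChange_tmul]
      refine funext fun a => ?_
      show c * b.repr (1 ⊗ₜ[k] v) (Sum.inr a) = _
      rw [show c ⊗ₜ[k] v = c • ((1 : A) ⊗ₜ[k] v) by rw [TensorProduct.smul_tmul', smul_eq_mul, mul_one], map_smul]
      rfl
    | add y z hy hz => rw [map_add, hy, hz]; funext a; simp
  refine ⟨chartPt (C.x k i) φ hφ, isIn_chartPt hφ, le_antisymm (fun y hy => ?_) (Submodule.span_le.2 ?_)⟩
  · have h0 : ∀ a, b.repr y (Sum.inr a) = 0 := fun a => congrFun ((hlift y).symm.trans hy) a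
    rw [← b.sum_repr y]
    refine Submodule.sum_mem _ fun a _ => ?_
    rcases a with t | a
    · exact Submodule.smul_mem _ _ (Submodule.subset_span ⟨t, (hb (Sum.inl t)).symm⟩)
    · rw [h0, zero_smul]; exact zero_mem _
  · rintro _ ⟨t, rfl⟩
    show φ.liftBaseChange A _ = 0
    rw [hlift, show C.row f g c i t = b (Sum.inl t) from (hb (Sum.inl t)).symm]
    funext a
    simp [b.repr_self]

variable {f g}

theorem isIn_of_good {V : Fin (n + 1) → Pt k (Fin d → k) (d - r) A} (h : C.Good f g V) (i : Fin (n + 1)) :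
    IsIn (C.x k i) (V i) := by
  obtain ⟨c, hu, hV⟩ := h
  obtain ⟨N, hN, hN'⟩ := C.exists_pt f g (hu i)
  rwa [Module.Grassmannian.ext ((hV i).trans hN'.symm)]

/-- The coordinates of a point in the chart. -/
def coord {V : Fin (n + 1) → Pt k (Fin d → k) (d - r) A} (h : ∀ i, IsIn (C.x k i) (V i)) :
    C.σ → Fin (d - r) → A := fun t => coordsR (h (C.j t)) (Pi.single (C.s t) 1)

theorem vec_coord_mem {V : Fin (n + 1) → Pt k (Fin d → k) (d - r) A} (h : ∀ i, IsIn (C.x k i) (V i)) (t : C.σ) :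
    C.vec (C.coord h) t ∈ (V (C.j t)).toSubmodule := by
  rw [← Submodule.Quotient.mk_eq_zero, ← Submodule.mkQ_apply, vec, map_sub, sub_eq_zero, map_sum]
  simp only [map_smul]
  exact (psi_coords (h (C.j t)) (1 ⊗ₜ[k] Pi.single (C.s t) 1)).symm

theorem eq_coord_of_mem {V : Fin (n + 1) → Pt k (Fin d → k) (d - r) A} (h : ∀ i, IsIn (C.x k i) (V i))
    {c : C.σ → Fin (d - r) → A} (t : C.σ) (hc : C.vec c t ∈ (V (C.j t)).toSubmodule) : c t = C.coord h t := by
  apply (bijective_psi (h (C.j t))).1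
  rw [coord, show coordsR (h (C.j t)) (Pi.single (C.s t) 1) = coords (h (C.j t)) (1 ⊗ₜ[k] Pi.single (C.s t) 1) from rfl,
    psi_coords, psi_apply, eq_comm]
  have := (Submodule.Quotient.eq _).2 (show (1 : A) ⊗ₜ[k] (Pi.single (C.s t) 1 : Fin d → k) -
    ∑ a, c t a • ((1 : A) ⊗ₜ[k] C.x k (C.j t) a) ∈ (V (C.j t)).toSubmodule from hc)
  simp only [← Submodule.mkQ_apply, map_sum, map_smul] at this
  exact this

theorem eq_coord {V : Fin (n + 1) → Pt k (Fin d → k) (d - r) A} (h : ∀ i, IsIn (C.x k i) (V i))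
    {c : C.σ → Fin (d - r) → A} (hc : ∀ i, (V i).toSubmodule = Submodule.span A (Set.range (C.row f g c i))) :
    c = C.coord h := funext fun t => C.eq_coord_of_mem h t (by
  rw [hc, ← C.row_self f g c t]
  exact Submodule.subset_span ⟨t, rfl⟩)

theorem good_iff {V : Fin (n + 1) → Pt k (Fin d → k) (d - r) A} (hV : V ∈ W4c1limliniiii.LGPoints k d r n f g A) :
    C.Good f g V ↔ ∃ h : ∀ i, IsIn (C.x k i) (V i), ∀ i, IsUnit (C.D f g (C.coord h) i) := by
  refine ⟨fun hg => ⟨C.isIn_of_good hg, ?_⟩, fun ⟨h, hu⟩ => ⟨C.coord h, hu, fun i => ?_⟩⟩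
  · obtain ⟨c, hu, hc⟩ := hg
    rwa [← C.eq_coord (C.isIn_of_good ⟨c, hu, hc⟩) hc]
  · obtain ⟨N, -, hN⟩ := C.exists_pt f g (hu i)
    rw [← hN]
    suffices hle : N.toSubmodule ≤ (V i).toSubmodule by rw [eq_of_le hle]
    rw [hN, Submodule.span_le]
    rintro _ ⟨t, rfl⟩
    obtain ⟨hA, hB⟩ := linked_ext0 f g hV
    rw [← ext0_of_le V i]
    refine map_trans_le (fwd f A) (fwd g A) (ext0 V) hA hB (Nat.le_of_lt_succ i.2) (Nat.le_of_lt_succ (C.j t).2) ?_
    exact ⟨C.vec (C.coord h) t, (ext0_of_le V (C.j t)).symm ▸ C.vec_coord_mem h t, rfl⟩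

theorem map_eq {V : Fin (n + 1) → Pt k (Fin d → k) (d - r) A} {c : C.σ → Fin (d - r) → A}
    (hc : ∀ i, (V i).toSubmodule = Submodule.span A (Set.range (C.row f g c i))) (φ : A →ₐ[k] B) (i : Fin (n + 1)) :
    (Module.Grassmannian.map φ (V i)).toSubmodule =
      Submodule.span B (Set.range (C.row f g (fun t a => φ (c t a)) i)) := by
  rw [map_toSubmodule_eq, hc i]
  refine le_antisymm (Submodule.span_le.2 ?_) (Submodule.span_mono ?_)
  · rintro _ ⟨y, hy, rfl⟩
    induction hy using Submodule.span_induction with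
    | mem y hy => obtain ⟨t, rfl⟩ := hy; exact Submodule.subset_span ⟨t, (C.mapM_row f g φ c i t).symm⟩
    | zero => rw [map_zero]; exact zero_mem _
    | add a b _ _ ha hb => rw [map_add]; exact add_mem ha hb
    | smul a y _ hy => rw [mapM_smul]; exact Submodule.smul_mem _ _ hy
  · rintro _ ⟨t, rfl⟩
    exact ⟨C.row f g c i t, Submodule.subset_span ⟨t, rfl⟩, C.mapM_row f g φ c i t⟩

theorem good_map {V : Fin (n + 1) → Pt k (Fin d → k) (d - r) A} (h : C.Good f g V) (φ : A →ₐ[k] B) :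
    C.Good f g (A := B) fun i => Module.Grassmannian.map φ (V i) := by
  obtain ⟨c, hu, hc⟩ := h
  exact ⟨_, fun i => C.map_D f g φ c i ▸ (hu i).map φ, fun i => C.map_eq hc φ i⟩

theorem isIn_iff_obstr {i : Fin (n + 1)} {N : Pt k (Fin d → k) (d - r) A} : IsIn (C.x k i) N ↔ obstr (C.x k i) N = ⊤ := by
  rw [IsIn, obstr, Module.annihilator_eq_top_iff, Submodule.Quotient.subsingleton_iff]
  exact LinearMap.range_eq_top.symm

theorem lgPoints_map {V : Fin (n + 1) → Pt k (Fin d → k) (d - r) A} (hV : V ∈ W4c1limliniiii.LGPoints k d r n f g A)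
    (φ : A →ₐ[k] B) : (fun i => Module.Grassmannian.map φ (V i)) ∈ W4c1limliniiii.LGPoints k d r n f g B := by
  intro i
  have key : ∀ (L : (Fin d → k) →ₗ[k] (Fin d → k)) (a b : Fin (n + 1)),
      Submodule.map (L.baseChange A) (V a).toSubmodule ≤ (V b).toSubmodule →
      Submodule.map (L.baseChange B) (Module.Grassmannian.map φ (V a)).toSubmodule ≤
        (Module.Grassmannian.map φ (V b)).toSubmodule := by
    intro L a b h
    rw [map_toSubmodule_eq φ (V a), Submodule.map_span_le]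
    rintro _ ⟨y, hy, rfl⟩
    rw [← mapM_baseChange₂]
    exact mapM_mem φ (h ⟨y, hy, rfl⟩)
  exact ⟨key _ _ _ (hV i).1, key _ _ _ (hV i).2⟩

theorem coord_map {V : Fin (n + 1) → Pt k (Fin d → k) (d - r) A} (h : ∀ i, IsIn (C.x k i) (V i)) (φ : A →ₐ[k] B)
    (h' : ∀ i, IsIn (C.x k i) (Module.Grassmannian.map φ (V i))) :
    C.coord (V := fun i => Module.Grassmannian.map φ (V i)) h' = fun t a => φ (C.coord h t a) := by
  funext t a
  show coordsR (isIn_map φ (h (C.j t))) (Pi.single (C.s t) 1) a = _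
  rw [coordsR_map, mapCoord_apply]
  rfl

theorem good_map_iff {V : Fin (n + 1) → Pt k (Fin d → k) (d - r) A} (hV : V ∈ W4c1limliniiii.LGPoints k d r n f g A)
    (h : ∀ i, IsIn (C.x k i) (V i)) (φ : A →ₐ[k] B) :
    C.Good f g (A := B) (fun i => Module.Grassmannian.map φ (V i)) ↔ ∀ i, IsUnit (φ (C.D f g (C.coord h) i)) := by
  rw [C.good_iff (lgPoints_map hV φ)]
  refine ⟨fun ⟨h', hu⟩ i => ?_, fun hu => ⟨fun i => isIn_map φ (h i), fun i => ?_⟩⟩
  · rw [C.map_D, ← C.coord_map h φ h']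
    exact hu i
  · rw [C.coord_map h φ, ← C.map_D]
    exact hu i

theorem good_of_field {K L : Type u} [Field K] [Algebra k K] [Field L] [Algebra k L]
    {V : Fin (n + 1) → Pt k (Fin d → k) (d - r) K} (hV : V ∈ W4c1limliniiii.LGPoints k d r n f g K) (φ : K →ₐ[k] L)
    (hg : C.Good f g (A := L) fun i => Module.Grassmannian.map φ (V i)) : C.Good f g V := by
  have h : ∀ i, IsIn (C.x k i) (V i) := fun i => by
    rw [C.isIn_iff_obstr]
    have h1 := (isIn_map_iff φ).1 (C.isIn_of_good hg i)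
    refine (Ideal.eq_bot_or_top _).resolve_left fun h2 => ?_
    rw [h2, Ideal.map_bot] at h1
    exact bot_ne_top h1
  refine (C.good_iff hV).2 ⟨h, fun i => isUnit_iff_ne_zero.2 fun h0 => ?_⟩
  exact ((C.good_map_iff hV h φ).1 hg i).ne_zero (by rw [h0, map_zero])

theorem good_iff_residue {V : Fin (n + 1) → Pt k (Fin d → k) (d - r) A} (hV : V ∈ W4c1limliniiii.LGPoints k d r n f g A) :
    C.Good f g V ↔ ∀ q : PrimeSpectrum A, C.Good f g (A := q.asIdeal.ResidueField)
      fun i => Module.Grassmannian.map (IsScalarTower.toAlgHom k A q.asIdeal.ResidueField) (V i) := by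
  refine ⟨fun hg q => C.good_map hg _, fun hq => ?_⟩
  have h : ∀ i, IsIn (C.x k i) (V i) := fun i => by
    rw [C.isIn_iff_obstr]
    by_contra hne
    obtain ⟨m, hm, hle⟩ := Ideal.exists_le_maximal _ hne
    let q : PrimeSpectrum A := ⟨m, hm.isPrime⟩
    have h1 := (isIn_map_iff _).1 (C.isIn_of_good (hq q) i)
    refine bot_ne_top ((le_antisymm bot_le ?_).trans h1)
    rw [Ideal.map_le_iff_le_comap]
    intro a ha
    exact Ideal.algebraMap_residueField_eq_zero.2 (show a ∈ q.asIdeal from hle ha)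
  refine (C.good_iff hV).2 ⟨h, fun i => ?_⟩
  by_contra hu
  obtain ⟨m, hm, hmem⟩ := exists_max_ideal_of_mem_nonunits hu
  let q : PrimeSpectrum A := ⟨m, hm.isPrime⟩
  exact ((C.good_map_iff hV h _).1 (hq q) i).ne_zero
    ((Ideal.algebraMap_residueField_eq_zero (I := q.asIdeal)).2 hmem)

theorem good_spread {V : Fin (n + 1) → Pt k (Fin d → k) (d - r) A} (hV : V ∈ W4c1limliniiii.LGPoints k d r n f g A)
    {p : PrimeSpectrum A} (hp : C.Good f g (A := p.asIdeal.ResidueField)
      fun i => Module.Grassmannian.map (IsScalarTower.toAlgHom k A p.asIdeal.ResidueField) (V i)) :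
    ∃ a : A, a ∉ p.asIdeal ∧ ∀ q : PrimeSpectrum A, a ∉ q.asIdeal → C.Good f g (A := q.asIdeal.ResidueField)
      fun i => Module.Grassmannian.map (IsScalarTower.toAlgHom k A q.asIdeal.ResidueField) (V i) := by
  have hf : ∀ i, ∃ a ∈ obstr (C.x k i) (V i), a ∉ p.asIdeal := fun i => by
    refine SetLike.not_le_iff_exists.1 fun hle => bot_ne_top ((le_antisymm bot_le ?_).trans
      ((isIn_map_iff _).1 (C.isIn_of_good hp i)))
    rw [Ideal.map_le_iff_le_comap]
    intro a ha
    exact Ideal.algebraMap_residueField_eq_zero.2 (hle ha)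
  choose a ha hap using hf
  let g₀ := ∏ i, a i
  let L := Localization.Away g₀
  let ψ : A →ₐ[k] L := IsScalarTower.toAlgHom k A L
  have hg₀ : g₀ ∉ p.asIdeal := fun hm => by
    obtain ⟨i, -, hi⟩ := Ideal.IsPrime.prod_mem_iff.1 hm
    exact hap i hi
  have h : ∀ i, IsIn (C.x k i) (Module.Grassmannian.map ψ (V i)) := fun i => by
    rw [isIn_map_iff]
    refine Ideal.eq_top_of_isUnit_mem _ (Ideal.mem_map_of_mem _ (ha i)) ?_
    exact IsLocalization.Away.algebraMap_isUnit_iff (x := g₀) |>.2 ⟨1, by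
      rw [pow_one]; exact Finset.dvd_prod_of_mem a (Finset.mem_univ i)⟩
  let V' : Fin (n + 1) → Pt k (Fin d → k) (d - r) L := fun i => Module.Grassmannian.map ψ (V i)
  let E : L := ∏ i, C.D f g (C.coord (V := V') h) i
  obtain ⟨⟨b, _, m, rfl⟩, hb⟩ := IsLocalization.surj (Submonoid.powers g₀) E
  have key : ∀ q : PrimeSpectrum A, g₀ ∉ q.asIdeal → ∃ φ : L →ₐ[k] q.asIdeal.ResidueField,
      φ.comp ψ = IsScalarTower.toAlgHom k A q.asIdeal.ResidueField ∧
      ((∀ i, IsUnit (φ (C.D f g (C.coord (V := V') h) i))) ↔ b ∉ q.asIdeal) := fun q hq => by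
    have hu : ∀ y : Submonoid.powers g₀, IsUnit (IsScalarTower.toAlgHom k A q.asIdeal.ResidueField y) := by
      rintro ⟨_, l, rfl⟩
      rw [isUnit_iff_ne_zero]
      exact fun h0 => hq (q.2.mem_of_pow_mem l (Ideal.algebraMap_residueField_eq_zero.1 h0))
    let φ : L →ₐ[k] q.asIdeal.ResidueField := IsLocalization.liftAlgHom (M := Submonoid.powers g₀) (S := L) hu
    have hφ : ∀ y, φ (ψ y) = algebraMap A q.asIdeal.ResidueField y := fun y => by
      show φ (algebraMap A L y) = _
      simp [φ, IsLocalization.liftAlgHom]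
    refine ⟨φ, AlgHom.ext hφ, ?_⟩
    simp only [isUnit_iff_ne_zero]
    have hE : φ E * φ (ψ (g₀ ^ m)) = φ (ψ b) := by
      rw [← map_mul]
      exact congrArg φ hb
    rw [hφ, hφ] at hE
    have h2 : (∀ i, φ (C.D f g (C.coord (V := V') h) i) ≠ 0) ↔ φ E ≠ 0 := by
      simp [E, map_prod, Finset.prod_ne_zero_iff]
    rw [h2, ← Ideal.algebraMap_residueField_eq_zero.not, ← hE]
    refine ⟨fun h0 => mul_ne_zero h0 fun h1 => hq (q.2.mem_of_pow_mem m (Ideal.algebraMap_residueField_eq_zero.1 h1)),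
      fun h0 h1 => h0 (by rw [h1, zero_mul])⟩
  have hgood : ∀ q : PrimeSpectrum A, g₀ ∉ q.asIdeal → (C.Good f g (A := q.asIdeal.ResidueField)
      (fun i => Module.Grassmannian.map (IsScalarTower.toAlgHom k A q.asIdeal.ResidueField) (V i)) ↔ b ∉ q.asIdeal) :=
    fun q hq => by
      obtain ⟨φ, hφ, hiff⟩ := key q hq
      rw [← hiff, ← C.good_map_iff (lgPoints_map hV ψ) h φ]
      simp only [GrassLib.map_map, hφ]
  refine ⟨g₀ * b, fun hm => (p.2.mem_or_mem hm).elim hg₀ ((hgood p hg₀).1 hp), fun q hq => ?_⟩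
  exact (hgood q fun h1 => hq (Ideal.mul_mem_right _ _ h1)).2 fun h1 => hq (Ideal.mul_mem_left _ _ h1)

/-- The linked tuple of given coordinates. -/
theorem exists_tuple (s : k) (hI : ∀ i, (f i).comp (g i) = s • LinearMap.id ∧ (g i).comp (f i) = s • LinearMap.id)
    {c : C.σ → Fin (d - r) → A} (hu : ∀ i, IsUnit (C.D f g c i)) :
    ∃ N ∈ W4c1limliniiii.LGPoints k d r n f g A, ∀ i, (N i).toSubmodule = Submodule.span A (Set.range (C.row f g c i)) := by
  choose N _ hN using fun i => C.exists_pt f g (hu i)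
  have hc := fun i (hi : i < n) => comp_fwd f g s hI A hi
  refine ⟨N, fun i => ⟨?_, ?_⟩, hN⟩
  · rw [hN, hN, Submodule.map_span_le, ← fwd_of_lt f A i.2]
    rintro _ ⟨t, rfl⟩
    show ((fwd f A i).comp (trans (fwd f A) (fwd g A) i (C.j t))) (C.vec c t) ∈ _
    rcases le_or_gt (C.j t : ℕ) i with h | h
    · rw [F_trans _ _ h]
      exact Submodule.subset_span ⟨t, rfl⟩
    · rw [F_trans_of_gt _ _ h _ (hc i i.2).1]
      exact Submodule.smul_mem _ _ (Submodule.subset_span ⟨t, rfl⟩)
  · rw [hN, hN, Submodule.map_span_le, ← fwd_of_lt g A i.2]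
    rintro _ ⟨t, rfl⟩
    show ((fwd g A i).comp (trans (fwd f A) (fwd g A) (i + 1) (C.j t))) (C.vec c t) ∈ _
    rcases le_or_gt (C.j t : ℕ) i with h | h
    · rw [G_trans_of_le _ _ h _ (hc i i.2).2]
      exact Submodule.smul_mem _ _ (Submodule.subset_span ⟨t, rfl⟩)
    · rw [G_trans _ _ h]
      exact Submodule.subset_span ⟨t, rfl⟩

end ChartData

end LinkedGrassLib

end
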