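import Groth.Agent.LinkedGrassLib.Lift
import Groth.Agent.SmoothLiftLib.Local
import Groth.Agent.S13927

/-!
# Linked Grassmannians are smooth at exact rational points
-/

set_option autoImplicit false
set_option linter.style.haveILetI false
set_option linter.unusedSectionVars false

universe u

open TensorProduct CategoryTheory AlgebraicGeometry GrassLib

noncomputable section

namespace LinkedGrassLib

/-- Two schemes over the base with the same algebra valued points are isomorphic. -/
theorem exists_iso_of_points {R : Type u} [CommRing R] (X Y : Over (base R))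
    (F : ∀ A : CommAlgCat.{u} R, (Over.mk (sp A) ⟶ X) ≃ (Over.mk (sp A) ⟶ Y))
    (hF : ∀ (A B : CommAlgCat.{u} R) (φ : A →ₐ[R] B) (x : Over.mk (sp A) ⟶ X) (x' : Over.mk (sp B) ⟶ X),
      x'.left = spHom φ ≫ x.left → (F B x').left = spHom φ ≫ (F A x).left) :
    ∃ i : X.left ≅ Y.left, i.hom ≫ Y.hom = X.hom := by
  obtain ⟨a, ha, -⟩ := existsUnique_hom_of_natural (fun A (p : APt X.hom A) => (F A (Over.homMk p.hom p.over)).left)
    (fun A B φ p => hF A B φ (Over.homMk p.hom p.over) (Over.homMk (p.res φ).hom (p.res φ).over) rfl)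
  have hinv : ∀ (A B : CommAlgCat.{u} R) (φ : A →ₐ[R] B) (p : APt Y.hom A),
      ((F B).symm (Over.homMk (p.res φ).hom (p.res φ).over)).left =
        spHom φ ≫ ((F A).symm (Over.homMk p.hom p.over)).left := fun A B φ p => by
    let x := (F A).symm (Over.homMk p.hom p.over)
    let x' : Over.mk (sp B) ⟶ X := Over.homMk (spHom φ ≫ x.left) (by
      show (_ ≫ _) ≫ _ = sp B
      rw [Category.assoc, show x.left ≫ X.hom = sp A from Over.w x, spHom_sp])
    have h : F B x' = Over.homMk (p.res φ).hom (p.res φ).over := Over.OverMorphism.ext (by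
      rw [hF A B φ x x' rfl, Equiv.apply_symm_apply]
      rfl)
    rw [← h, Equiv.symm_apply_apply]
    rfl
  obtain ⟨b, hb, -⟩ := existsUnique_hom_of_natural (fun A (p : APt Y.hom A) => ((F A).symm (Over.homMk p.hom p.over)).left) hinv
  have hav : a ≫ Y.hom = X.hom := X.left.affineCover.hom_ext _ _ fun i => by
    obtain ⟨A, e, p, hp, -⟩ := exists_aPt_cover X.hom i
    rw [← cancel_epi e.hom, ← Category.assoc, ← Category.assoc, ← Category.assoc, ← hp, ha A p, p.over]
    exact Over.w (F A (Over.homMk p.hom p.over))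
  have hbv : b ≫ X.hom = Y.hom := Y.left.affineCover.hom_ext _ _ fun i => by
    obtain ⟨A, e, p, hp, -⟩ := exists_aPt_cover Y.hom i
    rw [← cancel_epi e.hom, ← Category.assoc, ← Category.assoc, ← Category.assoc, ← hp, hb A p, p.over]
    exact Over.w ((F A).symm (Over.homMk p.hom p.over))
  refine ⟨⟨a, b, X.left.affineCover.hom_ext _ _ fun i => ?_, Y.left.affineCover.hom_ext _ _ fun i => ?_⟩, hav⟩
  · obtain ⟨A, e, p, hp, -⟩ := exists_aPt_cover X.hom i
    rw [← cancel_epi e.hom, Category.comp_id, ← hp, ← Category.assoc, ← Category.assoc, ← hp, ha A p]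
    let q : APt Y.hom A := ⟨(F A (Over.homMk p.hom p.over)).left, Over.w (F A (Over.homMk p.hom p.over))⟩
    show q.hom ≫ b = p.hom
    rw [hb A q, show (Over.homMk q.hom q.over : Over.mk (sp A) ⟶ Y) = F A (Over.homMk p.hom p.over) from
      Over.OverMorphism.ext rfl, Equiv.symm_apply_apply]
    rfl
  · obtain ⟨A, e, p, hp, -⟩ := exists_aPt_cover Y.hom i
    rw [← cancel_epi e.hom, Category.comp_id, ← hp, ← Category.assoc, ← Category.assoc, ← hp, hb A p]
    let q : APt X.hom A := ⟨((F A).symm (Over.homMk p.hom p.over)).left, Over.w ((F A).symm (Over.homMk p.hom p.over))⟩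
    show q.hom ≫ a = p.hom
    rw [ha A q, show (Over.homMk q.hom q.over : Over.mk (sp A) ⟶ X) = (F A).symm (Over.homMk p.hom p.over) from
      Over.OverMorphism.ext rfl, Equiv.apply_symm_apply]
    rfl

theorem exists_residueFieldHom {X : Scheme.{u}} (K : Type u) [Field K] (h : Spec (CommRingCat.of K) ⟶ X)
    (p : Spec (CommRingCat.of K)) (y : X) (hy : h p = y) :
    ∃ π : X.residueField y ⟶ CommRingCat.of K, Spec.map π ≫ X.fromSpecResidueField y = h := by
  obtain ⟨⟨z, π⟩, hπ⟩ := (Scheme.SpecToEquivOfField K X).symm.surjective h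
  rw [Scheme.SpecToEquivOfField_symm_apply] at hπ
  obtain rfl : z = y := by
    rw [← hy, ← hπ]
    exact (Scheme.fromSpecResidueField_apply z _).symm
  exact ⟨π, hπ⟩

/-- Field points over a rational point come from the rational point. -/
theorem eq_of_rational {k : Type u} [Field k] (X : Over (base k)) (x : Spec (CommRingCat.of k) ⟶ X.left)
    (hx : x ≫ X.hom = sp (CommAlgCat.of k k)) (p₀ : Spec (CommRingCat.of k)) (L : Type u) [Field L] [Algebra k L]
    (h : Spec (CommRingCat.of L) ⟶ X.left) (hh : h ≫ X.hom = sp (CommAlgCat.of k L))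
    (q : Spec (CommRingCat.of L)) (hq : h q = x p₀) :
    h = spHom (A := CommAlgCat.of k k) (B := CommAlgCat.of k L) (Algebra.ofId k L) ≫ x := by
  obtain ⟨π, hπ⟩ := exists_residueFieldHom k x p₀ (x p₀) rfl
  obtain ⟨π', hπ'⟩ := exists_residueFieldHom L h q (x p₀) hq
  obtain ⟨ψ, hψ⟩ := Spec.map_surjective (X.left.fromSpecResidueField (x p₀) ≫ X.hom)
  have h1 : ψ ≫ π = CommRingCat.ofHom (algebraMap k k) := Spec.map_injective (by
    rw [Spec.map_comp, hψ, ← Category.assoc, hπ]
    exact hx)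
  have h2 : ψ ≫ π' = CommRingCat.ofHom (algebraMap k L) := Spec.map_injective (by
    rw [Spec.map_comp, hψ, ← Category.assoc, hπ']
    exact hh)
  have e : π' = π ≫ CommRingCat.ofHom (algebraMap k L) := by
    refine CommRingCat.hom_ext (RingHom.ext fun z => ?_)
    have hz : ψ (π z) = z := π.hom.injective (congr($h1 (π z)))
    calc π' z = π' (ψ (π z)) := by rw [hz]
      _ = algebraMap k L (π z) := congr($h2 (π z))
  refine hπ'.symm.trans ?_
  rw [e, Spec.map_comp, Category.assoc]
  exact congrArg _ hπ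

variable {k : Type u} [Field k] {d r n : ℕ} {f g : Fin n → ((Fin d → k) →ₗ[k] (Fin d → k))}

/-- A natural bijection with linked tuples. -/
structure LGRep (k : Type u) [Field k] (d r n : ℕ) (f g : Fin n → ((Fin d → k) →ₗ[k] (Fin d → k))) where
  X : Over (base k)
  e : ∀ A : CommAlgCat.{u} k, (Over.mk (sp A) ⟶ X) ≃ W4c1limliniiii.LGPoints k d r n f g A
  he : ∀ (A B : CommAlgCat.{u} k) (φ : A →ₐ[k] B) (x : Over.mk (sp A) ⟶ X) (x' : Over.mk (sp B) ⟶ X),
    x'.left = spHom φ ≫ x.left → ∀ i, (e B x').1 i = Module.Grassmannian.map φ ((e A x).1 i)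

theorem LGRep.locallyOfFinitePresentation (P : LGRep k d r n f g) : LocallyOfFinitePresentation P.X.hom := by
  obtain ⟨Y, eY, heY, hY⟩ := Groth.Agent.S13927.result k d r n f g
  let F : ∀ A : CommAlgCat.{u} k, (Over.mk (sp A) ⟶ P.X) ≃ (Over.mk (sp A) ⟶ Y) :=
    fun A => (P.e A).trans (eY A).symm
  obtain ⟨i, hi⟩ := exists_iso_of_points P.X Y F (fun A B φ x x' hx => by
    let y := F A x
    let y' : Over.mk (sp B) ⟶ Y := Over.homMk (spHom φ ≫ y.left) (by
      show (_ ≫ _) ≫ _ = sp B
      rw [Category.assoc, show y.left ≫ Y.hom = sp A from Over.w y, spHom_sp])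
    have h : F B x' = y' := by
      show (eY B).symm (P.e B x') = y'
      rw [Equiv.symm_apply_eq]
      refine Subtype.ext (funext fun j => ?_)
      rw [P.he A B φ x x' hx, heY A B (CommAlgCat.ofHom φ) y y' rfl j,
        show eY A y = P.e A x from (eY A).apply_symm_apply _]
      rfl
    rw [h]
    rfl)
  haveI : IsLocallyNoetherian (base k) := inferInstance
  haveI : IsProper P.X.hom := by
    haveI := hY
    rw [← hi]
    infer_instance
  infer_instance

theorem LGRep.liftsAt (P : LGRep k d r n f g) (s : k)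
    (hI : ∀ i, (f i).comp (g i) = s • LinearMap.id ∧ (g i).comp (f i) = s • LinearMap.id) (hrd : r ≤ d)
    (hIII : ∀ i j : Fin n, i.val + 1 = j.val → LinearMap.range (f i) ⊓ LinearMap.ker (f j) = ⊥)
    (x : Over.mk (sp (CommAlgCat.of k k)) ⟶ P.X)
    (hx : W4c1limliniiii.IsExact k d r n f g k (P.e (CommAlgCat.of k k) x).1) (p₀ : Spec (CommRingCat.of k)) :
    SmoothLiftLib.LiftsAt P.X.hom (x.left p₀) := by
  intro B B' _ _ _ _ φ hφ _ α β hα hw
  letI : Algebra k B' := (Spec.preimage β).hom.toAlgebra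
  letI : Algebra k B := (φ.comp (algebraMap k B')).toAlgebra
  let B₁ : CommAlgCat.{u} k := CommAlgCat.of k B
  let B₂ : CommAlgCat.{u} k := CommAlgCat.of k B'
  let φ' : B' →ₐ[k] B := { φ with commutes' := fun a => rfl }
  have hβ : β = sp B₂ := (Spec.map_preimage β).symm
  have hαo : α ≫ P.X.hom = sp B₁ := by
    rw [← hw, hβ]
    exact spHom_sp (A := B₂) (B := B₁) φ'
  let L := IsLocalRing.ResidueField B
  let L₁ : CommAlgCat.{u} k := CommAlgCat.of k L
  let ρ : B →ₐ[k] L := IsScalarTower.toAlgHom k B L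
  let a : Over.mk (sp B₁) ⟶ P.X := Over.homMk α hαo
  let xL : Over.mk (sp L₁) ⟶ P.X := Over.homMk (spHom (A := B₁) (B := L₁) ρ ≫ α) (by
    show (_ ≫ _) ≫ _ = sp L₁
    rw [Category.assoc, hαo, spHom_sp])
  have hres : xL.left = spHom (A := CommAlgCat.of k k) (B := L₁) (Algebra.ofId k L) ≫ x.left := by
    refine eq_of_rational P.X x.left (Over.w x) p₀ L xL.left (Over.w xL) (IsLocalRing.closedPoint L) ?_
    show (spHom (A := B₁) (B := L₁) ρ ≫ α) (IsLocalRing.closedPoint L) = _
    rw [Scheme.Hom.comp_apply, ← hα]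
    congr 1
    exact SmoothLiftLib.closedPoint_specMap (B := L) (B' := B) ρ.toRingHom Ideal.Quotient.mk_surjective
  obtain ⟨N', hN', hN''⟩ := exists_lift f g s hI hrd hIII (P.e _ x).1 (P.e _ x).2 hx φ' hφ ρ
    Ideal.Quotient.mk_surjective (P.e B₁ a).1 (P.e B₁ a).2 (fun i => by
      rw [← P.he B₁ L₁ ρ a xL rfl i, ← P.he (CommAlgCat.of k k) L₁ (Algebra.ofId k L) x xL hres i])
  let γ := (P.e B₂).symm ⟨N', hN'⟩
  let γ' : Over.mk (sp B₁) ⟶ P.X := Over.homMk (spHom (A := B₂) (B := B₁) φ' ≫ γ.left) (by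
    show (_ ≫ _) ≫ _ = sp B₁
    rw [Category.assoc, show γ.left ≫ P.X.hom = sp B₂ from Over.w γ, spHom_sp])
  refine ⟨γ.left, ?_, (Over.w γ).trans hβ.symm⟩
  have h : γ' = a := (P.e B₁).injective (Subtype.ext (funext fun i => by
    rw [P.he B₂ B₁ φ' γ γ' rfl i, Equiv.apply_symm_apply]
    exact hN'' i))
  exact congrArg CommaMorphism.left h

end LinkedGrassLib

end
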