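import Groth.Agent.LinkedGrassLib.Deg
import Groth.Agent.LinkedGrassLib.Smooth

/-!
# The exact locus of a linked Grassmannian is open and dense
-/

set_option autoImplicit false
set_option linter.style.haveILetI false
set_option linter.unusedSectionVars false

universe u

open TensorProduct CategoryTheory AlgebraicGeometry GrassLib

noncomputable section

namespace LinkedGrassLib

variable {k : Type u} [Field k] {d r n : ℕ} {f g : Fin n → ((Fin d → k) →ₗ[k] (Fin d → k))}

section Adapted

variable {K : Type u} [Field K] {E : Type u} [AddCommGroup E] [Module K E] [FiniteDimensional K E]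

theorem exists_adapted_exact {A B : ℕ → (E →ₗ[K] E)} {V : ℕ → Submodule K E} (hc : Chain0 n A B)
    (hV : Linked n r A B V) (hex : ∀ i < n, rkA A V i + rkB B V i = r) :
    ∃ (σ : Type) (_ : Fintype σ) (j : σ → Fin (n + 1)) (w : σ → E), Fintype.card σ = r ∧
      (∀ t, w t ∈ V (j t)) ∧ ∀ i ≤ n, V i ≤ Submodule.span K (Set.range fun t => trans A B i (j t) (w t)) := by
  obtain ⟨W, hW1, hW2, hW3⟩ := exists_adapted_zero A B n V hV.mapA hV.mapB r hV.rank hc.BA
    (fun i hi => (ker_le_of_rank_eq hc hV hi (hex i hi)).1) hc.AB hc.inter_A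
  haveI : ∀ j : Fin (n + 1), Module.Free K (W j) := fun j => Module.Free.of_divisionRing (K := K) (V := W j)
  let b : ∀ j : Fin (n + 1), Module.Basis (Fin (Module.finrank K (W j))) K (W j) := fun j => Module.finBasis K (W j)
  refine ⟨Σ j : Fin (n + 1), Fin (Module.finrank K (W j)), inferInstance, Sigma.fst,
    fun t => (b t.1 t.2 : E), ?_, fun t => hW1 _ (Nat.le_of_lt_succ t.1.2) (b t.1 t.2).2, fun i hi => ?_⟩
  · rw [Fintype.card_sigma]
    simp only [Fintype.card_fin]
    rw [← hW2, Finset.sum_range]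
  · refine (hW3 i hi).trans (iSup₂_le fun j hj => ?_)
    rintro _ ⟨y, hy, rfl⟩
    obtain ⟨j, rfl⟩ : ∃ j' : Fin (n + 1), (j' : ℕ) = j := ⟨⟨j, Finset.mem_range.1 hj⟩, rfl⟩
    rw [show y = _ from (congrArg Subtype.val ((b j).sum_repr ⟨y, hy⟩)).symm, Submodule.coe_sum, map_sum]
    refine Submodule.sum_mem _ fun t _ => ?_
    rw [Submodule.coe_smul, map_smul]
    exact Submodule.smul_mem _ _ (Submodule.subset_span ⟨⟨j, t⟩, rfl⟩)

end Adapted

/-- The vector lifts up to a scalar. -/
theorem exists_scaled_lift {A : Type u} [CommRing A] [Algebra k A] (p : Ideal A) [p.IsPrime]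
    (S : Submodule A (A ⊗[k] (Fin d → k))) {y : p.ResidueField ⊗[k] (Fin d → k)}
    (hy : y ∈ mapSub (IsScalarTower.toAlgHom k A p.ResidueField) S) :
    ∃ c : p.ResidueField, c ≠ 0 ∧ ∃ x ∈ S, mapM (IsScalarTower.toAlgHom k A p.ResidueField) x = c • y := by
  let ψ := IsScalarTower.toAlgHom k A p.ResidueField
  have hfrac : ∀ z : p.ResidueField, ∃ (a c : A), ψ c ≠ 0 ∧ ψ c * z = ψ a := fun z => by
    obtain ⟨⟨a, c, hc⟩, h⟩ := IsLocalization.surj (nonZeroDivisors (A ⧸ p)) z
    obtain ⟨a, rfl⟩ := Ideal.Quotient.mk_surjective a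
    obtain ⟨c, rfl⟩ := Ideal.Quotient.mk_surjective c
    have hc' : c ∉ p := fun hm => nonZeroDivisors.ne_zero hc (Ideal.Quotient.eq_zero_iff_mem.2 hm)
    refine ⟨a, c, fun h0 => hc' (Ideal.algebraMap_residueField_eq_zero.1 h0), ?_⟩
    rw [mul_comm]
    exact h
  induction hy using Submodule.span_induction with
  | mem y hy => obtain ⟨x, hx, rfl⟩ := hy; exact ⟨1, one_ne_zero, x, hx, (one_smul _ _).symm⟩
  | zero => exact ⟨1, one_ne_zero, 0, zero_mem _, by rw [map_zero, smul_zero]⟩
  | add y z _ _ hy hz =>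
    obtain ⟨c, hc, x, hx, hxy⟩ := hy
    obtain ⟨c', hc', x', hx', hxy'⟩ := hz
    obtain ⟨a, b, hb, hab⟩ := hfrac c
    obtain ⟨a', b', hb', hab'⟩ := hfrac c'
    refine ⟨ψ a * ψ a', mul_ne_zero ?_ ?_, (b * a') • x + (b' * a) • x', add_mem (Submodule.smul_mem _ _ hx)
      (Submodule.smul_mem _ _ hx'), ?_⟩
    · rw [← hab]; exact mul_ne_zero hb hc
    · rw [← hab']; exact mul_ne_zero hb' hc'
    · rw [map_add, mapM_smul, mapM_smul, hxy, hxy', smul_smul, smul_smul, smul_add, map_mul, map_mul]
      congr 2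
      · rw [show (IsScalarTower.toAlgHom k A p.ResidueField) a' = ψ a' from rfl, mul_right_comm, hab]
      · rw [show (IsScalarTower.toAlgHom k A p.ResidueField) a = ψ a from rfl, mul_right_comm, hab', mul_comm]
  | smul e y _ hy =>
    obtain ⟨c, hc, x, hx, hxy⟩ := hy
    obtain ⟨a, b, hb, hab⟩ := hfrac e
    refine ⟨ψ b * c, mul_ne_zero hb hc, a • x, Submodule.smul_mem _ _ hx, ?_⟩
    rw [mapM_smul, hxy, smul_smul, smul_smul, show (IsScalarTower.toAlgHom k A p.ResidueField) a = ψ a from rfl, ← hab]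
    congr 1
    ring

theorem mapSub_top {A B : Type u} [CommRing A] [Algebra k A] [CommRing B] [Algebra k B] (φ : A →ₐ[k] B) :
    mapSub (d := d) φ ⊤ = ⊤ := by
  rw [mapSub, Submodule.top_coe, Set.image_univ, span_mapM_eq_top]

/-- Exactness spreads around a point. -/
theorem exists_nhd (hrd : r ≤ d) (hc : Cond0 f g) {A : Type u} [CommRing A] [Algebra k A] (N : Tup k d r n A)
    (hN : N ∈ W4c1limliniiii.LGPoints k d r n f g A) (p : PrimeSpectrum A)
    (hex : let V := tupMap (IsScalarTower.toAlgHom k A p.asIdeal.ResidueField) N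
      ∀ i < n, rkA (fwd f _) (ext0 V) i + rkB (fwd g _) (ext0 V) i = r) :
    ∃ D : A, D ∉ p.asIdeal ∧ ∀ q : PrimeSpectrum A, D ∉ q.asIdeal →
      let V := tupMap (IsScalarTower.toAlgHom k A p.asIdeal.ResidueField) N
      let W := tupMap (IsScalarTower.toAlgHom k A q.asIdeal.ResidueField) N
      ∀ i < n, rkA (fwd f _) (ext0 W) i + rkB (fwd g _) (ext0 W) i = r ∧
        rkB (fwd g _) (ext0 W) i = rkB (fwd g _) (ext0 V) i := by
  classical
  let K := p.asIdeal.ResidueField
  let ψ : A →ₐ[k] K := IsScalarTower.toAlgHom k A K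
  let V := tupMap ψ N
  have hcK := hc.chain0 K
  have hVK := linked_tup hrd (tupMap_mem ψ hN)
  obtain ⟨σ, hσ, j, w, hcard, hw, hspan⟩ := exists_adapted_exact hcK hVK hex
  have hlift : ∀ t, ∃ c : K, c ≠ 0 ∧ ∃ x ∈ ext0 N (j t), mapM ψ x = c • w t := fun t =>
    exists_scaled_lift p.asIdeal (ext0 N (j t)) (by rw [← ext0_tupMap]; exact hw t)
  choose c hc0 x hx hxw using hlift
  let u : Fin (n + 1) → σ → A ⊗[k] (Fin d → k) := fun i t => trans (fwd f A) (fwd g A) i (j t) (x t)
  have hui : ∀ i t, mapM ψ (u i t) = c t • trans (fwd f K) (fwd g K) i (j t) (w t) := fun i t => by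
    rw [mapM_trans, hxw, map_smul]
  have hspanK : ∀ i : Fin (n + 1), ext0 V i = Submodule.span K (Set.range fun t => mapM ψ (u i t)) := fun i => by
    refine le_antisymm ((hspan i (Nat.le_of_lt_succ i.2)).trans (Submodule.span_le.2 ?_)) (Submodule.span_le.2 ?_)
    · rintro _ ⟨t, rfl⟩
      show trans (fwd f K) (fwd g K) i (j t) (w t) ∈ Submodule.span K _
      rw [show trans (fwd f K) (fwd g K) i (j t) (w t) = (c t)⁻¹ • mapM ψ (u i t) by
        rw [hui, smul_smul, inv_mul_cancel₀ (hc0 t), one_smul]]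
      exact Submodule.smul_mem _ _ (Submodule.subset_span ⟨t, rfl⟩)
    · rintro _ ⟨t, rfl⟩
      show mapM ψ (u i t) ∈ ext0 V i
      rw [hui]
      exact Submodule.smul_mem _ _ (map_trans_le (fwd f K) (fwd g K) (ext0 V) hVK.mapA hVK.mapB
        (Nat.le_of_lt_succ i.2) (Nat.le_of_lt_succ (j t).2) ⟨w t, hw t, rfl⟩)
  have hdet : ∀ i : Fin (n + 1), ∃ D : A, D ∉ p.asIdeal ∧ ∀ q : PrimeSpectrum A, D ∉ q.asIdeal →
      LinearIndependent q.asIdeal.ResidueField
        fun t => mapM (IsScalarTower.toAlgHom k A q.asIdeal.ResidueField) (u i t) := fun i => by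
    have hli : LinearIndependent K fun t => mapM ψ (u i t) := by
      rw [linearIndependent_iff_card_eq_finrank_span, Set.finrank, ← hspanK i, hVK.rank i (Nat.le_of_lt_succ i.2), hcard]
    obtain ⟨C, hC⟩ := Submodule.exists_isCompl (Submodule.span K (Set.range fun t => mapM ψ (u i t)))
    haveI : Module.Free K C := Module.Free.of_divisionRing (K := K) (V := C)
    let bC := Module.finBasis K C
    have he : ∀ a, ∃ e : K, e ≠ 0 ∧ ∃ y ∈ (⊤ : Submodule A (A ⊗[k] (Fin d → k))),
        mapM ψ y = e • (bC a : K ⊗[k] (Fin d → k)) := fun a =>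
      exists_scaled_lift p.asIdeal ⊤ (by rw [mapSub_top]; trivial)
    choose e he0 y hy hye using he
    let z : σ ⊕ Fin (Module.finrank K C) → A ⊗[k] (Fin d → k) := Sum.elim (u i) y
    have hcard' : Fintype.card (σ ⊕ Fin (Module.finrank K C)) = d := by
      have h1 := Submodule.finrank_add_eq_of_isCompl hC
      rw [finrank_span_eq_card hli, Module.finrank_baseChange, Module.finrank_fin_fun] at h1
      rw [Fintype.card_sum, Fintype.card_fin, h1]
    let eι := Fintype.equivFinOfCardEq hcard'
    let M : Matrix (Fin d) (Fin d) A := Matrix.of fun a => TensorProduct.piScalarRight k A A (Fin d) (z (eι.symm a))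
    have hM : ∀ {B : Type u} [CommRing B] [Algebra k B] (φ : A →ₐ[k] B),
        M.map φ = Matrix.of fun a => TensorProduct.piScalarRight k B B (Fin d) (mapM φ (z (eι.symm a))) := by
      intro B _ _ φ
      refine Matrix.ext fun a b => ?_
      show φ (TensorProduct.piScalarRight k A A (Fin d) (z (eι.symm a)) b) =
        TensorProduct.piScalarRight k B B (Fin d) (mapM φ (z (eι.symm a))) b
      generalize z (eι.symm a) = m
      induction m using TensorProduct.induction_on with
      | zero => simp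
      | tmul a v => simp [Algebra.smul_def, mul_comm]
      | add m m' h h' => simp at h h' ⊢; rw [h, h']
    have hrows : ∀ {B : Type u} [Field B] [Algebra k B] (φ : A →ₐ[k] B),
        IsUnit (M.map φ) ↔ LinearIndependent B fun a => mapM φ (z a) := by
      intro B _ _ φ
      rw [← Matrix.linearIndependent_rows_iff_isUnit, hM φ]
      refine (LinearMap.linearIndependent_iff (TensorProduct.piScalarRight k B B (Fin d)).toLinearMap
        (LinearEquiv.ker _)).trans ?_
      exact linearIndependent_equiv eι.symm (f := fun a => mapM φ (z a))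
    refine ⟨M.det, fun hm => ?_, fun q hq => ?_⟩
    · have hzK : LinearIndependent K fun a => mapM ψ (z a) := by
        refine linearIndependent_of_top_le_span_of_card_eq_finrank ?_ (hcard'.trans
          (by rw [Module.finrank_baseChange, Module.finrank_fin_fun]))
        rw [← hC.sup_eq_top]
        refine sup_le (Submodule.span_mono ?_) fun v hv => ?_
        · rintro _ ⟨t, rfl⟩
          exact ⟨Sum.inl t, rfl⟩
        · rw [show v = _ from (congrArg Subtype.val (bC.sum_repr ⟨v, hv⟩)).symm, Submodule.coe_sum]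
          refine Submodule.sum_mem _ fun a _ => ?_
          rw [Submodule.coe_smul, show (bC a : K ⊗[k] (Fin d → k)) = (e a)⁻¹ • mapM ψ (y a) by
            rw [hye, smul_smul, inv_mul_cancel₀ (he0 a), one_smul], smul_smul]
          exact Submodule.smul_mem _ _ (Submodule.subset_span ⟨Sum.inr a, rfl⟩)
      have h1 := (hrows ψ).2 hzK
      rw [Matrix.isUnit_iff_isUnit_det, show (M.map ψ).det = ψ M.det from (RingHom.map_det ψ.toRingHom M).symm,
        isUnit_iff_ne_zero] at h1
      exact h1 (Ideal.algebraMap_residueField_eq_zero.2 hm)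
    · have h1 : IsUnit (M.map (IsScalarTower.toAlgHom k A q.asIdeal.ResidueField)) := by
        rw [Matrix.isUnit_iff_isUnit_det, ← AlgHom.mapMatrix_apply, ← AlgHom.map_det, isUnit_iff_ne_zero]
        exact fun h0 => hq (Ideal.algebraMap_residueField_eq_zero.1 h0)
      exact ((hrows _).1 h1).comp Sum.inl Sum.inl_injective
  choose D hD hDli using hdet
  refine ⟨∏ i, D i, fun h => ?_, fun q hq => ?_⟩
  · obtain ⟨i, -, hi⟩ := (Ideal.IsPrime.prod_mem_iff).1 h
    exact hD i hi
  intro V' W i hi
  let L := q.asIdeal.ResidueField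
  let φ : A →ₐ[k] L := IsScalarTower.toAlgHom k A L
  have hWL := linked_tup hrd (tupMap_mem φ hN)
  let wL : σ → L ⊗[k] (Fin d → k) := fun t => mapM φ (x t)
  have hwL : ∀ t, wL t ∈ ext0 W (j t) := fun t => by
    rw [ext0_tupMap]
    exact Submodule.subset_span ⟨x t, hx t, rfl⟩
  have hWspan : ∀ l ≤ n, ext0 W l ≤ Submodule.span L (Set.range fun t => trans (fwd f L) (fwd g L) l (j t) (wL t)) :=
    fun l hl => by
      have hli := hDli ⟨l, Nat.lt_succ_of_le hl⟩ q fun h => hq (Ideal.IsPrime.prod_mem_iff.2 ⟨_, Finset.mem_univ _, h⟩)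
      refine (Submodule.eq_of_le_of_finrank_eq (Submodule.span_le.2 ?_) ?_).ge
      · rintro _ ⟨t, rfl⟩
        exact map_trans_le (fwd f L) (fwd g L) (ext0 W) hWL.mapA hWL.mapB hl (Nat.le_of_lt_succ (j t).2)
          ⟨wL t, hwL t, rfl⟩
      · rw [hWL.rank l hl, ← hcard, show (fun t => trans (fwd f L) (fwd g L) l (j t) (wL t)) =
          fun t => mapM φ (u ⟨l, Nat.lt_succ_of_le hl⟩ t) from funext fun t => (mapM_trans f g φ l (j t) (x t)).symm]
        exact finrank_span_eq_card hli
  have h1 := ranks_of_adapted (hc.chain0 L) hWL (fun t => (j t : ℕ)) wL hcard hwL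
    (fun t => Nat.le_of_lt_succ (j t).2) hWspan hi
  have h2 := ranks_of_adapted hcK hVK (fun t => (j t : ℕ)) w hcard hw (fun t => Nat.le_of_lt_succ (j t).2) hspan hi
  exact ⟨h1.1, h1.2.trans h2.2.symm⟩

section Topology

variable (P : LGRep k d r n f g)

/-- The point of a tuple over a field. -/
def img {K : Type u} [Field K] [Algebra k K] (V : Tup k d r n K) (hV : V ∈ W4c1limliniiii.LGPoints k d r n f g K) :
    P.X.left :=
  ((P.e (CommAlgCat.of k K)).symm ⟨V, hV⟩).left (IsLocalRing.closedPoint K)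

/-- The residue algebra of a point. -/
def resAlg (y : P.X.left) : Algebra k (P.X.left.residueField y) :=
  (Spec.preimage (P.X.left.fromSpecResidueField y ≫ P.X.hom)).hom.toAlgebra

/-- The tuple at a point. -/
def valAt (y : P.X.left) : letI := resAlg P y; Tup k d r n (P.X.left.residueField y) :=
  letI := resAlg P y
  (P.e (CommAlgCat.of k (P.X.left.residueField y))
    (Over.homMk (P.X.left.fromSpecResidueField y) (Spec.map_preimage _).symm)).1

theorem valAt_mem (y : P.X.left) :
    letI := resAlg P y; valAt P y ∈ W4c1limliniiii.LGPoints k d r n f g (P.X.left.residueField y) :=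
  letI := resAlg P y
  (P.e (CommAlgCat.of k (P.X.left.residueField y))
    (Over.homMk (P.X.left.fromSpecResidueField y) (Spec.map_preimage _).symm)).2

/-- The forward ranks at a point. -/
def aAt (y : P.X.left) (i : ℕ) : ℕ := letI := resAlg P y; rkA (fwd f _) (ext0 (valAt P y)) i

/-- The backward ranks at a point. -/
def bAt (y : P.X.left) (i : ℕ) : ℕ := letI := resAlg P y; rkB (fwd g _) (ext0 (valAt P y)) i

theorem ranks_of_point {K : Type u} [Field K] [Algebra k K] (a : Over.mk (sp (CommAlgCat.of k K)) ⟶ P.X)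
    (q : Spec (CommRingCat.of K)) (i : ℕ) :
    aAt P (a.left q) i = rkA (fwd f K) (ext0 (P.e (CommAlgCat.of k K) a).1) i ∧
      bAt P (a.left q) i = rkB (fwd g K) (ext0 (P.e (CommAlgCat.of k K) a).1) i := by
  obtain ⟨π, hπ⟩ := exists_residueFieldHom K a.left q (a.left q) rfl
  letI := resAlg P (a.left q)
  obtain ⟨φ, hφ⟩ := exists_spHom (A := CommAlgCat.of k (P.X.left.residueField (a.left q))) (B := CommAlgCat.of k K)
    (Spec.map π) (by
      have h := congrArg (· ≫ P.X.hom) hπ
      simp only [Category.assoc] at h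
      rw [← Spec.map_preimage (P.X.left.fromSpecResidueField (a.left q) ≫ P.X.hom)] at h
      exact h.trans (Over.w a))
  have hV : (P.e (CommAlgCat.of k K) a).1 = tupMap φ (valAt P (a.left q)) := funext fun l =>
    P.he _ (CommAlgCat.of k K) φ (Over.homMk (P.X.left.fromSpecResidueField (a.left q)) (Spec.map_preimage _).symm) a
      (by rw [hφ]; exact hπ.symm) l
  rw [hV]
  exact ⟨((rkA_tupMap (f := f) (g := g) φ _ i).1).symm, ((rkA_tupMap (f := f) (g := g) φ _ i).2).symm⟩

theorem ranks_img {K : Type u} [Field K] [Algebra k K] (V : Tup k d r n K)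
    (hV : V ∈ W4c1limliniiii.LGPoints k d r n f g K) (i : ℕ) :
    aAt P (img P V hV) i = rkA (fwd f K) (ext0 V) i ∧ bAt P (img P V hV) i = rkB (fwd g K) (ext0 V) i := by
  have h := ranks_of_point P ((P.e (CommAlgCat.of k K)).symm ⟨V, hV⟩) (IsLocalRing.closedPoint K) i
  rwa [Equiv.apply_symm_apply] at h

/-- A stratum of exact points. -/
def stratum (b : ℕ → ℕ) : Set P.X.left := {y | ∀ i < n, aAt P y i + bAt P y i = r ∧ bAt P y i = b i}

/-- The exact points. -/
def exactSet : Set P.X.left := {y | ∀ i < n, aAt P y i + bAt P y i = r}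

theorem isOpen_stratum (hrd : r ≤ d) (hc : Cond0 f g) (b : ℕ → ℕ) : IsOpen (stratum P b) := by
  rw [isOpen_iff_forall_mem_open]
  intro y hy
  obtain ⟨l, z, rfl⟩ := P.X.left.affineCover.exists_eq y
  obtain ⟨A, e, a, ha, hopen⟩ := exists_aPt_cover P.X.hom l
  let p : PrimeSpectrum A := e.inv z
  have hp : a.hom p = P.X.left.affineCover.f l z := by
    rw [ha, ← Scheme.Hom.comp_apply, Iso.inv_hom_id_assoc]
  let N := (P.e A (Over.homMk a.hom a.over)).1
  have key : ∀ (q : PrimeSpectrum A) (i : ℕ),
      aAt P (a.hom q) i =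
          rkA (fwd f _) (ext0 (tupMap (IsScalarTower.toAlgHom k A q.asIdeal.ResidueField) N)) i ∧
        bAt P (a.hom q) i =
          rkB (fwd g _) (ext0 (tupMap (IsScalarTower.toAlgHom k A q.asIdeal.ResidueField) N)) i := fun q i => by
    let L : CommAlgCat.{u} k := CommAlgCat.of k q.asIdeal.ResidueField
    let φ : A →ₐ[k] L := IsScalarTower.toAlgHom k A q.asIdeal.ResidueField
    let aL : Over.mk (sp L) ⟶ P.X := Over.homMk (spHom φ ≫ a.hom) (a.res φ).over
    have hq : a.hom q = aL.left (IsLocalRing.closedPoint q.asIdeal.ResidueField) := by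
      show _ = (spHom φ ≫ a.hom) _
      rw [Scheme.Hom.comp_apply]
      congr 1
      refine PrimeSpectrum.ext ?_
      show q.asIdeal = Ideal.comap (algebraMap A q.asIdeal.ResidueField) (IsLocalRing.maximalIdeal _)
      rw [IsLocalRing.maximalIdeal_eq_bot, ← RingHom.ker_eq_comap_bot, Ideal.ker_algebraMap_residueField]
    have hV : (P.e L aL).1 = tupMap φ N := funext fun j => P.he A L φ (Over.homMk a.hom a.over) aL rfl j
    rw [hq, ← hV]
    exact ranks_of_point P aL _ i
  have hex : ∀ i < n, _ := fun i hi => by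
    have h := (hy i hi).1
    rw [← hp, (key p i).1, (key p i).2] at h
    exact h
  obtain ⟨D, hD, hDq⟩ := exists_nhd hrd hc N (P.e A (Over.homMk a.hom a.over)).2 p hex
  refine ⟨a.hom '' (PrimeSpectrum.basicOpen D : Set (PrimeSpectrum A)), ?_,
    a.hom.isOpenEmbedding.isOpenMap _ (PrimeSpectrum.basicOpen D).2, ⟨p, hD, hp⟩⟩
  rintro _ ⟨q, hq, rfl⟩ i hi
  have h := hDq q hq i hi
  rw [(key q i).1, (key q i).2]
  refine ⟨h.1, h.2.trans ?_⟩
  rw [← (key p i).2, hp]
  exact (hy i hi).2

theorem isOpen_exactSet (hrd : r ≤ d) (hc : Cond0 f g) : IsOpen (exactSet P) := by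
  have h : exactSet P = ⋃ b : ℕ → ℕ, stratum P b := Set.ext fun y => by
    simp only [Set.mem_iUnion]
    exact ⟨fun hy => ⟨bAt P y, fun i hi => ⟨hy i hi, rfl⟩⟩, fun ⟨b, hb⟩ i hi => (hb i hi).1⟩
  rw [h]
  exact isOpen_iUnion fun b => isOpen_stratum P hrd hc b

theorem stratum_congr {b b' : ℕ → ℕ} (h : ∀ i < n, b i = b' i) : stratum P b = stratum P b' :=
  Set.ext fun y => forall_congr' fun i => forall_congr' fun hi => by rw [h i hi]

/-- Every point is a limit of exact points with the same backward ranks. -/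
theorem img_mem_closure (hrd : r ≤ d) (hc : Cond0 f g) {K : Type u} [Field K] [Algebra k K] (V : Tup k d r n K)
    (hV : V ∈ W4c1limliniiii.LGPoints k d r n f g K) :
    img P V hV ∈ closure (stratum P (rkB (fwd g K) (ext0 V))) := by
  classical
  suffices key : ∀ (D : ℕ) (K : Type u) [Field K] [Algebra k K] (V : Tup k d r n K)
      (hV : V ∈ W4c1limliniiii.LGPoints k d r n f g K),
      (∑ i ∈ Finset.range n, (r - (rkA (fwd f K) (ext0 V) i + rkB (fwd g K) (ext0 V) i))) = D →
      img P V hV ∈ closure (stratum P (rkB (fwd g K) (ext0 V))) from key _ K V hV rfl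
  intro D
  induction D using Nat.strong_induction_on with
  | _ D ih =>
    intro K _ _ V hV hD
    by_cases hex : ∀ i < n, rkA (fwd f K) (ext0 V) i + rkB (fwd g K) (ext0 V) i = r
    · refine subset_closure fun i hi => ?_
      rw [(ranks_img P V hV i).1, (ranks_img P V hV i).2]
      exact ⟨hex i hi, rfl⟩
    · have hle := fun i (hi : i < n) => rank_le (hc.chain0 K) (linked_tup hrd hV) hi
      have hEx : ∃ i, i < n ∧ rkA (fwd f K) (ext0 V) i + rkB (fwd g K) (ext0 V) i < r := by
        by_contra h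
        exact hex fun i hi => le_antisymm (hle i hi) (not_lt.1 fun hlt => h ⟨i, hi, hlt⟩)
      obtain ⟨i, hi, hbad, hgood⟩ : ∃ i, i < n ∧ rkA (fwd f K) (ext0 V) i + rkB (fwd g K) (ext0 V) i < r ∧
          ∀ l < i, rkA (fwd f K) (ext0 V) l + rkB (fwd g K) (ext0 V) l = r :=
        ⟨Nat.find hEx, (Nat.find_spec hEx).1, (Nat.find_spec hEx).2, fun l hl =>
          le_antisymm (hle l (hl.trans (Nat.find_spec hEx).1)) (not_lt.1 fun h =>
            Nat.find_min hEx hl ⟨hl.trans (Nat.find_spec hEx).1, h⟩)⟩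
      obtain ⟨N, hN, hρ, hlt, hb, hlow, hhigh⟩ := exists_deg hrd (hc.chain0 K) V hV hi hbad hgood
      have hW := tupMap_mem (genHom (k := k) K) hN
      have hmem : img P _ hW ∈ closure (stratum P (rkB (fwd g (FractionRing (PowerSeries K)))
          (ext0 (tupMap (genHom K) N)))) := by
        refine ih _ ?_ (FractionRing (PowerSeries K)) _ hW rfl
        rw [← hD]
        refine Finset.sum_lt_sum (fun l hl => ?_) ⟨i, Finset.mem_range.2 hi, ?_⟩
        · rw [Finset.mem_range] at hl
          rcases lt_trichotomy l i with h | h | h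
          · rw [hlow l h, Nat.sub_self]
            exact Nat.zero_le _
          · subst h
            rw [hb _ hl]
            omega
          · rw [hb _ hl, hhigh l hl h]
        · rw [hb _ hi]
          omega
      rw [stratum_congr P hb] at hmem
      let S : CommAlgCat.{u} k := CommAlgCat.of k (PowerSeries K)
      let a := (P.e S).symm ⟨N, hN⟩
      have him : ∀ (F : Type u) [Field F] [Algebra k F] (φ : PowerSeries K →ₐ[k] F) (U : Tup k d r n F)
          (hU : U ∈ W4c1limliniiii.LGPoints k d r n f g F), tupMap φ N = U →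
            img P U hU = a.left ⟨RingHom.ker φ.toRingHom, RingHom.ker_isPrime _⟩ := by
        intro F _ _ φ U hU hφ
        subst hφ
        let a' : Over.mk (sp (CommAlgCat.of k F)) ⟶ P.X := Over.homMk (spHom (A := S) (B := CommAlgCat.of k F) φ ≫ a.left) (by
          show (_ ≫ _) ≫ _ = sp _
          rw [Category.assoc, show a.left ≫ P.X.hom = sp S from Over.w a, spHom_sp])
        have h : (P.e (CommAlgCat.of k F)).symm ⟨tupMap φ N, hU⟩ = a' := by
          rw [Equiv.symm_apply_eq]
          refine Subtype.ext (funext fun l => ?_)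
          rw [P.he S (CommAlgCat.of k F) φ a a' rfl l, Equiv.apply_symm_apply]
          rfl
        show ((P.e (CommAlgCat.of k F)).symm ⟨tupMap φ N, hU⟩).left _ = _
        rw [h]
        show (spHom (A := S) (B := CommAlgCat.of k F) φ ≫ a.left) _ = _
        rw [Scheme.Hom.comp_apply]
        congr 1
        refine PrimeSpectrum.ext ?_
        show Ideal.comap φ.toRingHom (IsLocalRing.maximalIdeal F) = RingHom.ker φ.toRingHom
        rw [IsLocalRing.maximalIdeal_eq_bot, ← RingHom.ker_eq_comap_bot]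
      rw [him _ (genHom K) _ hW rfl] at hmem
      rw [him K (evalHom K) V hV hρ]
      refine Specializes.mem_closed (Specializes.map ?_ a.left.continuous) isClosed_closure hmem
      refine (PrimeSpectrum.le_iff_specializes _ _).1 ?_
      show RingHom.ker (genHom (k := k) K).toRingHom ≤ RingHom.ker (evalHom (k := k) K).toRingHom
      rw [show (genHom (k := k) K).toRingHom = algebraMap (PowerSeries K) (FractionRing (PowerSeries K)) from rfl,
        (RingHom.injective_iff_ker_eq_bot _).1 (IsFractionRing.injective (PowerSeries K) (FractionRing (PowerSeries K)))]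
      exact bot_le

theorem mem_closure_stratum (hrd : r ≤ d) (hc : Cond0 f g) (y : P.X.left) : y ∈ closure (stratum P (bAt P y)) := by
  letI := resAlg P y
  have h := img_mem_closure P hrd hc (valAt P y) (valAt_mem P y)
  have he : img P (valAt P y) (valAt_mem P y) = y := by
    show ((P.e _).symm (P.e _ _)).left _ = y
    rw [Equiv.symm_apply_apply]
    exact Scheme.fromSpecResidueField_apply _ _
  rwa [he] at h

theorem dense_exactSet (hrd : r ≤ d) (hc : Cond0 f g) : Dense (exactSet P) := fun y =>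
  closure_mono (fun _ hz i hi => (hz i hi).1) (mem_closure_stratum P hrd hc y)

end Topology

end LinkedGrassLib

end
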