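import Groth.Agent.LinkedGrassLib.Chart
import Groth.Agent.LinkedGrassLib.Strata

/-!
# Every exact point lies in a chart
-/

set_option autoImplicit false
set_option linter.style.haveILetI false
set_option linter.unusedSectionVars false

universe u

open TensorProduct GrassLib

noncomputable section

namespace LinkedGrassLib

/-- Finitely many elements of a family spanning modulo a subspace, indexed by a given finite type. -/
theorem exists_choice {K E : Type u} [Field K] [AddCommGroup E] [Module K E] {ι : Type} [Fintype ι] [Nonempty ι]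
    (R : Submodule K E) (v : ι → E) {τ : Type} [Fintype τ] (w : τ → E)
    (h : Submodule.span K (Set.range v) ≤ Submodule.span K (Set.range w) ⊔ R) :
    ∃ a : τ → ι, Submodule.span K (Set.range v) ≤ Submodule.span K (Set.range fun t => v (a t)) ⊔ R := by
  classical
  obtain ⟨κ, b, hb, hspan, hli⟩ := exists_linearIndependent' K (fun i => R.mkQ (v i))
  haveI : Finite κ := Finite.of_injective b hb
  haveI := Fintype.ofFinite κ
  have hle : Submodule.span K (Set.range fun i => R.mkQ (v i)) ≤ Submodule.span K (Set.range fun t => R.mkQ (w t)) := by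
    rw [Set.range_comp' R.mkQ v, Set.range_comp' R.mkQ w, ← Submodule.map_span, ← Submodule.map_span]
    refine (Submodule.map_mono h).trans ?_
    rw [Submodule.map_sup, Submodule.mkQ_map_self, sup_bot_eq]
  have hcard : Fintype.card κ ≤ Fintype.card τ := by
    haveI : FiniteDimensional K (Submodule.span K (Set.range fun t => R.mkQ (w t))) :=
      FiniteDimensional.span_of_finite K (Set.finite_range _)
    rw [← finrank_span_eq_card hli, hspan]
    exact (Submodule.finrank_mono hle).trans (finrank_range_le_card (R := K) _)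
  obtain ⟨e⟩ := Function.Embedding.nonempty_of_card_le hcard
  let a : τ → ι := Function.extend e b fun _ => Classical.arbitrary ι
  refine ⟨a, fun y hy => ?_⟩
  have h1 : R.mkQ y ∈ Submodule.span K (Set.range fun t => R.mkQ (v (a t))) := by
    have h2 : R.mkQ y ∈ Submodule.span K (Set.range fun i => R.mkQ (v i)) := by
      rw [Set.range_comp' R.mkQ v, ← Submodule.map_span]
      exact ⟨y, hy, rfl⟩
    rw [← hspan] at h2
    refine Submodule.span_mono ?_ h2
    rintro _ ⟨l, rfl⟩
    exact ⟨e l, by simp [a, e.injective.extend_apply]⟩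
  rw [Set.range_comp' R.mkQ (fun t => v (a t)), ← Submodule.map_span, ← Submodule.mem_comap, Submodule.comap_map_mkQ,
    sup_comm] at h1
  exact h1

variable {k : Type u} [CommRing k] [Nontrivial k] {d r n : ℕ} {f g : Fin n → ((Fin d → k) →ₗ[k] (Fin d → k))}
  {K : Type u} [Field K] [Algebra k K]

section Proj

variable {V : Tup k d r n K} {S : Fin (n + 1) → (Fin (d - r) ↪ Fin d)}
  (hS : ∀ i, IsIn (stdTuple k (S i)) (V i))

/-- The projection of a coordinate vector. -/
def projVec (i : Fin (n + 1)) (a : Fin d) : K ⊗[k] (Fin d → k) :=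
  1 ⊗ₜ[k] Pi.single a 1 - ∑ b, coordsR (hS i) (Pi.single a 1) b • (1 ⊗ₜ[k] stdTuple k (S i) b)

theorem span_projVec (i : Fin (n + 1)) :
    Submodule.span K (Set.range (projVec hS i)) = (V i).toSubmodule := by
  refine le_antisymm (Submodule.span_le.2 ?_) fun y hy => ?_
  · rintro _ ⟨a, rfl⟩
    show projVec hS i a ∈ (V i).toSubmodule
    rw [← Submodule.Quotient.mk_eq_zero, ← Submodule.mkQ_apply, projVec, map_sub, sub_eq_zero, map_sum]
    simp only [map_smul]
    exact (psi_coords (hS i) (1 ⊗ₜ[k] Pi.single a 1)).symm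
  · have hy0 : coords (hS i) y = 0 := by
      rw [← LinearMap.mem_ker, ker_coords]
      exact hy
    let L : K ⊗[k] (Fin d → k) →ₗ[K] K ⊗[k] (Fin d → k) :=
      (Fintype.linearCombination K fun b => (1 : K) ⊗ₜ[k] stdTuple k (S i) b).comp (coords (hS i))
    have hy' : y = ((LinearMap.id : K ⊗[k] (Fin d → k) →ₗ[K] _) - L) y := by simp [L, hy0]
    rw [hy', ← (ChartData.std k K d).sum_repr y, map_sum]
    refine Submodule.sum_mem _ fun a _ => ?_
    rw [map_smul]
    refine Submodule.smul_mem _ _ (Submodule.subset_span ⟨a, ?_⟩)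
    rw [ChartData.std, Algebra.TensorProduct.basis_apply, Pi.basisFun_apply]
    simp [projVec, L, Fintype.linearCombination_apply, coordsR]

end Proj

theorem good_of_span (hrd : r ≤ d) {V : Tup k d r n K} (hV : V ∈ W4c1limliniiii.LGPoints k d r n f g K)
    {S : Fin (n + 1) → (Fin (d - r) ↪ Fin d)} (hS : ∀ i, IsIn (stdTuple k (S i)) (V i)) (σ : Type) [Fintype σ]
    (hcard : Fintype.card σ = r) (j : σ → Fin (n + 1)) (a : σ → Fin d)
    (h : ∀ i : Fin (n + 1), (V i).toSubmodule ≤
      Submodule.span K (Set.range fun t => trans (fwd f K) (fwd g K) i (j t) (projVec hS (j t) (a t)))) :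
    ∃ C : ChartData d r n, C.Good f g V := by
  classical
  let C : ChartData d r n := ⟨σ, inferInstance, hrd, hcard, j, a, S⟩
  refine ⟨C, (C.good_iff hV).2 ⟨hS, fun i => ?_⟩⟩
  have htop : (⊤ : Submodule K (K ⊗[k] (Fin d → k))) ≤
      Submodule.span K (Set.range fun b => C.family f g (C.coord hS) i (C.idx.symm b)) := fun y _ => by
    have hx : y - ∑ b, coords (hS i) y b • (1 ⊗ₜ[k] C.x k i b) ∈ (V i).toSubmodule := by
      rw [← Submodule.Quotient.mk_eq_zero, ← Submodule.mkQ_apply, map_sub, sub_eq_zero, map_sum]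
      simp only [map_smul]
      exact (psi_coords (hS i) y).symm
    have hrange : Set.range (fun b => C.family f g (C.coord hS) i (C.idx.symm b)) =
        Set.range (C.family f g (C.coord hS) i) := C.idx.symm.surjective.range_comp _
    rw [hrange, ← sub_add_cancel y (∑ b, coords (hS i) y b • (1 ⊗ₜ[k] C.x k i b))]
    refine add_mem ?_ (Submodule.sum_mem _ fun b _ => Submodule.smul_mem _ _ (Submodule.subset_span ⟨Sum.inr b, rfl⟩))
    refine Submodule.span_mono ?_ (h i hx)
    rintro _ ⟨t, rfl⟩
    exact ⟨Sum.inl t, rfl⟩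
  refine ((ChartData.std k K d).is_basis_iff_det).1 ⟨?_, le_antisymm le_top htop⟩
  exact linearIndependent_of_top_le_span_of_card_eq_finrank htop
    (by rw [Fintype.card_fin, Module.finrank_baseChange, Module.finrank_fin_fun])

theorem exists_stdTuples (V : Tup k d r n K) :
    ∃ S : Fin (n + 1) → (Fin (d - r) ↪ Fin d), ∀ i, IsIn (stdTuple k (S i)) (V i) := by
  have h : ∀ i, ∃ S : Fin (d - r) ↪ Fin d, IsIn (stdTuple k S) (V i) := fun i => by
    obtain ⟨x, hx, hin⟩ := exists_isIn_of_span (S := {m : Fin d → k | ∃ a, m = Pi.single a 1}) (by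
      rw [show {m : Fin d → k | ∃ a, m = Pi.single a 1} = Set.range (Pi.basisFun k (Fin d)) from
        Set.ext fun m => by simp [eq_comm]]
      exact (Pi.basisFun k (Fin d)).span_eq) (V i)
    choose a ha using hx
    have hinj : Function.Injective a := fun b b' hbb => injective_of_isIn hin (by rw [ha, ha, hbb])
    exact ⟨⟨a, hinj⟩, (funext fun b => (ha b).symm : stdTuple k (⟨a, hinj⟩ : Fin (d - r) ↪ Fin d) = x) ▸ hin⟩
  choose S hS using h
  exact ⟨S, hS⟩

theorem exists_chart_zero (hrd : r ≤ d) (hcK : Chain0 n (fwd f K) (fwd g K)) {V : Tup k d r n K}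
    (hV : V ∈ W4c1limliniiii.LGPoints k d r n f g K)
    (hex : ∀ i < n, rkA (fwd f K) (ext0 V) i + rkB (fwd g K) (ext0 V) i = r) :
    ∃ C : ChartData d r n, C.Good f g V := by
  classical
  obtain ⟨S, hS⟩ := exists_stdTuples V
  have hl := linked_tup hrd hV
  let A := fwd f K
  let B := fwd g K
  let W := ext0 V
  obtain ⟨σ, hσ, j, w, hcard, hw, hspan⟩ := exists_adapted_exact hcK hl hex
  let Ra : ℕ → Submodule K (K ⊗[k] (Fin d → k)) := fun i => if 0 < i then (W (i - 1)).map (A (i - 1)) else ⊥
  let Rb : ℕ → Submodule K (K ⊗[k] (Fin d → k)) := fun i => if i < n then (W (i + 1)).map (B i) else ⊥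
  have hgen : ∀ i : Fin (n + 1), W i ≤ Submodule.span K (Set.range fun t : {t // j t = i} => w t) ⊔ (Ra i ⊔ Rb i) := by
    intro i
    refine (hspan i (Nat.le_of_lt_succ i.2)).trans (Submodule.span_le.2 ?_)
    rintro _ ⟨t, rfl⟩
    rcases lt_trichotomy (j t : ℕ) i with h | h | h
    · refine Submodule.mem_sup_right (Submodule.mem_sup_left ?_)
      obtain ⟨i', hi'⟩ : ∃ i', (i : ℕ) = i' + 1 := ⟨(i : ℕ) - 1, by omega⟩
      simp only [Ra, hi', Nat.succ_pos, if_true, Nat.add_sub_cancel]
      rw [← F_trans A B (show (j t : ℕ) ≤ i' by omega)]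
      exact ⟨_, map_trans_le A B W hl.mapA hl.mapB (by omega) (Nat.le_of_lt_succ (j t).2) ⟨w t, hw t, rfl⟩, rfl⟩
    · refine Submodule.mem_sup_left (Submodule.subset_span ⟨⟨t, Fin.ext h⟩, ?_⟩)
      simp [h, trans_self]
    · refine Submodule.mem_sup_right (Submodule.mem_sup_right ?_)
      have hi : (i : ℕ) < n := h.trans_le (Nat.le_of_lt_succ (j t).2)
      simp only [Rb, hi, if_true]
      show trans A B i (j t) (w t) ∈ _
      rw [← G_trans A B h]
      exact ⟨_, map_trans_le A B W hl.mapA hl.mapB hi (Nat.le_of_lt_succ (j t).2) ⟨w t, hw t, rfl⟩, rfl⟩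
  have hchoice : ∀ i : Fin (n + 1), ∃ a : {t // j t = i} → Fin d,
      W i ≤ Submodule.span K (Set.range fun t => projVec hS i (a t)) ⊔ (Ra i ⊔ Rb i) := fun i => by
    rcases isEmpty_or_nonempty (Fin d) with h | h
    · haveI : IsEmpty {t // j t = i} := by
        have : Fintype.card σ = 0 := by
          rw [hcard]; have : d = 0 := (Fintype.card_fin d).symm.trans (Fintype.card_eq_zero_iff.2 ‹IsEmpty (Fin d)›); omega
        haveI := Fintype.card_eq_zero_iff.1 this
        infer_instance
      refine ⟨isEmptyElim, (hgen i).trans ?_⟩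
      simp
    · obtain ⟨a, ha⟩ := exists_choice (Ra i ⊔ Rb i) (projVec hS i) (fun t : {t // j t = i} => w t)
        (by rw [span_projVec, ← ext0_of_le V i]; exact hgen i)
      exact ⟨a, by rwa [span_projVec, ← ext0_of_le V i] at ha⟩
  choose a ha using hchoice
  let s : σ → Fin d := fun t => a (j t) ⟨t, rfl⟩
  let u : σ → K ⊗[k] (Fin d → k) := fun t => projVec hS (j t) (s t)
  let M : ℕ → Submodule K (K ⊗[k] (Fin d → k)) := fun i => Submodule.span K (Set.range fun t => trans A B i (j t) (u t))
  have hstep : ∀ i ≤ n, W i ≤ M i ⊔ (Ra i ⊔ Rb i) := fun i hi => by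
    refine (ha ⟨i, Nat.lt_succ_of_le hi⟩).trans (sup_le_sup_right (Submodule.span_le.2 ?_) _)
    rintro _ ⟨⟨t, ht⟩, rfl⟩
    obtain ⟨t', rfl⟩ : ∃ t', t' = t := ⟨t, rfl⟩
    refine Submodule.subset_span ⟨t', ?_⟩
    have key : ∀ (l : Fin (n + 1)) (h : j t' = l), projVec hS l (a l ⟨t', h⟩) = u t' := fun l h => by subst h; rfl
    show trans A B i (j t') (u t') = projVec hS ⟨i, Nat.lt_succ_of_le hi⟩ (a _ ⟨t', ht⟩)
    rw [key _ ht, show (j t' : ℕ) = i from congrArg Fin.val ht, trans_self, LinearMap.id_apply]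
  have hAM : ∀ i < n, (M i).map (A i) ≤ M (i + 1) := fun i hi => by
    rw [Submodule.map_span_le]
    rintro _ ⟨t, rfl⟩
    show ((A i).comp (trans A B i (j t))) (u t) ∈ _
    rcases le_or_gt (j t : ℕ) i with h | h
    · rw [F_trans A B h]
      exact Submodule.subset_span ⟨t, rfl⟩
    · rw [F_trans_of_gt A B h (0 : K) (by rw [hcK.AB i hi, zero_smul]), zero_smul]
      exact zero_mem _
  have hBM : ∀ i < n, (M (i + 1)).map (B i) ≤ M i := fun i hi => by
    rw [Submodule.map_span_le]
    rintro _ ⟨t, rfl⟩
    show ((B i).comp (trans A B (i + 1) (j t))) (u t) ∈ _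
    rcases le_or_gt (j t : ℕ) i with h | h
    · rw [G_trans_of_le A B h (0 : K) (by rw [hcK.BA i hi, zero_smul]), zero_smul]
      exact zero_mem _
    · rw [G_trans A B h]
      exact Submodule.subset_span ⟨t, rfl⟩
  have hRA : ∀ i ≤ n, Ra i ≤ M i := by
    intro i
    induction i with
    | zero => intro _; simp [Ra]
    | succ i ih =>
      intro hi
      simp only [Ra, Nat.succ_pos, if_true, Nat.add_sub_cancel]
      refine (Submodule.map_mono (hstep i (by omega))).trans ?_
      rw [Submodule.map_sup, Submodule.map_sup]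
      refine sup_le (hAM i hi) (sup_le ((Submodule.map_mono (ih (by omega))).trans (hAM i hi)) ?_)
      simp only [Rb, show i < n from hi, if_true]
      rw [← Submodule.map_comp, show (A i).comp (B i) = 0 from hcK.AB i hi, Submodule.map_zero]
      exact bot_le
  have hRB : ∀ l, ∀ i ≤ n, i + l = n → Rb i ≤ M i := by
    intro l
    induction l with
    | zero => intro i _ hl; simp [Rb, show ¬ i < n by omega]
    | succ l ih =>
      intro i _ hl
      have hi : i < n := by omega
      simp only [Rb, hi, if_true]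
      refine (Submodule.map_mono (hstep (i + 1) hi)).trans ?_
      rw [Submodule.map_sup, Submodule.map_sup]
      refine sup_le (hBM i hi) (sup_le ?_ ((Submodule.map_mono (ih (i + 1) hi (by omega))).trans (hBM i hi)))
      simp only [Ra, Nat.succ_pos, if_true, Nat.add_sub_cancel]
      rw [← Submodule.map_comp, show (B i).comp (A i) = 0 from hcK.BA i hi, Submodule.map_zero]
      exact bot_le
  refine good_of_span hrd hV hS σ hcard j s fun i => ?_
  rw [← ext0_of_le V i]
  have hi := Nat.le_of_lt_succ i.2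
  exact (hstep i hi).trans (sup_le le_rfl (sup_le (hRA i hi) (hRB (n - i) i hi (by omega))))

theorem exists_chart_unit (hrd : r ≤ d) (s : k) (hs : algebraMap k K s ≠ 0)
    (hI : ∀ i, (f i).comp (g i) = s • LinearMap.id ∧ (g i).comp (f i) = s • LinearMap.id) {V : Tup k d r n K}
    (hV : V ∈ W4c1limliniiii.LGPoints k d r n f g K) : ∃ C : ChartData d r n, C.Good f g V := by
  classical
  obtain ⟨S, hS⟩ := exists_stdTuples V
  have hl := linked_tup hrd hV
  haveI : Module.Free K ↥(ext0 V 0) := Module.Free.of_divisionRing (K := K) (V := ext0 V 0)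
  let bV := Module.finBasisOfFinrankEq K ↥(ext0 V 0) (hl.rank 0 (Nat.zero_le n))
  obtain ⟨a, ha⟩ : ∃ a : Fin r → Fin d, (V 0).toSubmodule ≤
      Submodule.span K (Set.range fun t => projVec hS 0 (a t)) := by
    rcases isEmpty_or_nonempty (Fin d) with h | h
    · have : r = 0 := by have : d = 0 := (Fintype.card_fin d).symm.trans (Fintype.card_eq_zero_iff.2 h); omega
      subst this
      refine ⟨Fin.elim0, fun y hy => ?_⟩
      have hz : Module.finrank K ↥(ext0 V 0) = 0 := hl.rank 0 (Nat.zero_le n)
      rw [← ext0_of_le V (0 : Fin (n + 1))] at hy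
      rw [show y = 0 from (Submodule.mem_bot K).1 ((Submodule.finrank_eq_zero.1 hz) ▸ hy)]
      exact zero_mem _
    · obtain ⟨a, ha⟩ := exists_choice (⊥ : Submodule K (K ⊗[k] (Fin d → k))) (projVec hS 0)
        (fun t : Fin r => (bV t : K ⊗[k] (Fin d → k))) (by
          rw [span_projVec, sup_bot_eq, ← ext0_of_le V (0 : Fin (n + 1))]
          rintro y hy
          rw [show y = _ from (congrArg Subtype.val (bV.sum_repr ⟨y, hy⟩)).symm, Submodule.coe_sum]
          refine Submodule.sum_mem _ fun t _ => ?_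
          rw [Submodule.coe_smul]
          exact Submodule.smul_mem _ _ (Submodule.subset_span ⟨t, rfl⟩))
      exact ⟨a, by rwa [span_projVec, sup_bot_eq] at ha⟩
  refine good_of_span hrd hV hS (Fin r) (Fintype.card_fin r) (fun _ => 0) a fun i => ?_
  have hinj : ∀ l ≤ n, Function.Injective (trans (fwd f K) (fwd g K) l 0) := by
    intro l
    induction l with
    | zero => intro _; rw [trans_self]; exact Function.injective_id
    | succ l ih =>
      intro hl'
      rw [← F_trans (fwd f K) (fwd g K) (Nat.zero_le l), LinearMap.coe_comp]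
      refine Function.Injective.comp (fun x y hxy => ?_) (ih (by omega))
      have h2 := (comp_fwd f g s hI K (show l < n by omega)).2
      have h3 := congrArg (fwd g K l) hxy
      rw [← LinearMap.comp_apply, ← LinearMap.comp_apply, h2] at h3
      simp only [LinearMap.smul_apply, LinearMap.id_apply] at h3
      exact smul_right_injective _ hs h3
  have hi := Nat.le_of_lt_succ i.2
  rw [← ext0_of_le V i]
  refine ((Submodule.eq_of_le_of_finrank_eq (map_trans_le (fwd f K) (fwd g K) (ext0 V) hl.mapA hl.mapB hi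
    (Nat.zero_le n)) ?_).ge).trans ?_
  · rw [hl.rank i hi]
    exact (Submodule.equivMapOfInjective _ (hinj i hi) _).finrank_eq.symm.trans (hl.rank 0 (Nat.zero_le n))
  · rw [show ext0 V 0 = (V 0).toSubmodule from ext0_of_le V 0]
    refine (Submodule.map_mono ha).trans ?_
    rw [Submodule.map_span, ← Set.range_comp]
    exact le_rfl

end LinkedGrassLib

end
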