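import Groth.Agent.LinkedGrassLib.ChartExist
import Groth.Agent.FibDimLib.ClosureDim
import Mathlib.RingTheory.KrullDimension.Polynomial

/-!
# The open subsets cut out by charts are open subschemes of affine space
-/

set_option autoImplicit false
set_option linter.style.haveILetI false
set_option linter.unusedSectionVars false

universe u

open TensorProduct CategoryTheory AlgebraicGeometry GrassLib

noncomputable section

namespace LinkedGrassLib

variable {k : Type u} [Field k] {d r n : ℕ} {f g : Fin n → ((Fin d → k) →ₗ[k] (Fin d → k))}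

namespace ChartData

variable (C : ChartData d r n)

/-- The coordinates of a chart. -/
abbrev Idx (C : ChartData d r n) : Type u := ULift.{u} (C.σ × Fin (d - r))

variable (k) in
/-- The generic coordinates. -/
def univC : C.σ → Fin (d - r) → MvPolynomial C.Idx k := fun t a => MvPolynomial.X ⟨(t, a)⟩

variable (f g) in
/-- The product of the chart determinants. -/
def totalD : MvPolynomial C.Idx k := ∏ i, C.D f g (C.univC k) i

variable (f g) in
/-- The coordinate ring of a chart. -/
abbrev Ring : Type u := Localization.Away (C.totalD f g)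

variable (f g) in
/-- The generic coordinates in the coordinate ring. -/
def locC : C.σ → Fin (d - r) → C.Ring f g := fun t a => algebraMap (MvPolynomial C.Idx k) _ (C.univC k t a)

variable (f g) in
theorem isUnit_D_loc (i : Fin (n + 1)) : IsUnit (C.D f g (C.locC f g) i) := by
  rw [show C.D f g (C.locC f g) i = algebraMap (MvPolynomial C.Idx k) _ (C.D f g (C.univC k) i) from
    (C.map_D f g (IsScalarTower.toAlgHom k (MvPolynomial C.Idx k) (C.Ring f g)) _ i).symm]
  exact IsLocalization.Away.algebraMap_isUnit_iff (x := C.totalD f g) |>.2 ⟨1, by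
    rw [pow_one]; exact Finset.dvd_prod_of_mem _ (Finset.mem_univ i)⟩

theorem exists_hom {A : Type u} [CommRing A] [Algebra k A] (c : C.σ → Fin (d - r) → A)
    (hc : ∀ i, IsUnit (C.D f g c i)) : ∃ φ : C.Ring f g →ₐ[k] A, (fun t a => φ (C.locC f g t a)) = c := by
  let ψ : MvPolynomial C.Idx k →ₐ[k] A := MvPolynomial.aeval fun p => c p.down.1 p.down.2
  have hψ : (fun t a => ψ (C.univC k t a)) = c := funext fun t => funext fun a => by simp [ψ, univC]
  have hu : ∀ y : Submonoid.powers (C.totalD f g), IsUnit (ψ y) := by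
    rintro ⟨_, l, rfl⟩
    show IsUnit (ψ (C.totalD f g ^ l))
    rw [map_pow, totalD, map_prod]
    refine IsUnit.pow _ (IsUnit.prod_univ_iff.2 fun i => ?_)
    rw [C.map_D, hψ]
    exact hc i
  refine ⟨IsLocalization.liftAlgHom (M := Submonoid.powers (C.totalD f g)) (S := C.Ring f g) hu, ?_⟩
  rw [← hψ]
  funext t a
  simp [locC, IsLocalization.liftAlgHom]

theorem hom_ext {A : Type u} [CommRing A] [Algebra k A] {φ φ' : C.Ring f g →ₐ[k] A}
    (h : ∀ t a, φ (C.locC f g t a) = φ' (C.locC f g t a)) : φ = φ' := by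
  refine IsLocalization.algHom_ext (Submonoid.powers (C.totalD f g)) ?_
  exact MvPolynomial.algHom_ext fun p => h p.down.1 p.down.2

end ChartData

section Scheme

variable (P : LGRep k d r n f g) (C : ChartData d r n)

/-- The points in a chart. -/
def goodSet : Set P.X.left := {y | letI := resAlg P y; C.Good f g (valAt P y)}

theorem mem_goodSet_iff {K : Type u} [Field K] [Algebra k K] (a : Over.mk (sp (CommAlgCat.of k K)) ⟶ P.X)
    (q : Spec (CommRingCat.of K)) : a.left q ∈ goodSet P C ↔ C.Good f g (P.e (CommAlgCat.of k K) a).1 := by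
  obtain ⟨π, hπ⟩ := exists_residueFieldHom K a.left q (a.left q) rfl
  letI := resAlg P (a.left q)
  obtain ⟨φ, hφ⟩ := exists_spHom (A := CommAlgCat.of k (P.X.left.residueField (a.left q))) (B := CommAlgCat.of k K)
    (Spec.map π) (by
      have h := congrArg (· ≫ P.X.hom) hπ
      simp only [Category.assoc] at h
      rw [← Spec.map_preimage (P.X.left.fromSpecResidueField (a.left q) ≫ P.X.hom)] at h
      exact h.trans (Over.w a))
  have hV : (P.e (CommAlgCat.of k K) a).1 = fun l => Module.Grassmannian.map φ (valAt P (a.left q) l) :=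
    funext fun l => P.he _ (CommAlgCat.of k K) φ
      (Over.homMk (P.X.left.fromSpecResidueField (a.left q)) (Spec.map_preimage _).symm) a
      (by rw [hφ]; exact hπ.symm) l
  rw [hV]
  exact ⟨fun h => C.good_map h φ, fun h => C.good_of_field (valAt_mem P (a.left q)) φ h⟩

theorem hom_mem_goodSet_iff {A : CommAlgCat.{u} k} (a : Over.mk (sp A) ⟶ P.X) (q : PrimeSpectrum A) :
    a.left q ∈ goodSet P C ↔ C.Good f g (A := q.asIdeal.ResidueField)
      fun i => Module.Grassmannian.map (IsScalarTower.toAlgHom k A q.asIdeal.ResidueField) ((P.e A a).1 i) := by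
  let L : CommAlgCat.{u} k := CommAlgCat.of k q.asIdeal.ResidueField
  let φ : A →ₐ[k] L := IsScalarTower.toAlgHom k A q.asIdeal.ResidueField
  let aL : Over.mk (sp L) ⟶ P.X := Over.homMk (spHom φ ≫ a.left) (by
    show (_ ≫ _) ≫ _ = sp L
    rw [Category.assoc, show a.left ≫ P.X.hom = sp A from Over.w a, spHom_sp])
  have hq : a.left q = aL.left (IsLocalRing.closedPoint q.asIdeal.ResidueField) := by
    show _ = (spHom φ ≫ a.left) _
    rw [Scheme.Hom.comp_apply]
    congr 1
    refine PrimeSpectrum.ext ?_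
    show q.asIdeal = Ideal.comap (algebraMap A q.asIdeal.ResidueField) (IsLocalRing.maximalIdeal _)
    rw [IsLocalRing.maximalIdeal_eq_bot, ← RingHom.ker_eq_comap_bot, Ideal.ker_algebraMap_residueField]
  have hV : (fun i => Module.Grassmannian.map φ ((P.e A a).1 i)) = (P.e L aL).1 :=
    funext fun i => (P.he A L φ a aL rfl i).symm
  rw [hq]
  exact (mem_goodSet_iff P C aL _).trans (iff_of_eq (congrArg (C.Good f g) hV).symm)

theorem isOpen_goodSet : IsOpen (goodSet P C) := by
  rw [isOpen_iff_forall_mem_open]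
  intro y hy
  obtain ⟨l, z, rfl⟩ := P.X.left.affineCover.exists_eq y
  obtain ⟨A, e, a, ha, hopen⟩ := exists_aPt_cover P.X.hom l
  let p : PrimeSpectrum A := e.inv z
  have hp : a.hom p = P.X.left.affineCover.f l z := by
    rw [ha, ← Scheme.Hom.comp_apply, Iso.inv_hom_id_assoc]
  let a' : Over.mk (sp A) ⟶ P.X := Over.homMk a.hom a.over
  rw [← hp] at hy
  obtain ⟨D, hD, hDq⟩ := C.good_spread (P.e A a').2 ((hom_mem_goodSet_iff P C a' p).1 hy)
  refine ⟨a.hom '' (PrimeSpectrum.basicOpen D : Set (PrimeSpectrum A)), ?_,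
    a.hom.isOpenEmbedding.isOpenMap _ (PrimeSpectrum.basicOpen D).2, ⟨p, hD, hp⟩⟩
  rintro _ ⟨q, hq, rfl⟩
  exact (hom_mem_goodSet_iff P C a' q).2 (hDq q hq)

theorem range_subset_goodSet_iff {A : CommAlgCat.{u} k} (a : Over.mk (sp A) ⟶ P.X) :
    Set.range a.left ⊆ goodSet P C ↔ C.Good f g (P.e A a).1 := by
  rw [C.good_iff_residue (P.e A a).2, Set.range_subset_iff]
  exact forall_congr' fun q => hom_mem_goodSet_iff P C a q

theorem exists_openEmbedding (s : k)
    (hI : ∀ i, (f i).comp (g i) = s • LinearMap.id ∧ (g i).comp (f i) = s • LinearMap.id) :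
    ∃ e : PrimeSpectrum (C.Ring f g) → P.X.left, Topology.IsOpenEmbedding e ∧ Set.range e = goodSet P C := by
  let S : CommAlgCat.{u} k := CommAlgCat.of k (C.Ring f g)
  obtain ⟨N, hN, hNs⟩ := C.exists_tuple s hI (C.isUnit_D_loc f g)
  let ψ : Over.mk (sp S) ⟶ P.X := (P.e S).symm ⟨N, hN⟩
  have hψ : (P.e S ψ).1 = N := by rw [Equiv.apply_symm_apply]
  let U : P.X.left.Opens := ⟨goodSet P C, isOpen_goodSet P C⟩
  have hrange : Set.range ψ.left ⊆ Set.range U.ι := by
    rw [Scheme.Opens.range_ι]
    refine (range_subset_goodSet_iff P C ψ).2 ?_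
    rw [hψ]
    exact ⟨_, C.isUnit_D_loc f g, hNs⟩
  let ψ' := IsOpenImmersion.lift U.ι ψ.left hrange
  have hψ' : ψ' ≫ U.ι = ψ.left := IsOpenImmersion.lift_fac _ _ _
  let T : Over (base k) := Over.mk (U.ι ≫ P.X.hom)
  have hψT : ψ' ≫ T.hom = sp S := by
    show ψ' ≫ U.ι ≫ P.X.hom = _
    rw [← Category.assoc, hψ']
    exact Over.w ψ
  let G : ∀ A : CommAlgCat.{u} k, (Over.mk (sp A) ⟶ Over.mk (sp S)) → (Over.mk (sp A) ⟶ T) := fun A b =>
    Over.homMk (b.left ≫ ψ') ((Category.assoc _ _ _).trans ((congrArg (b.left ≫ ·) hψT).trans (Over.w b)))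
  have hval : ∀ (A : CommAlgCat.{u} k) (φ : S →ₐ[k] A) (a : Over.mk (sp A) ⟶ P.X), a.left = spHom φ ≫ ψ.left →
      ∀ i, ((P.e A a).1 i).toSubmodule = Submodule.span A (Set.range (C.row f g (fun t a => φ (C.locC f g t a)) i)) :=
    fun A φ a ha i => by
      rw [P.he S A φ ψ a ha i, hψ]
      exact C.map_eq hNs φ i
  have hG : ∀ A, Function.Bijective (G A) := fun A => by
    refine ⟨fun b b' h => ?_, fun a => ?_⟩
    · obtain ⟨φ, hφ⟩ := exists_spHom (A := S) (B := A) b.left (Over.w b)
      obtain ⟨φ', hφ'⟩ := exists_spHom (A := S) (B := A) b'.left (Over.w b')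
      have hl : spHom φ ≫ ψ.left = spHom φ' ≫ ψ.left := by
        have := congrArg (fun x => x.left ≫ U.ι) h
        simp only [G, Over.homMk_left, Category.assoc, hψ'] at this
        rwa [← hφ, ← hφ'] at this
      let a : Over.mk (sp A) ⟶ P.X := Over.homMk (spHom φ ≫ ψ.left) (by
        show (_ ≫ _) ≫ _ = sp A
        rw [Category.assoc, show ψ.left ≫ P.X.hom = sp S from Over.w ψ, spHom_sp])
      have h1 := hval A φ a rfl
      have h2 := hval A φ' a hl
      have hgood : C.Good f g (P.e A a).1 := ⟨_, fun i => C.map_D f g φ (C.locC f g) i ▸ (C.isUnit_D_loc f g i).map φ, h1⟩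
      have he := (C.eq_coord (C.isIn_of_good hgood) h1).trans (C.eq_coord (C.isIn_of_good hgood) h2).symm
      obtain rfl : φ = φ' := C.hom_ext fun t a => congrFun (congrFun he t) a
      exact Over.OverMorphism.ext (hφ.symm.trans hφ')
    · let a' : Over.mk (sp A) ⟶ P.X := Over.homMk (a.left ≫ U.ι) ((Category.assoc _ _ _).trans (Over.w a))
      have hsub : Set.range a'.left ⊆ goodSet P C := by
        rintro _ ⟨q, rfl⟩
        exact (a.left q).2
      obtain ⟨c, hu, hc⟩ := (range_subset_goodSet_iff P C a').1 hsub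
      obtain ⟨φ, hφ⟩ := C.exists_hom c hu
      refine ⟨Over.homMk (spHom (A := S) φ) (spHom_sp (A := S) φ), Over.OverMorphism.ext ?_⟩
      show spHom (A := S) φ ≫ ψ' = a.left
      rw [← cancel_mono U.ι, Category.assoc, hψ']
      let a'' : Over.mk (sp A) ⟶ P.X := Over.homMk (spHom (A := S) φ ≫ ψ.left) (by
        show (_ ≫ _) ≫ _ = sp A
        rw [Category.assoc, show ψ.left ≫ P.X.hom = sp S from Over.w ψ, spHom_sp])
      have h : a'' = a' := (P.e A).injective (Subtype.ext (funext fun i => Module.Grassmannian.ext (by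
        rw [hval A φ a'' rfl i, hφ, hc])))
      exact congrArg (fun x => x.left) h
  obtain ⟨i, -⟩ := exists_iso_of_points (Over.mk (sp S)) T (fun A => Equiv.ofBijective (G A) (hG A))
    (fun A B φ x x' hx => by
      show x'.left ≫ ψ' = spHom φ ≫ x.left ≫ ψ'
      rw [hx, Category.assoc])
  let m : Spec (CommRingCat.of (C.Ring f g)) ⟶ P.X.left := i.hom ≫ U.ι
  refine ⟨m, m.isOpenEmbedding, ?_⟩
  show Set.range (i.hom ≫ U.ι) = (U : Set P.X.left)
  rw [Scheme.Hom.comp_base, TopCat.coe_comp, Set.range_comp, Set.range_eq_univ.2 (show Function.Surjective i.hom from i.hom.homeomorph.surjective),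
    Set.image_univ, Scheme.Opens.range_ι]

/-- A point of a chart has an irreducible open neighbourhood of the expected dimension. -/
theorem exists_component (hf : LocallyOfFiniteType P.X.hom) (s : k)
    (hI : ∀ i, (f i).comp (g i) = s • LinearMap.id ∧ (g i).comp (f i) = s • LinearMap.id) {y : P.X.left}
    (hy : y ∈ goodSet P C) :
    ∃ η : P.X.left, η ∈ goodSet P C ∧ goodSet P C ⊆ closure {η} ∧
      topologicalKrullDim (closure ({η} : Set P.X.left)) = (r * (d - r) : ℕ) := by
  obtain ⟨e, he, hrange⟩ := exists_openEmbedding P C s hI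
  have hne : Nonempty (PrimeSpectrum (C.Ring f g)) := by
    obtain ⟨q, -⟩ := hrange.ge hy
    exact ⟨q⟩
  haveI : Nontrivial (C.Ring f g) := PrimeSpectrum.nonempty_iff_nontrivial.1 hne
  have hD : C.totalD f g ≠ 0 := fun h0 => by
    have hu : IsUnit (algebraMap (MvPolynomial C.Idx k) (C.Ring f g) (C.totalD f g)) :=
      IsLocalization.Away.algebraMap_isUnit _
    exact hu.ne_zero ((congrArg _ h0).trans (map_zero _))
  haveI : IsDomain (C.Ring f g) :=
    IsLocalization.isDomain_localization (powers_le_nonZeroDivisors_of_noZeroDivisors hD)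
  let η₀ : PrimeSpectrum (C.Ring f g) := ⟨⊥, Ideal.isPrime_bot⟩
  refine ⟨e η₀, hrange.le ⟨η₀, rfl⟩, ?_, ?_⟩
  · rw [← hrange]
    rintro _ ⟨q, rfl⟩
    exact (((PrimeSpectrum.le_iff_specializes η₀ q).1 bot_le).map he.continuous).mem_closure
  · rw [← FibDimLib.topologicalKrullDim_closure_of_isOpenEmbedding P.X.hom he η₀]
    haveI : LocallyOfFiniteType (sp (CommAlgCat.of k (MvPolynomial C.Idx k))) := by
      rw [HasRingHomProperty.Spec_iff (P := @LocallyOfFiniteType)]
      exact RingHom.finiteType_algebraMap.2 inferInstance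
    rw [FibDimLib.topologicalKrullDim_closure_of_isOpenEmbedding
      (F := Spec (CommRingCat.of (MvPolynomial C.Idx k))) (sp (CommAlgCat.of k (MvPolynomial C.Idx k)))
      (PrimeSpectrum.localization_away_isOpenEmbedding (C.Ring f g) (C.totalD f g)) η₀]
    have h0 : PrimeSpectrum.comap (algebraMap (MvPolynomial C.Idx k) (C.Ring f g)) η₀ = ⟨⊥, Ideal.isPrime_bot⟩ := by
      refine PrimeSpectrum.ext ?_
      show Ideal.comap _ ⊥ = ⊥
      rw [← RingHom.ker_eq_comap_bot, ← RingHom.injective_iff_ker_eq_bot]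
      exact IsLocalization.injective _ (powers_le_nonZeroDivisors_of_noZeroDivisors hD)
    show topologicalKrullDim (closure
      ({PrimeSpectrum.comap (algebraMap (MvPolynomial C.Idx k) (C.Ring f g)) η₀} : Set (PrimeSpectrum _))) = _
    rw [h0, FibDimLib.topologicalKrullDim_closure_prime]
    refine (ringKrullDim_eq_of_ringEquiv (RingEquiv.quotientBot _)).trans ?_
    rw [MvPolynomial.ringKrullDim_of_isNoetherianRing, ringKrullDim_eq_zero_of_field, zero_add,
      Nat.card_eq_fintype_card, Fintype.card_ulift, Fintype.card_prod, C.card, Fintype.card_fin]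

end Scheme

end LinkedGrassLib

end
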