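import Groth.Agent.LinkedGrassLib.ChartScheme

/-!
# Irreducible components of a linked Grassmannian
-/

set_option autoImplicit false
set_option linter.style.haveILetI false
set_option linter.unusedSectionVars false

universe u

open TensorProduct CategoryTheory AlgebraicGeometry GrassLib

noncomputable section

namespace LinkedGrassLib

variable {k : Type u} [Field k] {d r n : ℕ} {f g : Fin n → ((Fin d → k) →ₗ[k] (Fin d → k))}

/-- The reversed maps. -/
abbrev revMaps (f : Fin n → ((Fin d → k) →ₗ[k] (Fin d → k))) : Fin n → ((Fin d → k) →ₗ[k] (Fin d → k)) :=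
  fun i => f i.rev

theorem cond0_of_zero (hI : ∀ i, (f i).comp (g i) = 0 ∧ (g i).comp (f i) = 0)
    (hII : ∀ i, d ≤ Module.finrank k (LinearMap.range (f i)) + Module.finrank k (LinearMap.range (g i)))
    (hIII : ∀ i j : Fin n, i.val + 1 = j.val →
      LinearMap.range (f i) ⊓ LinearMap.ker (f j) = ⊥ ∧ LinearMap.range (g j) ⊓ LinearMap.ker (g i) = ⊥) :
    Cond0 f g where
  fg i := (hI i).1
  gf i := (hI i).2
  ker_f i := by
    refine (Submodule.eq_of_le_of_finrank_le (LinearMap.range_le_ker_iff.2 (hI i).1) ?_).ge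
    have h := LinearMap.finrank_range_add_finrank_ker (f i)
    rw [Module.finrank_fin_fun] at h
    have := hII i
    omega
  ker_g i := by
    refine (Submodule.eq_of_le_of_finrank_le (LinearMap.range_le_ker_iff.2 (hI i).2) ?_).ge
    have h := LinearMap.finrank_range_add_finrank_ker (g i)
    rw [Module.finrank_fin_fun] at h
    have := hII i
    omega
  inter := hIII

theorem Cond0.rev (hc : Cond0 f g) : Cond0 (revMaps g) (revMaps f) where
  fg i := hc.gf i.rev
  gf i := hc.fg i.rev
  ker_f i := hc.ker_g i.rev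
  ker_g i := hc.ker_f i.rev
  inter i j h := (hc.inter j.rev i.rev (by simp only [Fin.val_rev]; omega)).symm

/-- The tuple in reverse order. -/
def revEquiv (A : Type u) [CommRing A] [Algebra k A] :
    W4c1limliniiii.LGPoints k d r n f g A ≃ W4c1limliniiii.LGPoints k d r n (revMaps g) (revMaps f) A where
  toFun V := ⟨fun i => V.1 i.rev, fun i => by
    obtain ⟨h1, h2⟩ := V.2 i.rev
    simp only [Fin.rev_castSucc, Fin.rev_succ]
    exact ⟨h2, h1⟩⟩
  invFun V := ⟨fun i => V.1 i.rev, fun i => by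
    obtain ⟨h1, h2⟩ := V.2 i.rev
    simp only [revMaps, Fin.rev_rev] at h1 h2
    simp only [Fin.rev_castSucc, Fin.rev_succ]
    exact ⟨h2, h1⟩⟩
  left_inv V := Subtype.ext (funext fun i => congrArg V.1 (Fin.rev_rev i))
  right_inv V := Subtype.ext (funext fun i => congrArg V.1 (Fin.rev_rev i))

/-- The representation in reverse order. -/
def LGRep.rev (P : LGRep k d r n f g) : LGRep k d r n (revMaps g) (revMaps f) where
  X := P.X
  e A := (P.e A).trans (revEquiv A)
  he A B φ x x' h i := P.he A B φ x x' h i.rev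

theorem ext0_rev {A : Type u} [CommRing A] [Algebra k A] (V : Tup k d r n A) {i : ℕ} (hi : i ≤ n) :
    ext0 (fun l => V l.rev) i = ext0 V (n - i) := by
  show (V _).toSubmodule = (V _).toSubmodule
  refine congrArg (fun l => (V l).toSubmodule) (Fin.ext ?_)
  simp only [Fin.val_rev]
  omega

theorem fwd_rev (F : Fin n → ((Fin d → k) →ₗ[k] (Fin d → k))) (A : Type u) [CommRing A] [Algebra k A] {i : ℕ}
    (hi : i < n) : fwd (revMaps F) A i = fwd F A (n - 1 - i) := by
  rw [fwd_of_lt _ A hi, fwd_of_lt _ A (show n - 1 - i < n by omega)]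
  refine congrArg (fun l => (F l).baseChange A) (Fin.ext ?_)
  simp only [Fin.val_rev]
  omega

theorem rk_rev (P : LGRep k d r n f g) (y : P.X.left) {i : ℕ} (hi : i < n) :
    aAt P.rev y i = bAt P y (n - 1 - i) ∧ bAt P.rev y i = aAt P y (n - 1 - i) := by
  letI := resAlg P y
  let K := P.X.left.residueField y
  let V : Tup k d r n K := valAt P y
  let V' : Tup k d r n K := fun l => V l.rev
  constructor
  · show Module.finrank K ↥((ext0 V' i).map (fwd (revMaps g) K i)) =
      Module.finrank K ↥((ext0 V (n - 1 - i + 1)).map (fwd g K (n - 1 - i)))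
    rw [ext0_rev _ hi.le, fwd_rev g _ hi, show n - i = n - 1 - i + 1 by omega]
  · show Module.finrank K ↥((ext0 V' (i + 1)).map (fwd (revMaps f) K i)) =
      Module.finrank K ↥((ext0 V (n - 1 - i)).map (fwd f K (n - 1 - i)))
    rw [ext0_rev _ hi, fwd_rev f _ hi, show n - (i + 1) = n - 1 - i by omega]

theorem isExact_iff_ranks (hrd : r ≤ d) (hc : Cond0 f g) {K : Type u} [Field K] [Algebra k K] {V : Tup k d r n K}
    (hV : V ∈ W4c1limliniiii.LGPoints k d r n f g K) :
    W4c1limliniiii.IsExact k d r n f g K V ↔ ∀ i < n, rkA (fwd f K) (ext0 V) i + rkB (fwd g K) (ext0 V) i = r := by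
  have hl := linked_tup hrd hV
  have hK := hc.chain0 K
  have h0 : ∀ i (hi : i < n), ext0 V i = (V (⟨i, hi⟩ : Fin n).castSucc).toSubmodule ∧
      ext0 V (i + 1) = (V (⟨i, hi⟩ : Fin n).succ).toSubmodule := fun i hi =>
    ⟨ext0_of_le V (⟨i, hi⟩ : Fin n).castSucc, ext0_of_le V (⟨i, hi⟩ : Fin n).succ⟩
  refine ⟨fun hx i hi => rank_eq_of_ker_le hK hl hi ?_, fun h i => ?_⟩
  · rw [(h0 i hi).1, (h0 i hi).2, fwd_of_lt f K hi, fwd_of_lt g K hi]
    exact (hx ⟨i, hi⟩).2
  · have h1 := ker_le_of_rank_eq hK hl i.2 (h i i.2)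
    rw [(h0 i i.2).1, (h0 i i.2).2, fwd_of_lt f K i.2, fwd_of_lt g K i.2] at h1
    exact ⟨h1.2, h1.1⟩

theorem isExact_of_ne_zero {s : k} (hs : s ≠ 0)
    (hI : ∀ i, (f i).comp (g i) = s • LinearMap.id ∧ (g i).comp (f i) = s • LinearMap.id) {K : Type u} [Field K]
    [Algebra k K] (V : Tup k d r n K) : W4c1limliniiii.IsExact k d r n f g K V := fun i => by
  obtain ⟨h1, h2⟩ := comp_fwd f g s hI K i.2
  rw [fwd_of_lt f K i.2, fwd_of_lt g K i.2] at h1 h2
  have hinj : ∀ (a b : K ⊗[k] (Fin d → k) →ₗ[K] K ⊗[k] (Fin d → k)),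
      b.comp a = algebraMap k K s • LinearMap.id → LinearMap.ker a = ⊥ := fun a b h => by
    rw [eq_bot_iff]
    intro x hx
    have := LinearMap.congr_fun h x
    rw [LinearMap.comp_apply, show a x = 0 from hx, map_zero] at this
    simpa [hs] using this.symm
  exact ⟨by rw [hinj _ _ h1, bot_inf_eq]; exact bot_le, by rw [hinj _ _ h2, bot_inf_eq]; exact bot_le⟩

section Topology

variable (P : LGRep k d r n f g)

theorem LGRep.isProper : IsProper P.X.hom := by
  obtain ⟨Y, eY, heY, hY⟩ := Groth.Agent.S13927.result k d r n f g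
  let F : ∀ A : CommAlgCat.{u} k, (Over.mk (sp A) ⟶ P.X) ≃ (Over.mk (sp A) ⟶ Y) :=
    fun A => (P.e A).trans (eY A).symm
  obtain ⟨i, hi⟩ := exists_iso_of_points P.X Y F (fun A B φ x x' hx => by
    let y := F A x
    let y' : Over.mk (sp B) ⟶ Y := Over.homMk (spHom φ ≫ y.left) (by
      show (_ ≫ _) ≫ _ = sp B
      rw [Category.assoc, show y.left ≫ Y.hom = sp A from Over.w y, spHom_sp])
    have h : F B x' = y' := by
      show (eY B).symm (P.e B x') = y'
      rw [Equiv.symm_apply_eq]
      refine Subtype.ext (funext fun j => ?_)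
      rw [P.he A B φ x x' hx, heY A B (CommAlgCat.ofHom φ) y y' rfl j,
        show eY A y = P.e A x from (eY A).apply_symm_apply _]
      rfl
    rw [h]
    rfl)
  haveI := hY
  rw [← hi]
  infer_instance

theorem noetherianSpace : TopologicalSpace.NoetherianSpace P.X.left := by
  haveI := P.isProper
  haveI : IsLocallyNoetherian P.X.left := LocallyOfFiniteType.isLocallyNoetherian P.X.hom
  haveI : CompactSpace P.X.left := QuasiCompact.compactSpace_of_compactSpace P.X.hom
  haveI : AlgebraicGeometry.IsNoetherian P.X.left := {}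
  infer_instance

theorem exists_component_of_mem_closure {X : Type*} [TopologicalSpace X] [TopologicalSpace.NoetherianSpace X]
    {O : Set X} {x : X} (hx : x ∈ closure O) : ∃ Z ∈ irreducibleComponents X, x ∈ Z ∧ (Z ∩ O).Nonempty := by
  let T := {Z ∈ irreducibleComponents X | (Z ∩ O).Nonempty}
  have hfin : T.Finite := TopologicalSpace.NoetherianSpace.finite_irreducibleComponents.subset fun Z hZ => hZ.1
  have hcl : IsClosed (⋃₀ T) := by
    rw [Set.sUnion_eq_biUnion]
    exact hfin.isClosed_biUnion fun Z hZ => isClosed_of_mem_irreducibleComponents Z hZ.1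
  have hsub : O ⊆ ⋃₀ T := fun y hy => ⟨irreducibleComponent y,
    ⟨irreducibleComponent_mem_irreducibleComponents y, y, mem_irreducibleComponent, hy⟩, mem_irreducibleComponent⟩
  obtain ⟨Z, hZ, hxZ⟩ := closure_minimal hsub hcl hx
  exact ⟨Z, hZ.1, hxZ, hZ.2⟩

theorem component_inter_dense {X : Type*} [TopologicalSpace X] [TopologicalSpace.NoetherianSpace X]
    {Z : Set X} (hZ : Z ∈ irreducibleComponents X) {O : Set X} (hO : Dense O) : (Z ∩ O).Nonempty := by
  by_contra h
  let T := irreducibleComponents X \ {Z}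
  have hfin : T.Finite := TopologicalSpace.NoetherianSpace.finite_irreducibleComponents.subset Set.sdiff_subset
  have hcl : IsClosed (⋃₀ T) := by
    rw [Set.sUnion_eq_biUnion]
    exact hfin.isClosed_biUnion fun W hW => isClosed_of_mem_irreducibleComponents W hW.1
  have hOT : O ⊆ ⋃₀ T := fun y hy => ⟨irreducibleComponent y,
    ⟨irreducibleComponent_mem_irreducibleComponents y, fun he => h ⟨y, he ▸ mem_irreducibleComponent, hy⟩⟩,
      mem_irreducibleComponent⟩
  have hsub : Z ⊆ ⋃₀ T := fun z _ => closure_minimal hOT hcl (hO z)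
  obtain ⟨W, hW, hZW⟩ := isIrreducible_iff_sUnion_isClosed.1 hZ.1 hfin.toFinset
    (fun W hW => isClosed_of_mem_irreducibleComponents W (hfin.mem_toFinset.1 hW).1)
    (by rwa [Set.Finite.coe_toFinset])
  exact (hfin.mem_toFinset.1 hW).2 (le_antisymm (hZ.2 (hfin.mem_toFinset.1 hW).1.1 hZW) hZW)

theorem eq_component {C : ChartData d r n} {η : P.X.left} (hcl : goodSet P C ⊆ closure {η}) {Z : Set P.X.left}
    (hZ : Z ∈ irreducibleComponents P.X.left) {y : P.X.left} (hy : y ∈ Z) (hyC : y ∈ goodSet P C) :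
    Z = closure {η} := by
  have h : Z ⊆ closure {η} :=
    (subset_closure_inter_of_isPreirreducible_of_isOpen hZ.1.2 (isOpen_goodSet P C) ⟨y, hy, hyC⟩).trans
      (closure_minimal (Set.inter_subset_right.trans hcl) isClosed_closure)
  exact le_antisymm h (hZ.2 isIrreducible_singleton.closure h)

theorem exists_chart_at (hrd : r ≤ d) (s : k)
    (hI : ∀ i, (f i).comp (g i) = s • LinearMap.id ∧ (g i).comp (f i) = s • LinearMap.id)
    (hc : s = 0 → Cond0 f g) {y : P.X.left} (hy : s = 0 → y ∈ exactSet P) :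
    ∃ C : ChartData d r n, y ∈ goodSet P C := by
  letI := resAlg P y
  by_cases hs : s = 0
  · exact exists_chart_zero hrd ((hc hs).chain0 _) (valAt_mem P y) (hy hs)
  · exact exists_chart_unit hrd s (by simpa using hs) hI (valAt_mem P y)

theorem cond0_of_eq_zero {s : k} (hs : s = 0)
    (hI : ∀ i, (f i).comp (g i) = s • LinearMap.id ∧ (g i).comp (f i) = s • LinearMap.id)
    (hII : ∀ i, d ≤ Module.finrank k (LinearMap.range (f i)) + Module.finrank k (LinearMap.range (g i)))
    (hIII : ∀ i j : Fin n, i.val + 1 = j.val →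
      LinearMap.range (f i) ⊓ LinearMap.ker (f j) = ⊥ ∧ LinearMap.range (g j) ⊓ LinearMap.ker (g i) = ⊥) :
    Cond0 f g :=
  cond0_of_zero (fun i => by rw [(hI i).1, (hI i).2, hs, zero_smul]; exact ⟨rfl, rfl⟩) hII hIII

/-- The dimension of every component. -/
theorem dim_component (hrd : r ≤ d) (s : k)
    (hI : ∀ i, (f i).comp (g i) = s • LinearMap.id ∧ (g i).comp (f i) = s • LinearMap.id) (hc : s = 0 → Cond0 f g)
    {Z : Set P.X.left} (hZ : Z ∈ irreducibleComponents P.X.left) :
    topologicalKrullDim Z = (r * (d - r) : ℕ) := by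
  haveI := noetherianSpace P
  obtain ⟨y, hy, hy0⟩ : ∃ y ∈ Z, s = 0 → y ∈ exactSet P := by
    by_cases hs : s = 0
    · obtain ⟨y, hy, hye⟩ := component_inter_dense hZ (dense_exactSet P hrd (hc hs))
      exact ⟨y, hy, fun _ => hye⟩
    · obtain ⟨y, hy⟩ := hZ.1.1
      exact ⟨y, hy, fun h => absurd h hs⟩
  obtain ⟨C, hC⟩ := exists_chart_at P hrd s hI hc hy0
  haveI := P.locallyOfFinitePresentation
  obtain ⟨η, -, hcl, hdim⟩ := exists_component P C inferInstance s hI hC
  rw [eq_component P hcl hZ hy hC]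
  exact hdim

/-- A rational point is exact if and only if it lies on only one component. -/
theorem exact_iff_unique_component (hrd : r ≤ d) (s : k)
    (hI : ∀ i, (f i).comp (g i) = s • LinearMap.id ∧ (g i).comp (f i) = s • LinearMap.id) (hc : s = 0 → Cond0 f g)
    (y : P.X.left) : (s = 0 → y ∈ exactSet P) ↔ ¬ ∃ Z₁ ∈ irreducibleComponents P.X.left,
      ∃ Z₂ ∈ irreducibleComponents P.X.left, Z₁ ≠ Z₂ ∧ y ∈ Z₁ ∧ y ∈ Z₂ := by
  refine ⟨fun hy0 => ?_, fun h hs => ?_⟩
  · rintro ⟨Z₁, h1, Z₂, h2, hne, hy1, hy2⟩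
    obtain ⟨C, hC⟩ := exists_chart_at P hrd s hI hc hy0
    haveI := P.locallyOfFinitePresentation
    obtain ⟨η, -, hcl, -⟩ := exists_component P C inferInstance s hI hC
    exact hne ((eq_component P hcl h1 hy1 hC).trans (eq_component P hcl h2 hy2 hC).symm)
  · by_contra hne
    simp only [exactSet, Set.mem_setOf_eq, not_forall] at hne
    obtain ⟨i, hi, hne⟩ := hne
    haveI := noetherianSpace P
    have h2 : y ∈ closure (stratum P fun l => r - aAt P y l) := by
      refine closure_mono ?_ (mem_closure_stratum P.rev hrd (hc hs).rev y)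
      intro z hz l hl
      obtain ⟨h1, h2⟩ := hz (n - 1 - l) (by omega)
      have hnl : n - 1 - (n - 1 - l) = l := by omega
      rw [(rk_rev P z (by omega : n - 1 - l < n)).1, (rk_rev P z (by omega : n - 1 - l < n)).2, hnl] at h1
      rw [(rk_rev P z (by omega : n - 1 - l < n)).2, (rk_rev P y (by omega : n - 1 - l < n)).2, hnl] at h2
      refine ⟨by omega, ?_⟩
      show bAt P z l = r - aAt P y l
      omega
    obtain ⟨Z₁, hZ₁, hy1, hne1⟩ := exists_component_of_mem_closure (mem_closure_stratum P hrd (hc hs) y)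
    obtain ⟨Z₂, hZ₂, hy2, hne2⟩ := exists_component_of_mem_closure h2
    refine h ⟨Z₁, hZ₁, Z₂, hZ₂, fun he => ?_, hy1, hy2⟩
    subst he
    obtain ⟨z, -, hz1, hz2⟩ := hZ₁.1.2 _ _ (isOpen_stratum P hrd (hc hs) _) (isOpen_stratum P hrd (hc hs) _) hne1 hne2
    have e1 := (hz1 i hi).2
    have e2 := (hz2 i hi).2
    have hle : aAt P y i + bAt P y i ≤ r := by
      letI := resAlg P y
      exact rank_le ((hc hs).chain0 _) (linked_tup hrd (valAt_mem P y)) hi
    simp only [] at e2
    omega

/-- Exactness of rational points. -/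
theorem rational_isExact_iff (hrd : r ≤ d) (s : k)
    (hI : ∀ i, (f i).comp (g i) = s • LinearMap.id ∧ (g i).comp (f i) = s • LinearMap.id) (hc : s = 0 → Cond0 f g)
    (x : Over.mk (sp (CommAlgCat.of k k)) ⟶ P.X) (q : Spec (CommRingCat.of k)) :
    W4c1limliniiii.IsExact k d r n f g k (P.e (CommAlgCat.of k k) x).1 ↔ (s = 0 → x.left q ∈ exactSet P) := by
  refine ⟨fun h hs i hi => ?_, fun h => ?_⟩
  · rw [(ranks_of_point P x q i).1, (ranks_of_point P x q i).2]
    exact (isExact_iff_ranks hrd (hc hs) (P.e (CommAlgCat.of k k) x).2).1 h i hi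
  · by_cases hs : s = 0
    · refine (isExact_iff_ranks hrd (hc hs) (P.e (CommAlgCat.of k k) x).2).2 fun i hi => ?_
      have := h hs i hi
      rwa [(ranks_of_point P x q i).1, (ranks_of_point P x q i).2] at this
    · exact isExact_of_ne_zero hs hI _

end Topology

end LinkedGrassLib

end
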