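import Groth.Agent.LinkedGrassLib.Ranks

/-!
# The deformation data at the first non-exact place of a chain
-/

set_option autoImplicit false
set_option linter.style.haveILetI false
set_option linter.unusedSectionVars false

universe u v

noncomputable section

namespace LinkedGrassLib

variable {K : Type u} [Field K] {E : Type v} [AddCommGroup E] [Module K E] [FiniteDimensional K E]

/-- Data deforming a chain at a non-exact place. -/
structure DegData (n r : ℕ) (A B : ℕ → (E →ₗ[K] E)) (V : ℕ → Submodule K E) (i : ℕ) where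
  σ : Type
  inst : Fintype σ
  j : σ → ℕ
  w : σ → E
  c : σ → K
  u : E
  γ : σ → K
  card : Fintype.card σ = r
  mem : ∀ t, w t ∈ V (j t)
  j_le : ∀ t, j t ≤ i
  c_eq : ∀ t, j t ≠ i → c t = 0
  span : ∀ l ≤ i, V l ≤ Submodule.span K (Set.range fun t => trans A B l (j t) (w t))
  Au_mem : A i u ∈ V (i + 1)
  Au_not : A i u ∉ (V i).map (A i)
  imB : ∀ y ∈ (V (i + 1)).map (B i), ∃ co : σ → K, ∑ t, co t * c t = 0 ∧ ∑ t, co t • trans A B i (j t) (w t) = y
  γ_c : ∑ t, γ t * c t = 1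
  γ_ker : A i (∑ t, γ t • trans A B i (j t) (w t)) = 0

theorem exists_degData {n r : ℕ} {A B : ℕ → (E →ₗ[K] E)} {V : ℕ → Submodule K E} (hc : Chain0 n A B)
    (hV : Linked n r A B V) {i : ℕ} (hi : i < n) (hbad : rkA A V i + rkB B V i < r)
    (hgood : ∀ l < i, rkA A V l + rkB B V l = r) : Nonempty (DegData n r A B V i) := by
  classical
  have hA0 : ∀ y ∈ (V (i + 1)).map (B i), A i y = 0 := by
    rintro _ ⟨x, -, rfl⟩
    exact LinearMap.congr_fun (hc.AB i hi) x
  obtain ⟨v', hv', hv'n⟩ : ∃ x ∈ LinearMap.ker (A i) ⊓ V i, x ∉ (V (i + 1)).map (B i) :=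
    SetLike.not_le_iff_exists.1 fun h => hbad.ne (rank_eq_of_ker_le hc hV hi h)
  obtain ⟨v, hv, hvn⟩ : ∃ x ∈ LinearMap.ker (B i) ⊓ V (i + 1), x ∉ (V i).map (A i) := by
    refine SetLike.not_le_iff_exists.1 fun h => hbad.ne ?_
    have hle : (V i).map (A i) ≤ V (i + 1) ⊓ LinearMap.ker (B i) := le_inf (hV.mapA i hi) (by
      rintro _ ⟨x, -, rfl⟩
      exact LinearMap.congr_fun (hc.BA i hi) x)
    have h1 := finrank_map_add_finrank_inf (B i) (V (i + 1))
    rw [hV.rank (i + 1) hi, le_antisymm (inf_comm (V (i + 1)) _ ▸ h) hle] at h1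
    simp only [rkA, rkB]
    omega
  obtain ⟨u, rfl⟩ := hc.ker_B i hi hv.1
  let C := (V (i + 1)).map (B i) ⊔ Submodule.span K {v'}
  have hCker : C ≤ LinearMap.ker (A i) := sup_le hA0 ((Submodule.span_singleton_le_iff_mem _ _).2 hv'.1)
  have hCV : C ≤ V i := sup_le (hV.mapB i hi) ((Submodule.span_singleton_le_iff_mem _ _).2 hv'.2)
  have hc' := hc.mono hi.le
  have hV' := hV.mono hi.le
  obtain ⟨W, hCW, hWV, hWsum, hWspan⟩ := exists_adapted_zero_containing A B i V hV'.mapA hV'.mapB r hV'.rank hc'.BA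
    (fun l hl => (ker_le_of_rank_eq hc hV (hl.trans hi) (hgood l hl)).1) hc'.AB hc'.inter_A C hCV
    (fun l hl hli => le_bot_iff.1 ((inf_le_inf LinearMap.map_le_range hCker).trans
      (hli ▸ (hc.inter_A l (by omega))).le))
  haveI : ∀ j : Fin (i + 1), Module.Free K (W j) := fun j => Module.Free.of_divisionRing (K := K) (V := W j)
  let b : ∀ j : Fin (i + 1), Module.Basis (Fin (Module.finrank K (W j))) K (W j) := fun j => Module.finBasis K (W j)
  let τ := Σ j : Fin (i + 1), Fin (Module.finrank K (W j))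
  let j₀ : τ → ℕ := fun t => (t.1 : ℕ)
  let w : τ → E := fun t => (b t.1 t.2 : E)
  have hcard : Fintype.card τ = r := by
    rw [Fintype.card_sigma]
    simp only [Fintype.card_fin]
    rw [← hWsum, Finset.sum_range]
  obtain ⟨φ, hφv, hφB⟩ : ∃ φ : E →ₗ[K] K, φ v' = 1 ∧ ∀ y ∈ (V (i + 1)).map (B i), φ y = 0 := by
    obtain ⟨φ, hφ, hφ0⟩ := Submodule.exists_le_ker_of_notMem hv'n
    exact ⟨(φ v')⁻¹ • φ, inv_mul_cancel₀ hφ, fun y hy => by
      rw [LinearMap.smul_apply, show φ y = 0 from hφ0 hy, smul_zero]⟩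
  let c : τ → K := fun t => if j₀ t = i then φ (w t) else 0
  have hrep : ∀ y ∈ W i, ∃ co : τ → K, ∑ t, co t * c t = φ y ∧ ∑ t, co t • trans A B i (j₀ t) (w t) = y := by
    intro y hy
    let L : Fin (i + 1) := Fin.last i
    let co : τ → K := fun t => if h : t.1 = L then (b L).repr ⟨y, hy⟩ (Fin.cast (by rw [h]) t.2) else 0
    have hs := congrArg Subtype.val ((b L).sum_repr ⟨y, hy⟩)
    rw [Submodule.coe_sum] at hs
    simp only [Submodule.coe_smul] at hs
    refine ⟨co, ?_, ?_⟩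
    · rw [Fintype.sum_sigma, Finset.sum_eq_single L (fun t _ ht => Finset.sum_eq_zero fun s _ => by simp [co, ht]) (by simp)]
      refine Eq.trans (Finset.sum_congr rfl fun s _ => ?_) ((map_sum φ _ _).symm.trans (congrArg φ hs))
      rw [map_smul, smul_eq_mul]
      simp [co, c, j₀, w, L]
    · rw [Fintype.sum_sigma, Finset.sum_eq_single L (fun t _ ht => Finset.sum_eq_zero fun s _ => by simp [co, ht]) (by simp)]
      refine Eq.trans (Finset.sum_congr rfl fun s _ => ?_) hs
      simp [co, j₀, w, L, trans_self]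
  obtain ⟨γ, hγc, hγv⟩ := hrep v' (hCW (Submodule.mem_sup_right (Submodule.mem_span_singleton_self v')))
  exact ⟨{
    σ := τ
    inst := inferInstance
    j := j₀
    w := w
    c := c
    u := u
    γ := γ
    card := hcard
    mem := fun t => hWV _ (Nat.le_of_lt_succ t.1.2) (b t.1 t.2).2
    j_le := fun t => Nat.le_of_lt_succ t.1.2
    c_eq := fun t ht => if_neg ht
    span := fun l hl => (hWspan l hl).trans (iSup₂_le fun j hj => by
      rintro _ ⟨y, hy, rfl⟩
      obtain ⟨j, rfl⟩ : ∃ j' : Fin (i + 1), (j' : ℕ) = j := ⟨⟨j, Finset.mem_range.1 hj⟩, rfl⟩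
      rw [show y = _ from (congrArg Subtype.val ((b j).sum_repr ⟨y, hy⟩)).symm, Submodule.coe_sum, map_sum]
      refine Submodule.sum_mem _ fun t _ => ?_
      rw [Submodule.coe_smul, map_smul]
      exact Submodule.smul_mem _ _ (Submodule.subset_span ⟨⟨j, t⟩, rfl⟩))
    Au_mem := hv.2
    Au_not := hvn
    imB := fun y hy => by
      obtain ⟨co, h1, h2⟩ := hrep y (hCW (Submodule.mem_sup_left hy))
      exact ⟨co, h1.trans (hφB y hy), h2⟩
    γ_c := hγc.trans hφv
    γ_ker := by rw [hγv]; exact hv'.1 }⟩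

end LinkedGrassLib

end
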