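import Groth.Agent.LinkedGrassLib.Lift
import Groth.Agent.LinkedGrassLib.DegData
import Mathlib.RingTheory.PowerSeries.Inverse
import Mathlib.RingTheory.Localization.FractionRing

/-!
# Deforming a non-exact point of a linked Grassmannian
-/

set_option autoImplicit false
set_option linter.style.haveILetI false
set_option linter.unusedSectionVars false

universe u

open TensorProduct GrassLib

noncomputable section

namespace LinkedGrassLib

section Base

variable {k : Type u} [Field k] {d r n : ℕ}

/-- The conditions over the base field. -/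
structure Cond0 (f g : Fin n → ((Fin d → k) →ₗ[k] (Fin d → k))) : Prop where
  fg : ∀ i, (f i).comp (g i) = 0
  gf : ∀ i, (g i).comp (f i) = 0
  ker_f : ∀ i, LinearMap.ker (f i) ≤ LinearMap.range (g i)
  ker_g : ∀ i, LinearMap.ker (g i) ≤ LinearMap.range (f i)
  inter : ∀ i j : Fin n, i.val + 1 = j.val →
    LinearMap.range (f i) ⊓ LinearMap.ker (f j) = ⊥ ∧ LinearMap.range (g j) ⊓ LinearMap.ker (g i) = ⊥

variable {f g : Fin n → ((Fin d → k) →ₗ[k] (Fin d → k))}

theorem baseChange_ker_le {a b : (Fin d → k) →ₗ[k] (Fin d → k)} (hba : b.comp a = 0)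
    (h : LinearMap.ker b ≤ LinearMap.range a) (K : Type u) [Field K] [Algebra k K] :
    LinearMap.ker (b.baseChange K) ≤ LinearMap.range (a.baseChange K) := fun x hx => by
  have hex : Function.Exact a b := LinearMap.exact_iff.2 (le_antisymm h (LinearMap.range_le_ker_iff.2 hba))
  obtain ⟨y, hy⟩ := (Module.Flat.lTensor_exact K hex x).1 hx
  exact ⟨y, hy⟩

theorem baseChange_inter {a b : (Fin d → k) →ₗ[k] (Fin d → k)}
    (h : LinearMap.range a ⊓ LinearMap.ker b = ⊥) (K : Type u) [Field K] [Algebra k K] :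
    LinearMap.range (a.baseChange K) ⊓ LinearMap.ker (b.baseChange K) = ⊥ := by
  have hinj : Function.Injective (b.domRestrict (LinearMap.range a)) := fun x y hxy => by
    have h1 : (x : Fin d → k) - y ∈ LinearMap.range a ⊓ LinearMap.ker b :=
      ⟨sub_mem x.2 y.2, by show b ((x : Fin d → k) - y) = 0; rw [map_sub]; exact sub_eq_zero.2 hxy⟩
    rw [h, Submodule.mem_bot, sub_eq_zero] at h1
    exact Subtype.ext h1
  obtain ⟨h', hh'⟩ := (b.domRestrict (LinearMap.range a)).exists_leftInverse_of_injective (LinearMap.ker_eq_bot.2 hinj)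
  have e : (((LinearMap.range a).subtype.comp h').comp b).comp a = a := LinearMap.ext fun z => by
    show ((h' (b (a z))) : Fin d → k) = a z
    exact congrArg Subtype.val (LinearMap.congr_fun hh' ⟨a z, z, rfl⟩)
  rw [eq_bot_iff]
  rintro x ⟨⟨z, rfl⟩, hx⟩
  rw [Submodule.mem_bot, ← e, LinearMap.baseChange_comp, LinearMap.baseChange_comp, LinearMap.comp_apply,
    LinearMap.comp_apply, show b.baseChange K (a.baseChange K z) = 0 from hx, map_zero]

theorem Cond0.chain0 (hc : Cond0 f g) (K : Type u) [Field K] [Algebra k K] : Chain0 n (fwd f K) (fwd g K) where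
  AB i hi := by rw [fwd_of_lt f K hi, fwd_of_lt g K hi, ← LinearMap.baseChange_comp, hc.fg, LinearMap.baseChange_zero]
  BA i hi := by rw [fwd_of_lt f K hi, fwd_of_lt g K hi, ← LinearMap.baseChange_comp, hc.gf, LinearMap.baseChange_zero]
  ker_A i hi := by rw [fwd_of_lt f K hi, fwd_of_lt g K hi]; exact baseChange_ker_le (hc.fg _) (hc.ker_f _) K
  ker_B i hi := by rw [fwd_of_lt f K hi, fwd_of_lt g K hi]; exact baseChange_ker_le (hc.gf _) (hc.ker_g _) K
  inter_A i hi := by
    rw [fwd_of_lt f K (Nat.lt_of_succ_lt hi), fwd_of_lt f K hi]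
    exact baseChange_inter (hc.inter ⟨i, Nat.lt_of_succ_lt hi⟩ ⟨i + 1, hi⟩ rfl).1 K
  inter_B i hi := by
    rw [fwd_of_lt g K (Nat.lt_of_succ_lt hi), fwd_of_lt g K hi]
    exact baseChange_inter (hc.inter ⟨i, Nat.lt_of_succ_lt hi⟩ ⟨i + 1, hi⟩ rfl).2 K

end Base

variable {k : Type u} [CommRing k] [Nontrivial k] {d r n : ℕ} {f g : Fin n → ((Fin d → k) →ₗ[k] (Fin d → k))}

/-- Tuples of points. -/
abbrev Tup (k : Type u) [CommRing k] (d r n : ℕ) (A : Type u) [CommRing A] [Algebra k A] : Type u :=
  Fin (n + 1) → Pt k (Fin d → k) (d - r) A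

/-- Base change of tuples. -/
def tupMap {A B : Type u} [CommRing A] [Algebra k A] [CommRing B] [Algebra k B] (φ : A →ₐ[k] B) (V : Tup k d r n A) :
    Tup k d r n B := fun l => Module.Grassmannian.map φ (V l)

theorem linked_tup (hrd : r ≤ d) {K : Type u} [Field K] [Algebra k K] {V : Tup k d r n K}
    (hV : V ∈ W4c1limliniiii.LGPoints k d r n f g K) : Linked n r (fwd f K) (fwd g K) (ext0 V) :=
  ⟨(linked_ext0 f g hV).1, (linked_ext0 f g hV).2, fun i _ => finrank_ext0 hrd K V i⟩

theorem tupMap_mem {A B : Type u} [CommRing A] [Algebra k A] [CommRing B] [Algebra k B] (φ : A →ₐ[k] B)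
    {V : Tup k d r n A} (hV : V ∈ W4c1limliniiii.LGPoints k d r n f g A) :
    tupMap φ V ∈ W4c1limliniiii.LGPoints k d r n f g B := fun i => by
  have key : ∀ (L : (Fin d → k) →ₗ[k] (Fin d → k)) (N N' : Pt k (Fin d → k) (d - r) A),
      N.toSubmodule.map (L.baseChange A) ≤ N'.toSubmodule →
        (Module.Grassmannian.map φ N).toSubmodule.map (L.baseChange B) ≤ (Module.Grassmannian.map φ N').toSubmodule := by
    intro L N N' h
    rw [map_toSubmodule_eq, Submodule.map_span_le]
    rintro _ ⟨y, hy, rfl⟩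
    rw [← mapM_baseChange₂]
    exact mapM_mem φ (h ⟨y, hy, rfl⟩)
  exact ⟨key _ _ _ (hV i).1, key _ _ _ (hV i).2⟩

/-- Base change of subspaces. -/
def mapSub {A B : Type u} [CommRing A] [Algebra k A] [CommRing B] [Algebra k B] (φ : A →ₐ[k] B)
    (W : Submodule A (A ⊗[k] (Fin d → k))) : Submodule B (B ⊗[k] (Fin d → k)) :=
  Submodule.span B (mapM φ '' W)

theorem ext0_tupMap {A B : Type u} [CommRing A] [Algebra k A] [CommRing B] [Algebra k B] (φ : A →ₐ[k] B)
    (V : Tup k d r n A) (i : ℕ) : ext0 (tupMap φ V) i = mapSub φ (ext0 V i) := map_toSubmodule_eq φ _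

theorem map_fwd_mapSub {A B : Type u} [CommRing A] [Algebra k A] [CommRing B] [Algebra k B] (φ : A →ₐ[k] B)
    (F : Fin n → ((Fin d → k) →ₗ[k] (Fin d → k))) (i : ℕ) (W : Submodule A (A ⊗[k] (Fin d → k))) :
    (mapSub φ W).map (fwd F B i) = mapSub φ (W.map (fwd F A i)) := by
  rw [mapSub, Submodule.map_span, mapSub, Submodule.map_coe, Set.image_image, Set.image_image]
  simp only [mapM_fwd F φ]

theorem finrank_mapSub {K L : Type u} [Field K] [Algebra k K] [Field L] [Algebra k L] (φ : K →ₐ[k] L)
    (W : Submodule K (K ⊗[k] (Fin d → k))) : Module.finrank L (mapSub φ W) = Module.finrank K W := by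
  classical
  obtain ⟨C, hC⟩ := Submodule.exists_isCompl W
  haveI : Module.Free K W := Module.Free.of_divisionRing (K := K) (V := W)
  haveI : Module.Free K C := Module.Free.of_divisionRing (K := K) (V := C)
  let bW := Module.finBasis K W
  let bC := Module.finBasis K C
  let z : Fin (Module.finrank K W) ⊕ Fin (Module.finrank K C) → L ⊗[k] (Fin d → k) :=
    fun t => mapM φ (Sum.elim (fun a => (bW a : K ⊗[k] (Fin d → k))) (fun a => (bC a : K ⊗[k] (Fin d → k))) t)
  have hmem : ∀ (U : Submodule K (K ⊗[k] (Fin d → k))) (m : ℕ) (b : Module.Basis (Fin m) K U) (y : K ⊗[k] (Fin d → k)),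
      y ∈ U → mapM φ y ∈ Submodule.span L (Set.range fun a => mapM φ (b a : K ⊗[k] (Fin d → k))) := by
    intro U m b y hy
    rw [show y = _ from (congrArg Subtype.val (b.sum_repr ⟨y, hy⟩)).symm, Submodule.coe_sum, map_sum]
    refine Submodule.sum_mem _ fun a _ => ?_
    rw [Submodule.coe_smul, mapM_smul]
    exact Submodule.smul_mem _ _ (Submodule.subset_span ⟨a, rfl⟩)
  have hspan : ⊤ ≤ Submodule.span L (Set.range z) := by
    rw [← span_mapM_eq_top φ, Submodule.span_le]
    rintro _ ⟨y, rfl⟩
    obtain ⟨a, ha, b, hb, rfl⟩ := Submodule.mem_sup.1 (show y ∈ W ⊔ C by rw [hC.sup_eq_top]; trivial)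
    rw [map_add]
    refine add_mem (Submodule.span_mono ?_ (hmem W _ bW a ha)) (Submodule.span_mono ?_ (hmem C _ bC b hb))
    · rintro _ ⟨a, rfl⟩
      exact ⟨Sum.inl a, rfl⟩
    · rintro _ ⟨a, rfl⟩
      exact ⟨Sum.inr a, rfl⟩
  have hcard : Fintype.card (Fin (Module.finrank K W) ⊕ Fin (Module.finrank K C)) =
      Module.finrank L (L ⊗[k] (Fin d → k)) := by
    rw [Fintype.card_sum, Fintype.card_fin, Fintype.card_fin, Submodule.finrank_add_eq_of_isCompl hC,
      Module.finrank_baseChange, Module.finrank_baseChange]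
  have hli : LinearIndependent L z := linearIndependent_of_top_le_span_of_card_eq_finrank hspan hcard
  have he : mapSub φ W = Submodule.span L (Set.range (z ∘ Sum.inl)) := by
    refine le_antisymm (Submodule.span_le.2 ?_) (Submodule.span_mono ?_)
    · rintro _ ⟨y, hy, rfl⟩
      exact hmem W _ bW y hy
    · rintro _ ⟨a, rfl⟩
      exact ⟨_, (bW a).2, rfl⟩
  rw [he]
  exact (finrank_span_eq_card (hli.comp Sum.inl Sum.inl_injective)).trans (Fintype.card_fin _)

theorem rkA_tupMap {K L : Type u} [Field K] [Algebra k K] [Field L] [Algebra k L] (φ : K →ₐ[k] L)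
    (V : Tup k d r n K) (i : ℕ) :
    rkA (fwd f L) (ext0 (tupMap φ V)) i = rkA (fwd f K) (ext0 V) i ∧
      rkB (fwd g L) (ext0 (tupMap φ V)) i = rkB (fwd g K) (ext0 V) i := by
  have hA := ext0_tupMap φ V i
  have hB := ext0_tupMap φ V (i + 1)
  refine ⟨?_, ?_⟩
  · show Module.finrank L _ = _
    rw [hA, map_fwd_mapSub φ f]
    exact finrank_mapSub φ _
  · show Module.finrank L _ = _
    rw [hB, map_fwd_mapSub φ g]
    exact finrank_mapSub φ _

theorem comp_zero_map {A B : Type u} [CommRing A] [Algebra k A] [CommRing B] [Algebra k B] (φ : A →ₐ[k] B)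
    (F G : Fin n → ((Fin d → k) →ₗ[k] (Fin d → k))) (l : ℕ) (h : (fwd F A l).comp (fwd G A l) = 0) :
    (fwd F B l).comp (fwd G B l) = 0 := by
  refine LinearMap.ext_on_range (span_mapM_eq_top φ) fun y => ?_
  rw [LinearMap.comp_apply, ← mapM_fwd G φ, ← mapM_fwd F φ, ← LinearMap.comp_apply (fwd F A l), h]
  simp

theorem ker_le_map {K L : Type u} [Field K] [Algebra k K] [Field L] [Algebra k L] (φ : K →ₐ[k] L)
    (F G : Fin n → ((Fin d → k) →ₗ[k] (Fin d → k))) (l : ℕ) (h0 : (fwd F K l).comp (fwd G K l) = 0)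
    (h : LinearMap.ker (fwd F K l) ≤ LinearMap.range (fwd G K l)) :
    LinearMap.ker (fwd F L l) ≤ LinearMap.range (fwd G L l) := by
  have hr : ∀ F' : Fin n → ((Fin d → k) →ₗ[k] (Fin d → k)),
      Module.finrank L (LinearMap.range (fwd F' L l)) = Module.finrank K (LinearMap.range (fwd F' K l)) := fun F' => by
    rw [← Submodule.map_top, ← Submodule.map_top]
    have : (⊤ : Submodule L (L ⊗[k] (Fin d → k))) = mapSub φ ⊤ := by
      rw [mapSub, Submodule.top_coe, Set.image_univ, span_mapM_eq_top]
    rw [this, map_fwd_mapSub, finrank_mapSub]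
  refine (Submodule.eq_of_le_of_finrank_le (LinearMap.range_le_ker_iff.2 (comp_zero_map φ F G l h0)) ?_).ge
  have h1 := LinearMap.finrank_range_add_finrank_ker (fwd F K l)
  have h2 := LinearMap.finrank_range_add_finrank_ker (fwd F L l)
  have h3 : LinearMap.ker (fwd F K l) = LinearMap.range (fwd G K l) := le_antisymm h (LinearMap.range_le_ker_iff.2 h0)
  rw [hr] at h2 ⊢
  rw [h3, Module.finrank_baseChange] at h1
  rw [Module.finrank_baseChange] at h2
  omega

theorem inter_map {K L : Type u} [Field K] [Algebra k K] [Field L] [Algebra k L] (φ : K →ₐ[k] L)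
    (F : Fin n → ((Fin d → k) →ₗ[k] (Fin d → k))) (l m : ℕ)
    (h : LinearMap.range (fwd F K l) ⊓ LinearMap.ker (fwd F K m) = ⊥) :
    LinearMap.range (fwd F L l) ⊓ LinearMap.ker (fwd F L m) = ⊥ := by
  haveI : Module.Free K (LinearMap.range (fwd F K l)) := Module.Free.of_divisionRing (K := K) (V := LinearMap.range (fwd F K l))
  have key := finrank_map_add_finrank_inf (fwd F L m) (LinearMap.range (fwd F L l))
  have key' := finrank_map_add_finrank_inf (fwd F K m) (LinearMap.range (fwd F K l))
  have hr : LinearMap.range (fwd F L l) = mapSub φ (LinearMap.range (fwd F K l)) := by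
    rw [← Submodule.map_top, ← Submodule.map_top, ← map_fwd_mapSub, mapSub, Submodule.top_coe, Set.image_univ,
      span_mapM_eq_top]
  rw [hr] at key ⊢
  rw [map_fwd_mapSub, finrank_mapSub, finrank_mapSub] at key
  rw [h, finrank_bot] at key'
  exact Submodule.finrank_eq_zero.1 (by omega)

/-- The conditions extend along field extensions. -/
theorem chain0_map {K L : Type u} [Field K] [Algebra k K] [Field L] [Algebra k L] (φ : K →ₐ[k] L)
    (hc : Chain0 n (fwd f K) (fwd g K)) : Chain0 n (fwd f L) (fwd g L) where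
  AB i hi := comp_zero_map φ f g i (hc.AB i hi)
  BA i hi := comp_zero_map φ g f i (hc.BA i hi)
  ker_A i hi := ker_le_map φ f g i (hc.AB i hi) (hc.ker_A i hi)
  ker_B i hi := ker_le_map φ g f i (hc.BA i hi) (hc.ker_B i hi)
  inter_A i hi := inter_map φ f i (i + 1) (hc.inter_A i hi)
  inter_B i hi := inter_map φ g (i + 1) i (hc.inter_B i hi)

section Series

variable (K : Type u) [Field K] [Algebra k K]

/-- Constant power series. -/
def constHom : K →ₐ[k] PowerSeries K where
  toRingHom := PowerSeries.C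
  commutes' a := by simp [PowerSeries.algebraMap_apply]

/-- The closed point of the deformation. -/
def evalHom : PowerSeries K →ₐ[k] K where
  toRingHom := PowerSeries.constantCoeff
  commutes' a := by simp [PowerSeries.algebraMap_apply]

/-- The generic point of the deformation. -/
def genHom : PowerSeries K →ₐ[k] FractionRing (PowerSeries K) := IsScalarTower.toAlgHom k _ _

theorem surjective_evalHom : Function.Surjective (evalHom (k := k) K) := fun a =>
  ⟨PowerSeries.C a, PowerSeries.constantCoeff_C a⟩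

theorem mapM_evalHom_constHom (x : K ⊗[k] (Fin d → k)) : mapM (evalHom K) (mapM (constHom K) x) = x := by
  rw [← mapM_comp]
  induction x using TensorProduct.induction_on with
  | zero => rw [map_zero]
  | tmul a m => simp [evalHom, constHom]
  | add x y hx hy => rw [map_add, hx, hy]

end Series

/-- Deforming at the first non-exact place. -/
theorem exists_deg (hrd : r ≤ d) {K : Type u} [Field K] [Algebra k K] (hcK : Chain0 n (fwd f K) (fwd g K)) (V : Tup k d r n K)
    (hV : V ∈ W4c1limliniiii.LGPoints k d r n f g K) {i : ℕ} (hi : i < n)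
    (hbad : rkA (fwd f K) (ext0 V) i + rkB (fwd g K) (ext0 V) i < r)
    (hgood : ∀ l < i, rkA (fwd f K) (ext0 V) l + rkB (fwd g K) (ext0 V) l = r) :
    ∃ N : Tup k d r n (PowerSeries K), N ∈ W4c1limliniiii.LGPoints k d r n f g (PowerSeries K) ∧
      tupMap (evalHom K) N = V ∧
      rkA (fwd f K) (ext0 V) i < rkA (fwd f _) (ext0 (tupMap (genHom K) N)) i ∧
      (∀ l < n, rkB (fwd g _) (ext0 (tupMap (genHom K) N)) l = rkB (fwd g K) (ext0 V) l) ∧
      (∀ l < i, rkA (fwd f _) (ext0 (tupMap (genHom K) N)) l + rkB (fwd g _) (ext0 (tupMap (genHom K) N)) l = r) ∧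
      (∀ l < n, i < l → rkA (fwd f _) (ext0 (tupMap (genHom K) N)) l = rkA (fwd f K) (ext0 V) l) := by
  classical
  have hVK := linked_tup hrd hV
  obtain ⟨D⟩ := exists_degData hcK hVK hi hbad hgood
  letI := D.inst
  let P := PowerSeries K
  let L := FractionRing P
  let C := constHom (k := k) K
  let wz : D.σ → P ⊗[k] (Fin d → k) := fun t => mapM C (D.w t) + (PowerSeries.X : P) • C (D.c t) • mapM C D.u
  let z : ℕ → D.σ → P ⊗[k] (Fin d → k) := fun l t => trans (fwd f P) (fwd g P) l (D.j t) (wz t)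
  have hρz : ∀ l t, mapM (evalHom K) (z l t) = trans (fwd f K) (fwd g K) l (D.j t) (D.w t) := fun l t => by
    rw [mapM_trans]
    congr 1
    rw [map_add, mapM_evalHom_constHom, mapM_smul, show evalHom (k := k) K PowerSeries.X = 0 from PowerSeries.constantCoeff_X,
      zero_smul, add_zero]
  have heq : ∀ l ≤ i, ext0 V l = Submodule.span K (Set.range fun t => trans (fwd f K) (fwd g K) l (D.j t) (D.w t)) :=
    fun l hl => le_antisymm (D.span l hl) (Submodule.span_le.2 (by
      rintro _ ⟨t, rfl⟩
      exact map_trans_le (fwd f K) (fwd g K) (ext0 V) hVK.mapA hVK.mapB (hl.trans hi.le) ((D.j_le t).trans hi.le)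
        ⟨D.w t, D.mem t, rfl⟩))
  have hlow : ∀ l : Fin (n + 1), (l : ℕ) ≤ i → ∃ N : Pt k (Fin d → k) (d - r) P,
      N.toSubmodule = Submodule.span P (Set.range (z l)) := fun l hl => by
    suffices h : LinearIndependent K fun t => mapM (evalHom K) (z l t) by
      have h' := exists_pt_span (evalHom K) (surjective_evalHom K) (z l) h
      rwa [D.card] at h'
    simp only [hρz]
    rw [linearIndependent_iff_card_eq_finrank_span, Set.finrank, ← heq l hl, hVK.rank l (hl.trans hi.le), D.card]
  choose N₀ hN₀ using hlow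
  let N : Tup k d r n P := fun l => if hl : (l : ℕ) ≤ i then N₀ l hl else Module.Grassmannian.map C (V l)
  have hE_le : ∀ l ≤ i, ext0 N l = Submodule.span P (Set.range (z l)) := fun l hl => by
    have h := ext0_of_le N ⟨l, by omega⟩
    rw [h]
    show (if h' : l ≤ i then _ else _ : Pt k (Fin d → k) (d - r) P).toSubmodule = _
    rw [dif_pos hl]
    exact hN₀ _ _
  have hE_gt : ∀ l, l ≤ n → i < l → ext0 N l = mapSub C (ext0 V l) := fun l hln hl => by
    have h := ext0_of_le N ⟨l, by omega⟩
    rw [h, show ext0 V l = (V ⟨l, by omega⟩).toSubmodule from ext0_of_le V ⟨l, by omega⟩]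
    show (if h' : l ≤ i then _ else _ : Pt k (Fin d → k) (d - r) P).toSubmodule = _
    rw [dif_neg (not_le.2 hl)]
    exact map_toSubmodule_eq C _
  have hzi : ∀ t, z i t = mapM C (trans (fwd f K) (fwd g K) i (D.j t) (D.w t)) + (PowerSeries.X : P) • C (D.c t) • mapM C D.u := by
    intro t
    show trans _ _ i (D.j t) (wz t) = _
    rcases eq_or_ne (D.j t) i with h | h
    · rw [h, trans_self, trans_self]
      rfl
    · simp only [wz, D.c_eq t h, map_zero, zero_smul, smul_zero, add_zero]
      exact (mapM_trans f g C i (D.j t) (D.w t)).symm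
  have hcP : ∀ l < n, (fwd f P l).comp (fwd g P l) = 0 ∧ (fwd g P l).comp (fwd f P l) = 0 := fun l hl => by
    exact ⟨comp_zero_map C f g l (hcK.AB l hl), comp_zero_map C g f l (hcK.BA l hl)⟩
  have hlinkA : ∀ l < n, (ext0 N l).map (fwd f P l) ≤ ext0 N (l + 1) := fun l hl => by
    rcases lt_trichotomy l i with h | h | h
    · rw [hE_le l h.le, hE_le (l + 1) h, Submodule.map_span_le]
      rintro _ ⟨t, rfl⟩
      show ((fwd f P l).comp (trans (fwd f P) (fwd g P) l (D.j t))) (wz t) ∈ _
      rcases le_or_gt (D.j t) l with h' | h'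
      · rw [F_trans _ _ h']
        exact Submodule.subset_span ⟨t, rfl⟩
      · rw [F_trans_of_gt _ _ h' (0 : P) (by rw [(hcP l hl).1, zero_smul]), zero_smul]
        exact zero_mem _
    · subst h
      rw [hE_le l le_rfl, hE_gt (l + 1) hl (Nat.lt_succ_self l), Submodule.map_span_le]
      rintro _ ⟨t, rfl⟩
      rw [hzi, map_add, map_smul, map_smul, ← mapM_fwd f C, ← mapM_fwd f C]
      refine add_mem (Submodule.subset_span ⟨_, ?_, rfl⟩)
        (Submodule.smul_mem _ _ (Submodule.smul_mem _ _ (Submodule.subset_span ⟨_, D.Au_mem, rfl⟩)))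
      exact hVK.mapA l hl ⟨_, map_trans_le (fwd f K) (fwd g K) (ext0 V) hVK.mapA hVK.mapB hl.le
        ((D.j_le t).trans hl.le) ⟨D.w t, D.mem t, rfl⟩, rfl⟩
    · rw [hE_gt l hl.le h, hE_gt (l + 1) hl (by omega), map_fwd_mapSub]
      exact Submodule.span_mono (Set.image_mono (hVK.mapA l hl))
  have hlinkB : ∀ l < n, (ext0 N (l + 1)).map (fwd g P l) ≤ ext0 N l := fun l hl => by
    rcases lt_trichotomy l i with h | h | h
    · rw [hE_le l h.le, hE_le (l + 1) h, Submodule.map_span_le]
      rintro _ ⟨t, rfl⟩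
      show ((fwd g P l).comp (trans (fwd f P) (fwd g P) (l + 1) (D.j t))) (wz t) ∈ _
      rcases le_or_gt (D.j t) l with h' | h'
      · rw [G_trans_of_le _ _ h' (0 : P) (by rw [(hcP l hl).2, zero_smul]), zero_smul]
        exact zero_mem _
      · rw [G_trans _ _ h']
        exact Submodule.subset_span ⟨t, rfl⟩
    · subst h
      rw [hE_le l le_rfl, hE_gt (l + 1) hl (Nat.lt_succ_self l), map_fwd_mapSub, mapSub, Submodule.span_le]
      rintro _ ⟨y, hy, rfl⟩
      obtain ⟨co, hco, hsum⟩ := D.imB y hy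
      have e : mapM C y = ∑ t, C (co t) • z l t := by
        simp only [hzi, smul_add, Finset.sum_add_distrib]
        rw [← hsum, map_sum]
        simp only [mapM_smul]
        have h0 : ∑ t, C (co t) • (PowerSeries.X : P) • C (D.c t) • mapM C D.u = 0 := by
          simp only [smul_smul]
          rw [← Finset.sum_smul]
          simp only [mul_comm (C (co _)), mul_assoc]
          rw [← Finset.mul_sum]
          simp only [mul_comm (C (D.c _)), ← map_mul]
          rw [← map_sum, hco, map_zero, mul_zero, zero_smul]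
        rw [h0, add_zero]
      rw [SetLike.mem_coe, e]
      exact Submodule.sum_mem _ fun t _ => Submodule.smul_mem _ _ (Submodule.subset_span ⟨t, rfl⟩)
    · rw [hE_gt l hl.le h, hE_gt (l + 1) hl (by omega), map_fwd_mapSub]
      exact Submodule.span_mono (Set.image_mono (hVK.mapB l hl))
  have hN : N ∈ W4c1limliniiii.LGPoints k d r n f g P := fun l => by
    have h1 := hlinkA l l.2
    have h2 := hlinkB l l.2
    rw [show ext0 N (l : ℕ) = (N l.castSucc).toSubmodule from ext0_of_le N l.castSucc,
      show ext0 N ((l : ℕ) + 1) = (N l.succ).toSubmodule from ext0_of_le N l.succ, fwd_of_lt f P l.2] at h1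
    rw [show ext0 N (l : ℕ) = (N l.castSucc).toSubmodule from ext0_of_le N l.castSucc,
      show ext0 N ((l : ℕ) + 1) = (N l.succ).toSubmodule from ext0_of_le N l.succ, fwd_of_lt g P l.2] at h2
    exact ⟨h1, h2⟩
  have hρ : tupMap (evalHom K) N = V := funext fun l => by
    refine eq_of_le ?_
    rw [← ext0_of_le (tupMap (evalHom K) N) l, ← ext0_of_le V l, ext0_tupMap, mapSub, Submodule.span_le]
    rintro _ ⟨y, hy, rfl⟩
    rcases le_or_gt (l : ℕ) i with h | h
    · rw [SetLike.mem_coe, hE_le l h] at hy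
      rw [SetLike.mem_coe, heq l h]
      induction hy using Submodule.span_induction with
      | mem y hy => obtain ⟨t, rfl⟩ := hy; rw [hρz]; exact Submodule.subset_span ⟨t, rfl⟩
      | zero => rw [map_zero]; exact zero_mem _
      | add a b _ _ ha hb => rw [map_add]; exact add_mem ha hb
      | smul c y _ hy => rw [mapM_smul]; exact Submodule.smul_mem _ _ hy
    · rw [SetLike.mem_coe, hE_gt l (Nat.le_of_lt_succ l.2) h, mapSub] at hy
      induction hy using Submodule.span_induction with
      | mem y hy => obtain ⟨x, hx, rfl⟩ := hy; rw [mapM_evalHom_constHom]; exact hx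
      | zero => rw [map_zero]; exact zero_mem _
      | add a b _ _ ha hb => rw [map_add]; exact add_mem ha hb
      | smul c y _ hy => rw [mapM_smul]; exact Submodule.smul_mem _ _ hy
  let ι := genHom (k := k) K
  let κ : K →ₐ[k] L := ι.comp C
  have hcL := chain0_map κ hcK
  have hVL := linked_tup hrd (tupMap_mem ι hN)
  let wL : D.σ → L ⊗[k] (Fin d → k) := fun t => mapM ι (wz t)
  have hLle : ∀ l ≤ i, ext0 (tupMap ι N) l = Submodule.span L (Set.range fun t => trans (fwd f L) (fwd g L) l (D.j t) (wL t)) := by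
    intro l hl
    rw [ext0_tupMap, mapSub, hE_le l hl]
    refine le_antisymm (Submodule.span_le.2 ?_) (Submodule.span_mono ?_)
    · rintro _ ⟨y, hy, rfl⟩
      rw [SetLike.mem_coe] at hy ⊢
      induction hy using Submodule.span_induction with
      | mem y hy => obtain ⟨t, rfl⟩ := hy; exact Submodule.subset_span ⟨t, (mapM_trans f g ι l (D.j t) (wz t)).symm⟩
      | zero => rw [map_zero]; exact zero_mem _
      | add a b _ _ ha hb => rw [map_add]; exact add_mem ha hb
      | smul c y _ hy => rw [mapM_smul]; exact Submodule.smul_mem _ _ hy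
    · rintro _ ⟨t, rfl⟩
      exact ⟨z l t, Submodule.subset_span ⟨t, rfl⟩, mapM_trans f g ι l (D.j t) (wz t)⟩
  have hcount : ∀ l < i, rkA (fwd f L) (ext0 (tupMap ι N)) l + rkB (fwd g L) (ext0 (tupMap ι N)) l = r ∧
      rkB (fwd g L) (ext0 (tupMap ι N)) l = rkB (fwd g K) (ext0 V) l := fun l hl => by
    have h1 := ranks_of_adapted (hcK.mono hi.le) (hVK.mono hi.le) D.j D.w D.card D.mem D.j_le D.span hl
    have h2 := ranks_of_adapted (hcL.mono hi.le) (hVL.mono hi.le) D.j wL D.card (fun t => by
      rw [hLle _ (D.j_le t)]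
      refine Submodule.subset_span ⟨t, ?_⟩
      show trans _ _ (D.j t) (D.j t) (wL t) = _
      rw [trans_self]
      rfl) D.j_le (fun l hl => (hLle l hl).le) hl
    exact ⟨h2.1, h2.2.trans h1.2.symm⟩
  have hLgt : ∀ l, l ≤ n → i < l → ext0 (tupMap ι N) l = ext0 (tupMap κ V) l := fun l hln hl => by
    rw [ext0_tupMap, ext0_tupMap, hE_gt l hln hl]
    refine le_antisymm (Submodule.span_le.2 ?_) (Submodule.span_le.2 ?_)
    · rintro _ ⟨y, hy, rfl⟩
      rw [SetLike.mem_coe, mapSub] at hy
      rw [SetLike.mem_coe]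
      induction hy using Submodule.span_induction with
      | mem y hy => obtain ⟨x, hx, rfl⟩ := hy; rw [← mapM_comp]; exact Submodule.subset_span ⟨x, hx, rfl⟩
      | zero => rw [map_zero]; exact zero_mem _
      | add a b _ _ ha hb => rw [map_add]; exact add_mem ha hb
      | smul c y _ hy => rw [mapM_smul]; exact Submodule.smul_mem _ _ hy
    · rintro _ ⟨y, hy, rfl⟩
      exact Submodule.subset_span ⟨_, Submodule.subset_span ⟨y, hy, rfl⟩, (mapM_comp ι C y).symm⟩
  refine ⟨N, hN, hρ, ?_, fun l hl => ?_, fun l hl => (hcount l hl).1, fun l hl hil => ?_⟩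
  · let U := (ext0 V i).map (fwd f K i) ⊔ Submodule.span K {fwd f K i D.u}
    have hlt : Module.finrank K ((ext0 V i).map (fwd f K i)) < Module.finrank K U := by
      refine Submodule.finrank_lt_finrank_of_lt (lt_of_le_of_ne le_sup_left fun h => D.Au_not ?_)
      rw [h]
      exact Submodule.mem_sup_right (Submodule.mem_span_singleton_self _)
    refine hlt.trans_le ((finrank_mapSub κ U).symm.le.trans (Submodule.finrank_mono ?_))
    have hx : (ι PowerSeries.X : L) ≠ 0 := by
      intro h
      exact PowerSeries.X_ne_zero (IsFractionRing.injective P L (h.trans (map_zero _).symm))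
    have himg : ∀ t, mapM κ (fwd f K i (trans (fwd f K) (fwd g K) i (D.j t) (D.w t))) +
        (ι PowerSeries.X * κ (D.c t)) • mapM κ (fwd f K i D.u) ∈ (ext0 (tupMap ι N) i).map (fwd f L i) := fun t => by
      refine ⟨mapM ι (z i t), ?_, ?_⟩
      · rw [SetLike.mem_coe, hLle i le_rfl]
        exact Submodule.subset_span ⟨t, (mapM_trans f g ι i (D.j t) (wz t)).symm⟩
      · rw [hzi, map_add, map_add, mapM_smul, mapM_smul, map_smul, map_smul, ← mapM_comp, ← mapM_comp, ← mapM_fwd,
          ← mapM_fwd, smul_smul]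
        rfl
    have hu : mapM κ (fwd f K i D.u) ∈ (ext0 (tupMap ι N) i).map (fwd f L i) := by
      have h1 : ∑ t, κ (D.γ t) • (mapM κ (fwd f K i (trans (fwd f K) (fwd g K) i (D.j t) (D.w t))) +
          (ι PowerSeries.X * κ (D.c t)) • mapM κ (fwd f K i D.u)) ∈ (ext0 (tupMap ι N) i).map (fwd f L i) :=
        Submodule.sum_mem _ fun t _ => Submodule.smul_mem _ _ (himg t)
      have e1 : ∑ t, κ (D.γ t) • mapM κ (fwd f K i (trans (fwd f K) (fwd g K) i (D.j t) (D.w t))) =
          mapM κ (fwd f K i (∑ t, D.γ t • trans (fwd f K) (fwd g K) i (D.j t) (D.w t))) := by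
        rw [map_sum, map_sum]
        refine Finset.sum_congr rfl fun t _ => ?_
        rw [map_smul, mapM_smul]
      simp only [smul_add, Finset.sum_add_distrib] at h1
      rw [e1, D.γ_ker, map_zero, zero_add] at h1
      simp only [smul_smul] at h1
      rw [← Finset.sum_smul] at h1
      simp only [mul_left_comm (κ (D.γ _)), ← map_mul] at h1
      rw [← Finset.mul_sum, ← map_sum, D.γ_c, map_one, mul_one] at h1
      have h2 := Submodule.smul_mem _ ((ι PowerSeries.X)⁻¹) h1
      rwa [smul_smul, inv_mul_cancel₀ hx, one_smul] at h2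
    rw [mapSub, Submodule.span_le]
    rintro _ ⟨y, hy, rfl⟩
    rw [SetLike.mem_coe] at hy ⊢
    obtain ⟨a, ⟨a₀, ha₀, rfl⟩, b, hb, rfl⟩ := Submodule.mem_sup.1 hy
    obtain ⟨c, rfl⟩ := Submodule.mem_span_singleton.1 hb
    rw [map_add, mapM_smul]
    refine add_mem ?_ (Submodule.smul_mem _ _ hu)
    have ha := D.span i le_rfl ha₀
    clear ha₀ hy hb
    induction ha using Submodule.span_induction with
    | mem x hx =>
      obtain ⟨t, rfl⟩ := hx
      exact (add_mem_cancel_right (Submodule.smul_mem _ _ hu)).1 (himg t)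
    | zero => rw [map_zero, map_zero]; exact zero_mem _
    | add x y _ _ hx hy => rw [map_add, map_add]; exact add_mem hx hy
    | smul c x _ hx => rw [map_smul, mapM_smul]; exact Submodule.smul_mem _ _ hx
  · rcases lt_or_ge l i with h | h
    · exact (hcount l h).2
    · show Module.finrank L _ = _
      rw [hLgt (l + 1) hl (by omega)]
      exact (rkA_tupMap (f := f) κ V l).2
  · show Module.finrank L _ = _
    rw [hLgt l hl.le hil]
    exact (rkA_tupMap (g := g) κ V l).1

end LinkedGrassLib

end
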