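import Groth.Agent.LinkedGrassLib.ChartExist
import Mathlib.RingTheory.LocalRing.ResidueField.Ideal

/-!
# Linked Grassmannians over integral domains: every point generalizes to the generic fibre
-/

set_option autoImplicit false
set_option linter.style.haveILetI false
set_option linter.unusedSectionVars false

universe u

open TensorProduct CategoryTheory AlgebraicGeometry GrassLib

noncomputable section

namespace LinkedGrassLib

section Global

variable {R : Type u} [CommRing R] [IsDomain R] {d r n : ℕ} {f g : Fin n → ((Fin d → R) →ₗ[R] (Fin d → R))}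
  {X : Over (base R)} (e : ∀ A : CommAlgCat.{u} R, (Over.mk (sp A) ⟶ X) ≃ W4c1limliniiii.LGPoints R d r n f g A)

/-- The point of a tuple over a field. -/
def fieldPoint {K : Type u} [Field K] [Algebra R K] (V : Tup R d r n K)
    (hV : V ∈ W4c1limliniiii.LGPoints R d r n f g K) : X.left :=
  ((e (CommAlgCat.of R K)).symm ⟨V, hV⟩).left (IsLocalRing.closedPoint K)

theorem base_fieldPoint {K : Type u} [Field K] [Algebra R K] (V : Tup R d r n K)
    (hV : V ∈ W4c1limliniiii.LGPoints R d r n f g K) :
    (X.hom (fieldPoint e V hV)).asIdeal = RingHom.ker (algebraMap R K) := by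
  let a := (e (CommAlgCat.of R K)).symm ⟨V, hV⟩
  show ((X.hom (a.left (IsLocalRing.closedPoint K)) : PrimeSpectrum R)).asIdeal = _
  rw [← Scheme.Hom.comp_apply, show a.left ≫ X.hom = sp (CommAlgCat.of R K) from Over.w a]
  show Ideal.comap (algebraMap R K) (IsLocalRing.maximalIdeal K) = _
  rw [IsLocalRing.maximalIdeal_eq_bot, ← RingHom.ker_eq_comap_bot]

variable (he : ∀ (A B : CommAlgCat.{u} R) (φ : A →ₐ[R] B) (x : Over.mk (sp A) ⟶ X) (x' : Over.mk (sp B) ⟶ X),
  x'.left = spHom φ ≫ x.left → ∀ i, (e B x').1 i = Module.Grassmannian.map φ ((e A x).1 i))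

include he in
theorem specializes_fieldPoint {A : Type u} [CommRing A] [Algebra R A] (N : Tup R d r n A)
    (hN : N ∈ W4c1limliniiii.LGPoints R d r n f g A) {K L : Type u} [Field K] [Algebra R K] [Field L] [Algebra R L]
    (φ : A →ₐ[R] K) (φ' : A →ₐ[R] L) (hle : RingHom.ker φ'.toRingHom ≤ RingHom.ker φ.toRingHom)
    (V : Tup R d r n K) (hV : V ∈ W4c1limliniiii.LGPoints R d r n f g K) (hφ : tupMap φ N = V)
    (W : Tup R d r n L) (hW : W ∈ W4c1limliniiii.LGPoints R d r n f g L) (hφ' : tupMap φ' N = W) :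
    fieldPoint e W hW ⤳ fieldPoint e V hV := by
  let S : CommAlgCat.{u} R := CommAlgCat.of R A
  let a := (e S).symm ⟨N, hN⟩
  have him : ∀ (F : Type u) [Field F] [Algebra R F] (ψ : A →ₐ[R] F) (U : Tup R d r n F)
      (hU : U ∈ W4c1limliniiii.LGPoints R d r n f g F), tupMap ψ N = U →
        fieldPoint e U hU = a.left ⟨RingHom.ker ψ.toRingHom, RingHom.ker_isPrime _⟩ := by
    intro F _ _ ψ U hU hψ
    subst hψ
    let a' : Over.mk (sp (CommAlgCat.of R F)) ⟶ X := Over.homMk (spHom (A := S) (B := CommAlgCat.of R F) ψ ≫ a.left) (by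
      show (_ ≫ _) ≫ _ = sp _
      rw [Category.assoc, show a.left ≫ X.hom = sp S from Over.w a, spHom_sp])
    have h : (e (CommAlgCat.of R F)).symm ⟨tupMap ψ N, hU⟩ = a' := by
      rw [Equiv.symm_apply_eq]
      refine Subtype.ext (funext fun l => ?_)
      rw [he S (CommAlgCat.of R F) ψ a a' rfl l, Equiv.apply_symm_apply]
      rfl
    show ((e (CommAlgCat.of R F)).symm ⟨tupMap ψ N, hU⟩).left _ = _
    rw [h]
    show (spHom (A := S) (B := CommAlgCat.of R F) ψ ≫ a.left) _ = _
    rw [Scheme.Hom.comp_apply]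
    congr 1
    refine PrimeSpectrum.ext ?_
    show Ideal.comap ψ.toRingHom (IsLocalRing.maximalIdeal F) = RingHom.ker ψ.toRingHom
    rw [IsLocalRing.maximalIdeal_eq_bot, ← RingHom.ker_eq_comap_bot]
  rw [him K φ V hV hφ, him L φ' W hW hφ']
  exact Specializes.map ((PrimeSpectrum.le_iff_specializes _ _).1 hle) a.left.continuous

include he in
theorem exists_generic_of_good (s : R)
    (hI : ∀ i, (f i).comp (g i) = s • LinearMap.id ∧ (g i).comp (f i) = s • LinearMap.id) {K : Type u} [Field K]
    [Algebra R K] {V : Tup R d r n K} (hV : V ∈ W4c1limliniiii.LGPoints R d r n f g K) {C : ChartData d r n}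
    (hC : C.Good f g V) :
    ∃ (L : Type u) (_ : Field L) (_ : Algebra R L) (W : Tup R d r n L)
      (hW : W ∈ W4c1limliniiii.LGPoints R d r n f g L), Function.Injective (algebraMap R L) ∧
        fieldPoint e W hW ⤳ fieldPoint e V hV := by
  obtain ⟨c, hu, hc⟩ := hC
  let A := MvPolynomial (ULift.{u} (C.σ × Fin (d - r))) R
  let c₀ : C.σ → Fin (d - r) → A := fun t a => MvPolynomial.X ⟨(t, a)⟩
  let ev : A →ₐ[R] K := MvPolynomial.aeval fun p => c p.down.1 p.down.2
  have hev : (fun t a => ev (c₀ t a)) = c := funext fun t => funext fun a => MvPolynomial.aeval_X (fun p : ULift.{u} (C.σ × Fin (d - r)) => c p.down.1 p.down.2) ⟨(t, a)⟩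
  let q : Ideal A := RingHom.ker ev.toRingHom
  haveI : q.IsPrime := RingHom.ker_isPrime _
  let B := Localization.AtPrime q
  let ι : A →ₐ[R] B := IsScalarTower.toAlgHom R A B
  let c₁ : C.σ → Fin (d - r) → B := fun t a => ι (c₀ t a)
  have hu₁ : ∀ i, IsUnit (C.D f g c₁ i) := fun i => by
    rw [← C.map_D f g ι c₀ i]
    refine IsLocalization.map_units B (⟨C.D f g c₀ i, fun hm => ?_⟩ : q.primeCompl)
    have h0 : ev (C.D f g c₀ i) = 0 := hm
    rw [C.map_D, hev] at h0
    exact (hu i).ne_zero h0
  obtain ⟨N, hN, hNs⟩ := C.exists_tuple s hI hu₁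
  have hevu : ∀ y : q.primeCompl, IsUnit (ev y) := fun y => isUnit_iff_ne_zero.2 fun h => y.2 h
  let φ : B →ₐ[R] K := IsLocalization.liftAlgHom (M := q.primeCompl) (S := B) hevu
  have hφ : ∀ a, φ (ι a) = ev a := fun a => by
    show φ (algebraMap A B a) = ev a
    simp [φ, IsLocalization.liftAlgHom]
  let L := FractionRing A
  have hgu : ∀ y : q.primeCompl, IsUnit (IsScalarTower.toAlgHom R A L y) := fun y => by
    rw [isUnit_iff_ne_zero]
    intro h
    exact y.2 ((IsFractionRing.injective A L (h.trans (map_zero _).symm)) ▸ q.zero_mem)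
  let φ' : B →ₐ[R] L := IsLocalization.liftAlgHom (M := q.primeCompl) (S := B) hgu
  haveI : IsDomain B := IsLocalization.isDomain_localization q.primeCompl_le_nonZeroDivisors
  have hker : RingHom.ker φ'.toRingHom ≤ RingHom.ker φ.toRingHom := by
    intro b hb
    obtain ⟨a, m, rfl⟩ := IsLocalization.exists_mk'_eq q.primeCompl b
    have h2 : φ' (IsLocalization.mk' B a m * algebraMap A B m) = 0 := by
      rw [map_mul, show φ' (IsLocalization.mk' B a m) = 0 from hb, zero_mul]
    rw [IsLocalization.mk'_spec] at h2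
    have h3 : algebraMap A L a = 0 := by
      rw [← h2]
      simp [φ', IsLocalization.liftAlgHom]
    have h4 : a = 0 := IsFractionRing.injective A L (h3.trans (map_zero _).symm)
    show φ (IsLocalization.mk' B a m) = 0
    rw [h4, IsLocalization.mk'_zero, map_zero]
  refine ⟨L, inferInstance, inferInstance, tupMap φ' N, tupMap_mem φ' hN, ?_, ?_⟩
  · rw [IsScalarTower.algebraMap_eq R A L, RingHom.coe_comp]
    exact (IsFractionRing.injective A L).comp (MvPolynomial.C_injective _ _)
  · refine specializes_fieldPoint e he N hN φ φ' hker V hV (funext fun i => Module.Grassmannian.ext ?_) _ _ rfl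
    show (Module.Grassmannian.map φ (N i)).toSubmodule = _
    rw [C.map_eq hNs φ i, hc i, ← hev]
    simp only [c₁, hφ]

include he in
/-- Every point with values in a field is a specialization of one over the generic point. -/
theorem exists_generic (hrd : r ≤ d) (s : R)
    (hI : ∀ i, (f i).comp (g i) = s • LinearMap.id ∧ (g i).comp (f i) = s • LinearMap.id) {K : Type u} [Field K]
    [Algebra R K] (hc : algebraMap R K s = 0 → Chain0 n (fwd f K) (fwd g K)) {V : Tup R d r n K}
    (hV : V ∈ W4c1limliniiii.LGPoints R d r n f g K) :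
    ∃ (L : Type u) (_ : Field L) (_ : Algebra R L) (W : Tup R d r n L)
      (hW : W ∈ W4c1limliniiii.LGPoints R d r n f g L), Function.Injective (algebraMap R L) ∧
        fieldPoint e W hW ⤳ fieldPoint e V hV := by
  classical
  by_cases hs : algebraMap R K s = 0
  swap
  · obtain ⟨C, hC⟩ := exists_chart_unit hrd s hs hI hV
    exact exists_generic_of_good e he s hI hV hC
  suffices key : ∀ (D : ℕ) (K : Type u) [Field K] [Algebra R K], Chain0 n (fwd f K) (fwd g K) → ∀ (V : Tup R d r n K)
      (hV : V ∈ W4c1limliniiii.LGPoints R d r n f g K),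
      (∑ i ∈ Finset.range n, (r - (rkA (fwd f K) (ext0 V) i + rkB (fwd g K) (ext0 V) i))) = D →
      ∃ (L : Type u) (_ : Field L) (_ : Algebra R L) (W : Tup R d r n L)
        (hW : W ∈ W4c1limliniiii.LGPoints R d r n f g L), Function.Injective (algebraMap R L) ∧
          fieldPoint e W hW ⤳ fieldPoint e V hV from key _ K (hc hs) V hV rfl
  intro D
  induction D using Nat.strong_induction_on with
  | _ D ih =>
    intro K _ _ hcK V hV hD
    by_cases hex : ∀ i < n, rkA (fwd f K) (ext0 V) i + rkB (fwd g K) (ext0 V) i = r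
    · obtain ⟨C, hC⟩ := exists_chart_zero hrd hcK hV hex
      exact exists_generic_of_good e he s hI hV hC
    · have hle := fun i (hi : i < n) => rank_le hcK (linked_tup hrd hV) hi
      have hEx : ∃ i, i < n ∧ rkA (fwd f K) (ext0 V) i + rkB (fwd g K) (ext0 V) i < r := by
        by_contra h
        exact hex fun i hi => le_antisymm (hle i hi) (not_lt.1 fun hlt => h ⟨i, hi, hlt⟩)
      obtain ⟨i, hi, hbad, hgood⟩ : ∃ i, i < n ∧ rkA (fwd f K) (ext0 V) i + rkB (fwd g K) (ext0 V) i < r ∧
          ∀ l < i, rkA (fwd f K) (ext0 V) l + rkB (fwd g K) (ext0 V) l = r :=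
        ⟨Nat.find hEx, (Nat.find_spec hEx).1, (Nat.find_spec hEx).2, fun l hl =>
          le_antisymm (hle l (hl.trans (Nat.find_spec hEx).1)) (not_lt.1 fun h =>
            Nat.find_min hEx hl ⟨hl.trans (Nat.find_spec hEx).1, h⟩)⟩
      obtain ⟨N, hN, hρ, hlt, hb, hlow, hhigh⟩ := exists_deg hrd hcK V hV hi hbad hgood
      have hW := tupMap_mem (genHom (k := R) K) hN
      obtain ⟨L, _, _, W, hWm, hinj, hspec⟩ := ih _ (by
        rw [← hD]
        refine Finset.sum_lt_sum (fun l hl => ?_) ⟨i, Finset.mem_range.2 hi, ?_⟩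
        · rw [Finset.mem_range] at hl
          rcases lt_trichotomy l i with h | h | h
          · rw [hlow l h, Nat.sub_self]
            exact Nat.zero_le _
          · subst h
            rw [hb _ hl]
            omega
          · rw [hb _ hl, hhigh l hl h]
        · rw [hb _ hi]
          omega) (FractionRing (PowerSeries K)) (chain0_map ((genHom (k := R) K).comp (constHom K)) hcK) _ hW rfl
      refine ⟨L, _, _, W, hWm, hinj, hspec.trans ?_⟩
      refine specializes_fieldPoint e he N hN (evalHom K) (genHom K) ?_ V hV hρ _ hW rfl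
      rw [show (genHom (k := R) K).toRingHom = algebraMap (PowerSeries K) (FractionRing (PowerSeries K)) from rfl,
        (RingHom.injective_iff_ker_eq_bot _).1 (IsFractionRing.injective (PowerSeries K) (FractionRing (PowerSeries K)))]
      exact bot_le

end Global

end LinkedGrassLib

end
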