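import Groth.Agent.LinkedGrassLib.Global
import Groth.Agent.LinkedGrassLib.Smooth

/-!
# Components of linked Grassmannians over integral domains
-/

set_option autoImplicit false
set_option linter.style.haveILetI false
set_option linter.unusedSectionVars false

universe u

open TensorProduct CategoryTheory AlgebraicGeometry GrassLib

noncomputable section

namespace LinkedGrassLib

variable {R : Type u} [CommRing R] [IsDomain R] {d r n : ℕ} {f g : Fin n → ((Fin d → R) →ₗ[R] (Fin d → R))}

theorem chain0_of_residue (s : R)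
    (hI : ∀ i, (f i).comp (g i) = s • LinearMap.id ∧ (g i).comp (f i) = s • LinearMap.id)
    (hII : ∀ (P : Ideal R) [P.IsPrime], ∀ i,
      d ≤ Module.finrank P.ResidueField (LinearMap.range ((f i).baseChange P.ResidueField)) +
        Module.finrank P.ResidueField (LinearMap.range ((g i).baseChange P.ResidueField)))
    (hIII : ∀ (P : Ideal R) [P.IsPrime], ∀ i j : Fin n, i.val + 1 = j.val →
      LinearMap.range ((f i).baseChange P.ResidueField) ⊓
          LinearMap.ker ((f j).baseChange P.ResidueField) = ⊥ ∧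
        LinearMap.range ((g j).baseChange P.ResidueField) ⊓
          LinearMap.ker ((g i).baseChange P.ResidueField) = ⊥)
    (K : Type u) [Field K] [Algebra R K] (hs : algebraMap R K s = 0) : Chain0 n (fwd f K) (fwd g K) := by
  let P : Ideal R := RingHom.ker (algebraMap R K)
  haveI : P.IsPrime := RingHom.ker_isPrime _
  let φ : P.ResidueField →ₐ[R] K := Ideal.ResidueField.liftₐ P (Algebra.ofId R K) le_rfl
    (fun x hx => isUnit_iff_ne_zero.2 fun h => hx h)
  have hs' : algebraMap R P.ResidueField s = 0 := Ideal.algebraMap_residueField_eq_zero.2 hs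
  have hz : ∀ (a b : Fin n → ((Fin d → R) →ₗ[R] (Fin d → R))), (∀ i, (a i).comp (b i) = s • LinearMap.id) →
      ∀ i < n, (fwd a P.ResidueField i).comp (fwd b P.ResidueField i) = 0 := fun a b h i hi => by
    rw [fwd_of_lt a _ hi, fwd_of_lt b _ hi, ← LinearMap.baseChange_comp, h, LinearMap.baseChange_smul,
      LinearMap.baseChange_id, ← algebraMap_smul P.ResidueField s (LinearMap.id), hs', zero_smul]
  have hker : ∀ (a b : Fin n → ((Fin d → R) →ₗ[R] (Fin d → R))), (∀ i, (a i).comp (b i) = s • LinearMap.id) →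
      (∀ i, d ≤ Module.finrank P.ResidueField (LinearMap.range ((a i).baseChange P.ResidueField)) +
        Module.finrank P.ResidueField (LinearMap.range ((b i).baseChange P.ResidueField))) →
      ∀ i < n, LinearMap.ker (fwd a P.ResidueField i) ≤ LinearMap.range (fwd b P.ResidueField i) :=
    fun a b h hd i hi => by
      refine (Submodule.eq_of_le_of_finrank_le (LinearMap.range_le_ker_iff.2 (hz a b h i hi)) ?_).ge
      have h1 := LinearMap.finrank_range_add_finrank_ker (fwd a P.ResidueField i)
      rw [Module.finrank_baseChange, Module.finrank_fin_fun] at h1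
      have h2 := hd ⟨i, hi⟩
      rw [← fwd_of_lt a _ hi, ← fwd_of_lt b _ hi] at h2
      omega
  refine chain0_map φ ⟨hz f g fun i => (hI i).1, hz g f fun i => (hI i).2, hker f g (fun i => (hI i).1) (hII P),
    hker g f (fun i => (hI i).2) (fun i => (hII P i).trans (le_of_eq (add_comm _ _))), fun i hi => ?_, fun i hi => ?_⟩
  · rw [fwd_of_lt f _ (Nat.lt_of_succ_lt hi), fwd_of_lt f _ hi]
    exact (hIII P ⟨i, Nat.lt_of_succ_lt hi⟩ ⟨i + 1, hi⟩ rfl).1
  · rw [fwd_of_lt g _ (Nat.lt_of_succ_lt hi), fwd_of_lt g _ hi]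
    exact (hIII P ⟨i, Nat.lt_of_succ_lt hi⟩ ⟨i + 1, hi⟩ rfl).2

section Frames

variable (f g)

/-- The transported rows of a matrix. -/
def frameRow {A : Type u} [CommRing A] [Algebra R A] (c : Fin r → Fin d → A) (i : Fin (n + 1)) (t : Fin r) :
    A ⊗[R] (Fin d → R) :=
  trans (fwd f A) (fwd g A) i 0 (∑ a, c t a • (1 ⊗ₜ[R] (Pi.single a 1 : Fin d → R)))

theorem mapM_frameRow {A B : Type u} [CommRing A] [Algebra R A] [CommRing B] [Algebra R B] (φ : A →ₐ[R] B)
    (c : Fin r → Fin d → A) (i : Fin (n + 1)) (t : Fin r) :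
    mapM φ (frameRow f g c i t) = frameRow f g (fun t a => φ (c t a)) i t := by
  rw [frameRow, frameRow, mapM_trans]
  simp [map_sum, mapM_smul]

theorem exists_frame_tuple (s : R)
    (hI : ∀ i, (f i).comp (g i) = s • LinearMap.id ∧ (g i).comp (f i) = s • LinearMap.id)
    {B L : Type u} [CommRing B] [Algebra R B] [IsLocalRing B] [Field L] [Algebra R L] (ρ : B →ₐ[R] L)
    (hρ : Function.Surjective ρ) (c : Fin r → Fin d → B)
    (hli : ∀ i, LinearIndependent L fun t => mapM ρ (frameRow f g c i t)) :
    ∃ N : Tup R d r n B, N ∈ W4c1limliniiii.LGPoints R d r n f g B ∧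
      ∀ i, (N i).toSubmodule = Submodule.span B (Set.range (frameRow f g c i)) := by
  have hpt : ∀ i, ∃ N : Pt R (Fin d → R) (d - r) B,
      N.toSubmodule = Submodule.span B (Set.range (frameRow f g c i)) := fun i => by
    have h := exists_pt_span ρ hρ (frameRow f g c i) (hli i)
    rwa [Fintype.card_fin] at h
  choose N hN using hpt
  refine ⟨N, fun i => ⟨?_, ?_⟩, hN⟩
  · rw [hN, hN, Submodule.map_span_le, ← fwd_of_lt f B i.2]
    rintro _ ⟨t, rfl⟩
    show ((fwd f B i).comp (trans (fwd f B) (fwd g B) i 0)) _ ∈ _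
    rw [F_trans _ _ (Nat.zero_le _)]
    exact Submodule.subset_span ⟨t, rfl⟩
  · rw [hN, hN, Submodule.map_span_le, ← fwd_of_lt g B i.2]
    rintro _ ⟨t, rfl⟩
    show ((fwd g B i).comp (trans (fwd f B) (fwd g B) (i + 1) 0)) _ ∈ _
    rw [G_trans_of_le _ _ (Nat.zero_le _) _ (comp_fwd f g s hI B i.2).2]
    exact Submodule.smul_mem _ _ (Submodule.subset_span ⟨t, rfl⟩)

theorem injective_trans_zero (s : R)
    (hI : ∀ i, (f i).comp (g i) = s • LinearMap.id ∧ (g i).comp (f i) = s • LinearMap.id) {K : Type u} [Field K]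
    [Algebra R K] (hs : algebraMap R K s ≠ 0) : ∀ l ≤ n, Function.Injective (trans (fwd f K) (fwd g K) l 0) := by
  intro l
  induction l with
  | zero => intro _; rw [trans_self]; exact Function.injective_id
  | succ l ih =>
    intro hl'
    rw [← F_trans (fwd f K) (fwd g K) (Nat.zero_le l), LinearMap.coe_comp]
    refine Function.Injective.comp (fun x y hxy => ?_) (ih (by omega))
    have h2 := (comp_fwd f g s hI K (show l < n by omega)).2
    have h3 := congrArg (fwd g K l) hxy
    rw [← LinearMap.comp_apply, ← LinearMap.comp_apply, h2] at h3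
    simp only [LinearMap.smul_apply, LinearMap.id_apply] at h3
    exact smul_right_injective _ hs h3

theorem exists_frame (hrd : r ≤ d) (s : R)
    (hI : ∀ i, (f i).comp (g i) = s • LinearMap.id ∧ (g i).comp (f i) = s • LinearMap.id) {K : Type u} [Field K]
    [Algebra R K] (hs : algebraMap R K s ≠ 0) {W : Tup R d r n K}
    (hW : W ∈ W4c1limliniiii.LGPoints R d r n f g K) :
    ∃ c : Fin r → Fin d → K, (∀ i, LinearIndependent K (frameRow f g c i)) ∧
      ∀ i, (W i).toSubmodule = Submodule.span K (Set.range (frameRow f g c i)) := by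
  have hl := linked_tup hrd hW
  haveI : Module.Free K ↥(ext0 W 0) := Module.Free.of_divisionRing (K := K) (V := ext0 W 0)
  let bV := Module.finBasisOfFinrankEq K ↥(ext0 W 0) (hl.rank 0 (Nat.zero_le n))
  let c : Fin r → Fin d → K := fun t a => (ChartData.std R K d).repr (bV t : K ⊗[R] (Fin d → R)) a
  have hc : ∀ i t, frameRow f g c i t = trans (fwd f K) (fwd g K) i 0 (bV t : K ⊗[R] (Fin d → R)) := fun i t => by
    rw [frameRow]
    refine congrArg _ ?_
    conv_rhs => rw [← (ChartData.std R K d).sum_repr (bV t : K ⊗[R] (Fin d → R))]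
    refine Finset.sum_congr rfl fun a _ => ?_
    rw [ChartData.std, Algebra.TensorProduct.basis_apply, Pi.basisFun_apply]
    rfl
  have hli : ∀ i, LinearIndependent K (frameRow f g c i) := fun i => by
    rw [funext (hc i)]
    refine LinearIndependent.map' ?_ _ (LinearMap.ker_eq_bot.2 (injective_trans_zero f g s hI hs i (Nat.le_of_lt_succ i.2)))
    exact LinearIndependent.map' (f := (ext0 W 0).subtype) (v := bV) bV.linearIndependent (Submodule.ker_subtype (ext0 W 0))
  refine ⟨c, hli, fun i => (Submodule.eq_of_le_of_finrank_eq (Submodule.span_le.2 ?_) ?_).symm⟩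
  · rintro _ ⟨t, rfl⟩
    rw [SetLike.mem_coe, hc, ← ext0_of_le W i]
    exact map_trans_le (fwd f K) (fwd g K) (ext0 W) hl.mapA hl.mapB (Nat.le_of_lt_succ i.2) (Nat.zero_le n)
      ⟨_, (bV t).2, rfl⟩
  · rw [← ext0_of_le W i, hl.rank i (Nat.le_of_lt_succ i.2), finrank_span_eq_card (hli i), Fintype.card_fin]

end Frames

variable {X : Over (base R)} (e : ∀ A : CommAlgCat.{u} R, (Over.mk (sp A) ⟶ X) ≃ W4c1limliniiii.LGPoints R d r n f g A)
  (he : ∀ (A B : CommAlgCat.{u} R) (φ : A →ₐ[R] B) (x : Over.mk (sp A) ⟶ X) (x' : Over.mk (sp B) ⟶ X),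
    x'.left = spHom φ ≫ x.left → ∀ i, (e B x').1 i = Module.Grassmannian.map φ ((e A x).1 i))

/-- The generic matrix. -/
def genMat (R : Type u) [CommRing R] [IsDomain R] (r d : ℕ) : Fin r → Fin d → FractionRing (MvPolynomial (ULift.{u} (Fin r × Fin d)) R) :=
  fun t a => algebraMap (MvPolynomial (ULift.{u} (Fin r × Fin d)) R) _ (MvPolynomial.X ⟨(t, a)⟩)

include he in
theorem specializes_genMat (hrd : r ≤ d) (s : R)
    (hI : ∀ i, (f i).comp (g i) = s • LinearMap.id ∧ (g i).comp (f i) = s • LinearMap.id) {K : Type u} [Field K]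
    [Algebra R K] (hs : algebraMap R K s ≠ 0) {V : Tup R d r n K} (hV : V ∈ W4c1limliniiii.LGPoints R d r n f g K) :
    ∃ (W : Tup R d r n (FractionRing (MvPolynomial (ULift.{u} (Fin r × Fin d)) R)))
      (hW : W ∈ W4c1limliniiii.LGPoints R d r n f g (FractionRing (MvPolynomial (ULift.{u} (Fin r × Fin d)) R))),
      (∀ i, (W i).toSubmodule = Submodule.span _ (Set.range (frameRow f g (genMat R r d) i))) ∧
        fieldPoint e W hW ⤳ fieldPoint e V hV := by
  obtain ⟨c, hli, hc⟩ := exists_frame f g hrd s hI hs hV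
  let A := MvPolynomial (ULift.{u} (Fin r × Fin d)) R
  let c₀ : Fin r → Fin d → A := fun t a => MvPolynomial.X ⟨(t, a)⟩
  let ev : A →ₐ[R] K := MvPolynomial.aeval fun p => c p.down.1 p.down.2
  have hev : (fun t a => ev (c₀ t a)) = c := funext fun t => funext fun a =>
    MvPolynomial.aeval_X (fun p : ULift.{u} (Fin r × Fin d) => c p.down.1 p.down.2) ⟨(t, a)⟩
  let q : Ideal A := RingHom.ker ev.toRingHom
  haveI : q.IsPrime := RingHom.ker_isPrime _
  let B := Localization.AtPrime q
  let ι : A →ₐ[R] B := IsScalarTower.toAlgHom R A B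
  let c₁ : Fin r → Fin d → B := fun t a => ι (c₀ t a)
  let L := q.ResidueField
  let ρ : B →ₐ[R] L := IsScalarTower.toAlgHom R B L
  have hevu : ∀ y : q.primeCompl, IsUnit (ev y) := fun y => isUnit_iff_ne_zero.2 fun h => y.2 h
  let φ : B →ₐ[R] K := IsLocalization.liftAlgHom (M := q.primeCompl) (S := B) hevu
  have hφ : ∀ a, φ (ι a) = ev a := fun a => by
    show φ (algebraMap A B a) = ev a
    simp [φ, IsLocalization.liftAlgHom]
  let j : L →ₐ[R] K := Ideal.ResidueField.liftₐ q ev le_rfl fun x hx => hevu ⟨x, hx⟩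
  have hj : ∀ a, j (ρ (ι a)) = ev a := fun a => by
    show j (algebraMap B L (algebraMap A B a)) = ev a
    rw [← IsScalarTower.algebraMap_apply]
    exact Ideal.ResidueField.liftₐ_algebraMap q ev le_rfl (fun x hx => hevu ⟨x, hx⟩) a
  have hliL : ∀ i, LinearIndependent L fun t => mapM ρ (frameRow f g c₁ i t) := fun i => by
    rw [Fintype.linearIndependent_iff]
    intro a ha t
    have h := congrArg (mapM j) ha
    rw [map_sum, map_zero] at h
    simp only [mapM_smul, mapM_frameRow] at h
    have hcc : (fun t a => j (ρ (c₁ t a))) = c := by rw [← hev]; simp only [c₁, hj]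
    rw [hcc] at h
    exact j.toRingHom.injective ((Fintype.linearIndependent_iff.1 (hli i) (fun t => j (a t)) h t).trans (map_zero _).symm)
  obtain ⟨N, hN, hNs⟩ := exists_frame_tuple f g s hI ρ IsLocalRing.residue_surjective c₁ hliL
  let F := FractionRing A
  have hgu : ∀ y : q.primeCompl, IsUnit (IsScalarTower.toAlgHom R A F y) := fun y => by
    rw [isUnit_iff_ne_zero]
    intro h
    exact y.2 ((IsFractionRing.injective A F (h.trans (map_zero _).symm)) ▸ q.zero_mem)
  let φ' : B →ₐ[R] F := IsLocalization.liftAlgHom (M := q.primeCompl) (S := B) hgu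
  have hφ' : ∀ a, φ' (ι a) = algebraMap A F a := fun a => by
    show φ' (algebraMap A B a) = _
    simp [φ', IsLocalization.liftAlgHom]
  have hker : RingHom.ker φ'.toRingHom ≤ RingHom.ker φ.toRingHom := by
    intro b hb
    obtain ⟨a, m, rfl⟩ := IsLocalization.exists_mk'_eq q.primeCompl b
    have h2 : φ' (IsLocalization.mk' B a m * algebraMap A B m) = 0 := by
      rw [map_mul, show φ' (IsLocalization.mk' B a m) = 0 from hb, zero_mul]
    rw [IsLocalization.mk'_spec] at h2
    have h4 : a = 0 := IsFractionRing.injective A F (((hφ' a).symm.trans h2).trans (map_zero _).symm)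
    show φ (IsLocalization.mk' B a m) = 0
    rw [h4, IsLocalization.mk'_zero, map_zero]
  have hmap : ∀ {C : Type u} [CommRing C] [Algebra R C] (ψ : B →ₐ[R] C) (i : Fin (n + 1)),
      (Module.Grassmannian.map ψ (N i)).toSubmodule =
        Submodule.span C (Set.range (frameRow f g (fun t a => ψ (c₁ t a)) i)) := by
    intro C _ _ ψ i
    rw [map_toSubmodule_eq, hNs i]
    refine le_antisymm (Submodule.span_le.2 ?_) (Submodule.span_mono ?_)
    · rintro _ ⟨y, hy, rfl⟩
      induction hy using Submodule.span_induction with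
      | mem y hy => obtain ⟨t, rfl⟩ := hy; exact Submodule.subset_span ⟨t, (mapM_frameRow f g ψ c₁ i t).symm⟩
      | zero => rw [map_zero]; exact zero_mem _
      | add a b _ _ ha hb => rw [map_add]; exact add_mem ha hb
      | smul a y _ hy => rw [mapM_smul]; exact Submodule.smul_mem _ _ hy
    · rintro _ ⟨t, rfl⟩
      exact ⟨frameRow f g c₁ i t, Submodule.subset_span ⟨t, rfl⟩, mapM_frameRow f g ψ c₁ i t⟩
  refine ⟨tupMap φ' N, tupMap_mem φ' hN, fun i => ?_, ?_⟩
  · show (Module.Grassmannian.map φ' (N i)).toSubmodule = _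
    rw [hmap φ' i]
    simp only [c₁, hφ']
    rfl
  · refine specializes_fieldPoint e he N hN φ φ' hker V hV (funext fun i => Module.Grassmannian.ext ?_) _ _ rfl
    show (Module.Grassmannian.map φ (N i)).toSubmodule = _
    rw [hmap φ i, hc i, ← hev]
    simp only [c₁, hφ]

include he in
theorem isProper_of_rep : IsProper X.hom := by
  obtain ⟨Y, eY, heY, hY⟩ := Groth.Agent.S13927.result R d r n f g
  let F : ∀ A : CommAlgCat.{u} R, (Over.mk (sp A) ⟶ X) ≃ (Over.mk (sp A) ⟶ Y) :=
    fun A => (e A).trans (eY A).symm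
  obtain ⟨i, hi⟩ := exists_iso_of_points X Y F (fun A B φ x x' hx => by
    let y := F A x
    let y' : Over.mk (sp B) ⟶ Y := Over.homMk (spHom φ ≫ y.left) (by
      show (_ ≫ _) ≫ _ = sp B
      rw [Category.assoc, show y.left ≫ Y.hom = sp A from Over.w y, spHom_sp])
    have h : F B x' = y' := by
      show (eY B).symm (e B x') = y'
      rw [Equiv.symm_apply_eq]
      refine Subtype.ext (funext fun j => ?_)
      rw [he A B φ x x' hx, heY A B (CommAlgCat.ofHom φ) y y' rfl j,
        show eY A y = e A x from (eY A).apply_symm_apply _]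
      rfl
    rw [h]
    rfl)
  haveI := hY
  rw [← hi]
  infer_instance

include he in
theorem exists_generic_specializes (hrd : r ≤ d) (s : R)
    (hI : ∀ i, (f i).comp (g i) = s • LinearMap.id ∧ (g i).comp (f i) = s • LinearMap.id)
    (hc : ∀ (K : Type u) [Field K] [Algebra R K], algebraMap R K s = 0 → Chain0 n (fwd f K) (fwd g K)) (y : X.left) :
    ∃ (L : Type u) (_ : Field L) (_ : Algebra R L) (W : Tup R d r n L)
      (hW : W ∈ W4c1limliniiii.LGPoints R d r n f g L), Function.Injective (algebraMap R L) ∧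
        fieldPoint e W hW ⤳ y := by
  letI alg : Algebra R (X.left.residueField y) :=
    (Spec.preimage (X.left.fromSpecResidueField y ≫ X.hom)).hom.toAlgebra
  let a : Over.mk (sp (CommAlgCat.of R (X.left.residueField y))) ⟶ X :=
    Over.homMk (X.left.fromSpecResidueField y) (Spec.map_preimage _).symm
  obtain ⟨L, _, _, W, hW, hinj, hspec⟩ := exists_generic e he hrd s hI (hc _) (e _ a).2
  refine ⟨L, _, _, W, hW, hinj, ?_⟩
  have h : fieldPoint e (e _ a).1 (e _ a).2 = y := by
    show ((e _).symm (e _ a)).left _ = y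
    rw [Equiv.symm_apply_apply]
    exact Scheme.fromSpecResidueField_apply _ _
  rwa [h] at hspec

include he in
theorem surjective_component (hrd : r ≤ d) (s : R)
    (hI : ∀ i, (f i).comp (g i) = s • LinearMap.id ∧ (g i).comp (f i) = s • LinearMap.id)
    (hc : ∀ (K : Type u) [Field K] [Algebra R K], algebraMap R K s = 0 → Chain0 n (fwd f K) (fwd g K))
    {Z : Set X.left} (hZ : Z ∈ irreducibleComponents X.left) : X.hom '' Z = Set.univ := by
  haveI := isProper_of_rep e he
  have hcl := isClosed_of_mem_irreducibleComponents Z hZ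
  obtain ⟨η, hη⟩ := QuasiSober.sober hZ.1 hcl
  obtain ⟨L, _, _, W, hW, hinj, hspec⟩ := exists_generic_specializes e he hrd s hI hc η
  have hsub : closure {η} ⊆ closure {fieldPoint e W hW} := closure_minimal
    (Set.singleton_subset_iff.2 hspec.mem_closure) isClosed_closure
  have heq : fieldPoint e W hW ∈ Z :=
    hZ.2 isIrreducible_singleton.closure (hη.def.ge.trans hsub) (subset_closure rfl)
  have hbase : (X.hom (fieldPoint e W hW) : PrimeSpectrum R) = ⟨⊥, Ideal.isPrime_bot⟩ := PrimeSpectrum.ext (by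
    rw [base_fieldPoint e W hW]
    exact (RingHom.injective_iff_ker_eq_bot _).1 hinj)
  refine Set.eq_univ_of_forall fun p => ?_
  have h := (X.hom.isClosedMap Z hcl).closure_subset_iff.2
    (show ({X.hom (fieldPoint e W hW)} : Set _) ⊆ X.hom '' Z from Set.singleton_subset_iff.2 ⟨_, heq, rfl⟩)
  refine h ((?_ : X.hom (fieldPoint e W hW) ⤳ p).mem_closure)
  rw [hbase]
  exact (PrimeSpectrum.le_iff_specializes _ (p : PrimeSpectrum R)).1 bot_le

include he in
theorem irreducibleSpace (hrd : r ≤ d) (s : R) (hs : s ≠ 0)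
    (hI : ∀ i, (f i).comp (g i) = s • LinearMap.id ∧ (g i).comp (f i) = s • LinearMap.id)
    (hc : ∀ (K : Type u) [Field K] [Algebra R K], algebraMap R K s = 0 → Chain0 n (fwd f K) (fwd g K)) :
    IrreducibleSpace X.left := by
  have hsF : ∀ (L : Type u) [Field L] [Algebra R L], Function.Injective (algebraMap R L) → algebraMap R L s ≠ 0 :=
    fun L _ _ hinj h => hs (hinj (h.trans (map_zero _).symm))
  let F₀ := FractionRing R
  have hli : ∀ i : Fin (n + 1), LinearIndependent F₀ fun t => mapM (AlgHom.id R F₀)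
      (frameRow f g (fun (t : Fin r) a => if a = Fin.castLE hrd t then (1 : F₀) else 0) i t) := fun i => by
    have h0 : LinearIndependent F₀ fun t : Fin r => (1 : F₀) ⊗ₜ[R] (Pi.single (Fin.castLE hrd t) 1 : Fin d → R) := by
      have := (Algebra.TensorProduct.basis F₀ (Pi.basisFun R (Fin d))).linearIndependent.comp (Fin.castLE hrd)
        (Fin.castLE_injective hrd)
      convert this with t
      simp
    have e1 : (fun t => mapM (AlgHom.id R F₀)
        (frameRow f g (fun (t : Fin r) a => if a = Fin.castLE hrd t then (1 : F₀) else 0) i t)) =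
        fun t => trans (fwd f F₀) (fwd g F₀) i 0 ((1 : F₀) ⊗ₜ[R] (Pi.single (Fin.castLE hrd t) 1 : Fin d → R)) := by
      funext t
      rw [mapM_frameRow]
      simp [frameRow]
    rw [e1]
    exact LinearIndependent.map' (f := trans (fwd f F₀) (fwd g F₀) i 0) h0 (LinearMap.ker_eq_bot.2
      (injective_trans_zero f g s hI (hsF F₀ (IsFractionRing.injective R F₀)) i (Nat.le_of_lt_succ i.2)))
  obtain ⟨W₀, hW₀, -⟩ := exists_frame_tuple f g s hI (AlgHom.id R F₀) Function.surjective_id _ hli
  obtain ⟨W, hW, hWs, -⟩ := specializes_genMat e he hrd s hI (hsF F₀ (IsFractionRing.injective R F₀)) hW₀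
  let ξ := fieldPoint e W hW
  have huniv : closure ({ξ} : Set X.left) = Set.univ := Set.eq_univ_of_forall fun y => by
    obtain ⟨L, _, _, V, hV, hinj, hspec⟩ := exists_generic_specializes e he hrd s hI hc y
    obtain ⟨W', hW', hWs', hspec'⟩ := specializes_genMat e he hrd s hI (hsF L hinj) hV
    obtain rfl : W' = W := funext fun i => Module.Grassmannian.ext ((hWs' i).trans (hWs i).symm)
    exact (hspec'.trans hspec).mem_closure
  haveI : Nonempty X.left := ⟨ξ⟩
  haveI : PreirreducibleSpace X.left := ⟨by rw [← huniv]; exact isPreirreducible_singleton.closure⟩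
  exact ⟨inferInstance⟩

end LinkedGrassLib

end
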