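import Groth.Agent.LinkedGrassLib.Chain
import Groth.Agent.GrassLib.Linked
import Groth.Prelude.Def_W4c1limliniiiiLG
import Mathlib.RingTheory.Nakayama
import Mathlib.LinearAlgebra.Basis.VectorSpace
import Mathlib.LinearAlgebra.Dimension.OrzechProperty

/-!
# Lifting exact points of linked Grassmannians
-/

set_option autoImplicit false
set_option linter.style.haveILetI false
set_option linter.unusedSectionVars false

universe u

open TensorProduct GrassLib

noncomputable section

namespace LinkedGrassLib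

section Vectors

variable {k : Type u} [CommRing k] [Nontrivial k]

variable {B L : Type u} [CommRing B] [Algebra k B] [IsLocalRing B] [Field L] [Algebra k L]
variable {d : ℕ} (ρ : B →ₐ[k] L) (hρ : Function.Surjective ρ)

include hρ in
theorem mem_range_mapM (y : L ⊗[k] (Fin d → k)) : ∃ x : B ⊗[k] (Fin d → k), mapM ρ x = y :=
  LinearMap.rTensor_surjective _ (g := ρ.toLinearMap) hρ y

include hρ in
theorem exists_lift_mem {q : ℕ} (N : Pt k (Fin d → k) q B) {y : L ⊗[k] (Fin d → k)}
    (hy : y ∈ (Module.Grassmannian.map ρ N).toSubmodule) : ∃ x ∈ N.toSubmodule, mapM ρ x = y := by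
  rw [map_toSubmodule_eq] at hy
  induction hy using Submodule.span_induction with
  | mem y hy =>
    obtain ⟨x, hx, rfl⟩ := hy
    exact ⟨x, hx, rfl⟩
  | zero => exact ⟨0, zero_mem _, map_zero _⟩
  | add y z _ _ hy hz =>
    obtain ⟨a, ha, rfl⟩ := hy
    obtain ⟨b, hb, rfl⟩ := hz
    exact ⟨a + b, add_mem ha hb, map_add _ _ _⟩
  | smul c y _ hy =>
    obtain ⟨a, ha, rfl⟩ := hy
    obtain ⟨c, rfl⟩ := hρ c
    exact ⟨c • a, Submodule.smul_mem _ _ ha, mapM_smul ρ c a⟩

include hρ in
theorem ker_mapM_le {x : B ⊗[k] (Fin d → k)} (hx : mapM ρ x = 0) :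
    x ∈ (IsLocalRing.maximalIdeal B) • (⊤ : Submodule B (B ⊗[k] (Fin d → k))) := by
  have hex : Function.Exact (LinearMap.rTensor (Fin d → k) (LinearMap.ker ρ.toLinearMap).subtype)
      (LinearMap.rTensor (Fin d → k) ρ.toLinearMap) :=
    _root_.rTensor_exact _ (LinearMap.exact_subtype_ker_map _) hρ
  obtain ⟨z, rfl⟩ := (hex x).1 hx
  clear hx
  induction z using TensorProduct.induction_on with
  | zero => rw [map_zero]; exact zero_mem _
  | tmul a m =>
    rw [LinearMap.rTensor_tmul, show (LinearMap.ker ρ.toLinearMap).subtype a ⊗ₜ[k] m =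
      (a : B) • ((1 : B) ⊗ₜ[k] m) by rw [smul_tmul', smul_eq_mul, mul_one]; rfl]
    refine Submodule.smul_mem_smul (IsLocalRing.le_maximalIdeal (RingHom.ker_ne_top ρ.toRingHom) ?_) Submodule.mem_top
    exact a.2
  | add a b ha hb => rw [map_add]; exact add_mem ha hb

include hρ in
/-- Vectors independent modulo the maximal ideal span a point. -/
theorem exists_pt_span {σ : Type} [Fintype σ] (v : σ → B ⊗[k] (Fin d → k))
    (hv : LinearIndependent L fun t => mapM ρ (v t)) :
    ∃ N : Pt k (Fin d → k) (d - Fintype.card σ) B, N.toSubmodule = Submodule.span B (Set.range v) := by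
  classical
  let E := L ⊗[k] (Fin d → k)
  let S := Submodule.span L (Set.range fun t => mapM ρ (v t))
  have hE : Module.finrank L E = d := by
    rw [Module.finrank_baseChange, Module.finrank_fin_fun]
  have hS : Module.finrank L S = Fintype.card σ := finrank_span_eq_card hv
  obtain ⟨C, hC⟩ := Submodule.exists_isCompl S
  let c := d - Fintype.card σ
  have hCr : Module.finrank L C = c := by
    have := Submodule.finrank_add_eq_of_isCompl hC
    rw [hS, hE] at this
    omega
  haveI : Module.Free L C := Module.Free.of_divisionRing (K := L) (V := C)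
  let bC : Module.Basis (Fin c) L C := Module.finBasisOfFinrankEq L C hCr
  choose e he using fun j : Fin c => mem_range_mapM ρ hρ (bC j : E)
  let w : σ ⊕ Fin c → B ⊗[k] (Fin d → k) := Sum.elim v e
  have htop : ∀ y : E, ∃ x ∈ Submodule.span B (Set.range w), mapM ρ x = y := fun y => by
    have hy : y ∈ Submodule.span L (Set.range fun t => mapM ρ (w t)) := by
      have hy2 : y ∈ S ⊔ C := by rw [hC.sup_eq_top]; trivial
      refine (sup_le (Submodule.span_mono ?_) ?_ : S ⊔ C ≤ _) hy2
      · rintro _ ⟨t, rfl⟩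
        exact ⟨Sum.inl t, rfl⟩
      · intro z hz
        have h1 := bC.sum_repr ⟨z, hz⟩
        rw [show z = _ from (congrArg Subtype.val h1).symm, Submodule.coe_sum]
        refine Submodule.sum_mem _ fun j _ => ?_
        rw [Submodule.coe_smul, ← he j]
        exact Submodule.smul_mem _ _ (Submodule.subset_span ⟨Sum.inr j, rfl⟩)
    induction hy using Submodule.span_induction with
    | mem y hy =>
      obtain ⟨t, rfl⟩ := hy
      exact ⟨w t, Submodule.subset_span ⟨t, rfl⟩, rfl⟩
    | zero => exact ⟨0, zero_mem _, map_zero _⟩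
    | add y z _ _ hy hz =>
      obtain ⟨a, ha, rfl⟩ := hy
      obtain ⟨b, hb, rfl⟩ := hz
      exact ⟨a + b, add_mem ha hb, map_add _ _ _⟩
    | smul c y _ hy =>
      obtain ⟨a, ha, rfl⟩ := hy
      obtain ⟨c, rfl⟩ := hρ c
      exact ⟨c • a, Submodule.smul_mem _ _ ha, mapM_smul ρ c a⟩
  have hw : Submodule.span B (Set.range w) = ⊤ := top_le_iff.1 <|
    Submodule.le_of_le_smul_of_le_jacobson_bot (I := IsLocalRing.maximalIdeal B) Module.Finite.fg_top
      (IsLocalRing.maximalIdeal_le_jacobson _) fun x _ => by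
      obtain ⟨x', hx', hxx⟩ := htop (mapM ρ x)
      rw [show x = x' + (x - x') by abel]
      exact Submodule.add_mem_sup hx' (ker_mapM_le ρ hρ (by rw [map_sub, hxx, sub_self]))
  let Φ : (σ ⊕ Fin c → B) →ₗ[B] B ⊗[k] (Fin d → k) := Fintype.linearCombination B w
  have hΦs : Function.Surjective Φ := LinearMap.range_eq_top.1 (by
    rw [Fintype.range_linearCombination]; exact hw)
  have hle : Fintype.card σ ≤ d := by
    rw [← hS]
    exact (Submodule.finrank_le S).trans hE.le
  have hcard : Fintype.card (σ ⊕ Fin c) = d := by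
    rw [Fintype.card_sum, Fintype.card_fin]
    omega
  let ι : B ⊗[k] (Fin d → k) ≃ₗ[B] (σ ⊕ Fin c → B) :=
    (TensorProduct.piScalarRight k B B (Fin d)).trans
      (LinearEquiv.funCongrLeft B B (Fintype.equivFinOfCardEq hcard))
  have hΦi : Function.Injective Φ := fun a b h =>
    OrzechProperty.injective_of_surjective_endomorphism (ι.toLinearMap.comp Φ) (ι.surjective.comp hΦs) (congrArg ι h)
  let e₀ : (σ ⊕ Fin c → B) ≃ₗ[B] B ⊗[k] (Fin d → k) := LinearEquiv.ofBijective Φ ⟨hΦi, hΦs⟩
  let π : B ⊗[k] (Fin d → k) →ₗ[B] (Fin c → B) := (LinearMap.funLeft B B Sum.inr).comp e₀.symm.toLinearMap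
  have hπ : Function.Surjective π :=
    (LinearMap.funLeft_surjective_of_injective B B _ Sum.inr_injective).comp e₀.symm.surjective
  have hker : LinearMap.ker π = Submodule.span B (Set.range v) := by
    refine le_antisymm (fun x hx => ?_) (Submodule.span_le.2 ?_)
    · rw [← e₀.apply_symm_apply x]
      show Fintype.linearCombination B w (e₀.symm x) ∈ _
      rw [Fintype.linearCombination_apply, Fintype.sum_sum_type]
      refine add_mem (Submodule.sum_mem _ fun t _ => Submodule.smul_mem _ _ (Submodule.subset_span ⟨t, rfl⟩)) ?_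
      refine Submodule.sum_mem _ fun j _ => ?_
      rw [show e₀.symm x (Sum.inr j) = 0 from congrFun hx j, zero_smul]
      exact zero_mem _
    · rintro _ ⟨t, rfl⟩
      have h1 : e₀.symm (v t) = Pi.single (Sum.inl t) 1 := by
        rw [LinearEquiv.symm_apply_eq]
        show _ = Fintype.linearCombination B w _
        rw [Fintype.linearCombination_apply_single, one_smul]
        rfl
      show π (v t) = 0
      funext j
      show e₀.symm (v t) (Sum.inr j) = 0
      rw [h1, Pi.single_eq_of_ne (by simp)]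
  let eq := (Submodule.quotEquivOfEq _ _ hker.symm).trans (π.quotKerEquivOfSurjective hπ)
  exact ⟨{ toSubmodule := Submodule.span B (Set.range v)
           finite_quotient := Module.Finite.equiv eq.symm
           projective_quotient := Module.Projective.of_equiv eq.symm
           rankAtStalk_eq := fun p => by rw [Module.rankAtStalk_eq_of_equiv eq]; exact free_rank p }, rfl⟩

end Vectors

section Lift

variable {k : Type u} [CommRing k] [Nontrivial k]

variable {d r n : ℕ} (f g : Fin n → ((Fin d → k) →ₗ[k] (Fin d → k)))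

/-- The forward maps, indexed by natural numbers. -/
def fwd (A : Type u) [CommRing A] [Algebra k A] (i : ℕ) : A ⊗[k] (Fin d → k) →ₗ[A] A ⊗[k] (Fin d → k) :=
  if h : i < n then (f ⟨i, h⟩).baseChange A else 0

theorem fwd_of_lt (A : Type u) [CommRing A] [Algebra k A] {i : ℕ} (h : i < n) :
    fwd f A i = (f ⟨i, h⟩).baseChange A := dif_pos h

theorem mapM_fwd {A B : Type u} [CommRing A] [Algebra k A] [CommRing B] [Algebra k B] (φ : A →ₐ[k] B) (i : ℕ)
    (x : A ⊗[k] (Fin d → k)) : mapM φ (fwd f A i x) = fwd f B i (mapM φ x) := by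
  unfold fwd
  split
  · exact mapM_baseChange₂ φ _ x
  · simp

theorem mapM_trans {A B : Type u} [CommRing A] [Algebra k A] [CommRing B] [Algebra k B] (φ : A →ₐ[k] B) (i j : ℕ)
    (x : A ⊗[k] (Fin d → k)) : mapM φ (trans (fwd f A) (fwd g A) i j x) = trans (fwd f B) (fwd g B) i j (mapM φ x) :=
  trans_natural _ _ _ _ (mapM φ) (mapM_fwd f φ) (mapM_fwd g φ) i j x

variable (s : k) (hI : ∀ i, (f i).comp (g i) = s • LinearMap.id ∧ (g i).comp (f i) = s • LinearMap.id)

include hI in
theorem comp_fwd (A : Type u) [CommRing A] [Algebra k A] {i : ℕ} (h : i < n) :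
    (fwd f A i).comp (fwd g A i) = algebraMap k A s • LinearMap.id ∧
      (fwd g A i).comp (fwd f A i) = algebraMap k A s • LinearMap.id := by
  rw [fwd_of_lt f A h, fwd_of_lt g A h, ← LinearMap.baseChange_comp, ← LinearMap.baseChange_comp, (hI _).1, (hI _).2,
    LinearMap.baseChange_smul, LinearMap.baseChange_id]
  exact ⟨(algebraMap_smul A s _).symm, (algebraMap_smul A s _).symm⟩

/-- A tuple of points indexed by natural numbers. -/
def ext0 {A : Type u} [CommRing A] [Algebra k A] (V : Fin (n + 1) → Pt k (Fin d → k) (d - r) A) (i : ℕ) :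
    Submodule A (A ⊗[k] (Fin d → k)) := (V ⟨min i n, by omega⟩).toSubmodule

theorem ext0_of_le {A : Type u} [CommRing A] [Algebra k A] (V : Fin (n + 1) → Pt k (Fin d → k) (d - r) A) (i : Fin (n + 1)) :
    ext0 V i = (V i).toSubmodule := by
  have h : (⟨min (i : ℕ) n, by omega⟩ : Fin (n + 1)) = i := Fin.ext (min_eq_left (Nat.le_of_lt_succ i.2))
  rw [ext0, h]

theorem linked_ext0 {A : Type u} [CommRing A] [Algebra k A] {V : Fin (n + 1) → Pt k (Fin d → k) (d - r) A}
    (hV : V ∈ W4c1limliniiii.LGPoints k d r n f g A) :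
    (∀ i < n, (ext0 V i).map (fwd f A i) ≤ ext0 V (i + 1)) ∧ (∀ i < n, (ext0 V (i + 1)).map (fwd g A i) ≤ ext0 V i) := by
  have h : ∀ i (hi : i < n), ext0 V i = (V (⟨i, hi⟩ : Fin n).castSucc).toSubmodule ∧
      ext0 V (i + 1) = (V (⟨i, hi⟩ : Fin n).succ).toSubmodule := fun i hi =>
    ⟨ext0_of_le V (⟨i, hi⟩ : Fin n).castSucc, ext0_of_le V (⟨i, hi⟩ : Fin n).succ⟩
  refine ⟨fun i hi => ?_, fun i hi => ?_⟩
  · rw [(h i hi).1, (h i hi).2, fwd_of_lt f A hi]
    exact (hV ⟨i, hi⟩).1
  · rw [(h i hi).1, (h i hi).2, fwd_of_lt g A hi]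
    exact (hV ⟨i, hi⟩).2

theorem finrank_ext0 (hrd : r ≤ d) (K : Type u) [Field K] [Algebra k K] (V : Fin (n + 1) → Pt k (Fin d → k) (d - r) K)
    (i : ℕ) : Module.finrank K (ext0 V i) = r := by
  let N := V ⟨min i n, by omega⟩
  have h1 := N.toSubmodule.finrank_quotient_add_finrank
  have h2 := N.rankAtStalk_eq ⟨⊥, Ideal.isPrime_bot⟩
  rw [Module.rankAtStalk_eq_finrank_of_free] at h2
  have h3 : Module.finrank K (K ⊗[k] (Fin d → k)) = d := by rw [Module.finrank_baseChange, Module.finrank_fin_fun]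
  have h4 : Module.finrank K ((K ⊗[k] (Fin d → k)) ⧸ N.toSubmodule) = d - r := h2
  show Module.finrank K N.toSubmodule = r
  omega

end Lift

section Rational

variable {k : Type u} [Field k] {d r n : ℕ} (f g : Fin n → ((Fin d → k) →ₗ[k] (Fin d → k)))
  (s : k) (hI : ∀ i, (f i).comp (g i) = s • LinearMap.id ∧ (g i).comp (f i) = s • LinearMap.id)

include hI in
/-- Adapted vectors of an exact point. -/
theorem exists_adapted_vectors (hrd : r ≤ d)
    (hIII : ∀ i j : Fin n, i.val + 1 = j.val → LinearMap.range (f i) ⊓ LinearMap.ker (f j) = ⊥)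
    (V : Fin (n + 1) → Pt k (Fin d → k) (d - r) k) (hV : V ∈ W4c1limliniiii.LGPoints k d r n f g k)
    (hx : W4c1limliniiii.IsExact k d r n f g k V) :
    ∃ (σ : Type) (_ : Fintype σ) (j : σ → Fin (n + 1)) (w : σ → k ⊗[k] (Fin d → k)), Fintype.card σ = r ∧
      (∀ t, w t ∈ (V (j t)).toSubmodule) ∧
      ∀ i : Fin (n + 1), (V i).toSubmodule ≤
        Submodule.span k (Set.range fun t => trans (fwd f k) (fwd g k) i (j t) (w t)) := by
  classical
  obtain ⟨hA, hB⟩ := linked_ext0 f g hV
  have hc := fun i (hi : i < n) => comp_fwd f g s hI k hi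
  have hW : ∃ W : ℕ → Submodule k (k ⊗[k] (Fin d → k)), (∀ j ≤ n, W j ≤ ext0 V j) ∧
      (∑ j ∈ Finset.range (n + 1), Module.finrank k (W j)) = r ∧
      ∀ i ≤ n, ext0 V i ≤ ⨆ j ∈ Finset.range (n + 1), (W j).map (trans (fwd f k) (fwd g k) i j) := by
    by_cases hs : s = 0
    · subst hs
      refine exists_adapted_zero (fwd f k) (fwd g k) n (ext0 V) hA hB r (fun i _ => finrank_ext0 hrd k V i)
        (fun i hi => by rw [(hc i hi).2, map_zero, zero_smul]) (fun i hi => ?_)
        (fun i hi => by rw [(hc i hi).1, map_zero, zero_smul]) (fun i hi => ?_)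
      · have h1 := (hx ⟨i, hi⟩).2
        rw [fwd_of_lt f k hi, fwd_of_lt g k hi]
        rwa [← ext0_of_le V (⟨i, hi⟩ : Fin n).castSucc, ← ext0_of_le V (⟨i, hi⟩ : Fin n).succ] at h1
      · rw [fwd_of_lt f k (Nat.lt_of_succ_lt hi), fwd_of_lt f k hi, eq_bot_iff]
        rintro y ⟨⟨z, rfl⟩, hy⟩
        let e := TensorProduct.lid k (Fin d → k)
        have he : ∀ (L : (Fin d → k) →ₗ[k] (Fin d → k)) z, e (L.baseChange k z) = L (e z) := fun L z => by
          induction z using TensorProduct.induction_on with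
          | zero => simp
          | tmul a m => simp [e]
          | add a b ha hb => simp only [map_add, ha, hb]
        have h1 : e ((f ⟨i, Nat.lt_of_succ_lt hi⟩).baseChange k z) ∈
            LinearMap.range (f ⟨i, Nat.lt_of_succ_lt hi⟩) ⊓ LinearMap.ker (f ⟨i + 1, hi⟩) := by
          refine ⟨⟨e z, (he _ z).symm⟩, ?_⟩
          show f ⟨i + 1, hi⟩ (e _) = 0
          rw [← he, show (f ⟨i + 1, hi⟩).baseChange k ((f ⟨i, Nat.lt_of_succ_lt hi⟩).baseChange k z) = 0 from hy, map_zero]
        rw [hIII _ _ (by rfl), Submodule.mem_bot] at h1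
        exact (Submodule.mem_bot k).2 (e.map_eq_zero_iff.1 h1)
    · exact exists_adapted_unit (fwd f k) (fwd g k) n (ext0 V) hA hB r (fun i _ => finrank_ext0 hrd k V i) hs
        (fun i hi => by rw [(hc i hi).2]; rfl)
  obtain ⟨W, hW1, hW2, hW3⟩ := hW
  haveI : ∀ j : Fin (n + 1), Module.Free k (W j) := fun j => Module.Free.of_divisionRing (K := k) (V := W j)
  let b : ∀ j : Fin (n + 1), Module.Basis (Fin (Module.finrank k (W j))) k (W j) := fun j => Module.finBasis k (W j)
  refine ⟨Σ j : Fin (n + 1), Fin (Module.finrank k (W j)), inferInstance, Sigma.fst,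
    fun t => (b t.1 t.2 : k ⊗[k] (Fin d → k)), ?_, fun t => ?_, fun i => ?_⟩
  · rw [Fintype.card_sigma]
    simp only [Fintype.card_fin]
    rw [← hW2, Finset.sum_range]
  · rw [← ext0_of_le V t.1]
    exact hW1 _ (Nat.le_of_lt_succ t.1.2) (b t.1 t.2).2
  · rw [← ext0_of_le V i]
    refine (hW3 i (Nat.le_of_lt_succ i.2)).trans (iSup₂_le fun j hj => ?_)
    rintro _ ⟨y, hy, rfl⟩
    obtain ⟨j, rfl⟩ : ∃ j' : Fin (n + 1), (j' : ℕ) = j := ⟨⟨j, Finset.mem_range.1 hj⟩, rfl⟩
    rw [show y = _ from (congrArg Subtype.val ((b j).sum_repr ⟨y, hy⟩)).symm, Submodule.coe_sum, map_sum]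
    refine Submodule.sum_mem _ fun t _ => ?_
    rw [Submodule.coe_smul, map_smul]
    exact Submodule.smul_mem _ _ (Submodule.subset_span ⟨⟨j, t⟩, rfl⟩)

include hI in
/-- An exact point lifts along surjections of local algebras. -/
theorem exists_lift (hrd : r ≤ d)
    (hIII : ∀ i j : Fin n, i.val + 1 = j.val → LinearMap.range (f i) ⊓ LinearMap.ker (f j) = ⊥)
    (V : Fin (n + 1) → Pt k (Fin d → k) (d - r) k) (hV : V ∈ W4c1limliniiii.LGPoints k d r n f g k)
    (hx : W4c1limliniiii.IsExact k d r n f g k V)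
    {B' B L : Type u} [CommRing B'] [Algebra k B'] [IsLocalRing B'] [CommRing B] [Algebra k B] [IsLocalRing B]
    [Field L] [Algebra k L] (φ : B' →ₐ[k] B) (hφ : Function.Surjective φ) (ρ : B →ₐ[k] L) (hρ : Function.Surjective ρ)
    (N : Fin (n + 1) → Pt k (Fin d → k) (d - r) B) (hN : N ∈ W4c1limliniiii.LGPoints k d r n f g B)
    (hNV : ∀ i, Module.Grassmannian.map ρ (N i) = Module.Grassmannian.map (Algebra.ofId k L) (V i)) :
    ∃ N' ∈ W4c1limliniiii.LGPoints k d r n f g B', ∀ i, Module.Grassmannian.map φ (N' i) = N i := by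
  classical
  obtain ⟨σ, hσ, j, w, hcard, hwV, hspan⟩ := exists_adapted_vectors f g s hI hrd hIII V hV hx
  have hw : ∀ t, ∃ x ∈ (N (j t)).toSubmodule, mapM ρ x = mapM (Algebra.ofId k L) (w t) := fun t =>
    exists_lift_mem ρ hρ (N (j t)) (by rw [hNV]; exact mapM_mem _ (hwV t))
  choose w₁ hw₁ hw₁' using hw
  have hw2 : ∀ t, ∃ x : B' ⊗[k] (Fin d → k), mapM φ x = w₁ t := fun t =>
    LinearMap.rTensor_surjective _ (g := φ.toLinearMap) hφ (w₁ t)
  choose w₂ hw₂ using hw2
  let v : Fin (n + 1) → σ → B' ⊗[k] (Fin d → k) := fun i t => trans (fwd f B') (fwd g B') i (j t) (w₂ t)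
  have hli : ∀ i, LinearIndependent L fun t => mapM (ρ.comp φ) (v i t) := fun i => by
    have he : ∀ t, mapM (ρ.comp φ) (v i t) =
        mapM (Algebra.ofId k L) (trans (fwd f k) (fwd g k) i (j t) (w t)) := fun t => by
      show mapM (ρ.comp φ) (trans _ _ _ _ _) = _
      rw [mapM_trans, mapM_comp, hw₂, hw₁', ← mapM_trans]
    rw [funext he, linearIndependent_iff_card_le_finrank_span]
    show Fintype.card σ ≤ Set.finrank L _
    rw [hcard, ← finrank_ext0 hrd L (fun i => Module.Grassmannian.map (Algebra.ofId k L) (V i)) i, ext0_of_le]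
    refine Submodule.finrank_mono ?_
    rw [map_toSubmodule_eq, Submodule.span_le]
    rintro _ ⟨y, hy, rfl⟩
    replace hy := hspan i hy
    induction hy using Submodule.span_induction with
    | mem y hy => obtain ⟨t, rfl⟩ := hy; exact Submodule.subset_span ⟨t, rfl⟩
    | zero => rw [map_zero]; exact zero_mem _
    | add a b _ _ ha hb => rw [map_add]; exact add_mem ha hb
    | smul c y _ hy => rw [mapM_smul]; exact Submodule.smul_mem _ _ hy
  have hpt : ∀ i, ∃ N' : Pt k (Fin d → k) (d - r) B', N'.toSubmodule = Submodule.span B' (Set.range (v i)) := fun i => by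
    rw [← hcard]
    exact exists_pt_span (ρ.comp φ) (hρ.comp hφ) (v i) (hli i)
  choose N' hN' using hpt
  have hc := fun i (hi : i < n) => comp_fwd f g s hI B' hi
  refine ⟨N', fun i => ⟨?_, ?_⟩, fun i => eq_of_le ?_⟩
  · rw [hN', hN', Submodule.map_span_le, ← fwd_of_lt f B' i.2]
    rintro _ ⟨t, rfl⟩
    show ((fwd f B' i).comp (trans (fwd f B') (fwd g B') i (j t))) (w₂ t) ∈ _
    rcases le_or_gt (j t : ℕ) i with h | h
    · rw [F_trans _ _ h]
      exact Submodule.subset_span ⟨t, rfl⟩
    · rw [F_trans_of_gt _ _ h _ (hc i i.2).1]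
      exact Submodule.smul_mem _ _ (Submodule.subset_span ⟨t, rfl⟩)
  · rw [hN', hN', Submodule.map_span_le, ← fwd_of_lt g B' i.2]
    rintro _ ⟨t, rfl⟩
    show ((fwd g B' i).comp (trans (fwd f B') (fwd g B') (i + 1) (j t))) (w₂ t) ∈ _
    rcases le_or_gt (j t : ℕ) i with h | h
    · rw [G_trans_of_le _ _ h _ (hc i i.2).2]
      exact Submodule.smul_mem _ _ (Submodule.subset_span ⟨t, rfl⟩)
    · rw [G_trans _ _ h]
      exact Submodule.subset_span ⟨t, rfl⟩
  · rw [map_toSubmodule_eq, hN', Submodule.span_le]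
    rintro _ ⟨y, hy, rfl⟩
    induction hy using Submodule.span_induction with
    | mem y hy =>
      obtain ⟨t, rfl⟩ := hy
      show mapM φ (trans _ _ _ _ _) ∈ _
      rw [mapM_trans, hw₂, ← ext0_of_le N i]
      obtain ⟨hA, hB⟩ := linked_ext0 f g hN
      refine map_trans_le (fwd f B) (fwd g B) (ext0 N) hA hB (Nat.le_of_lt_succ i.2) (Nat.le_of_lt_succ (j t).2) ?_
      exact ⟨w₁ t, (ext0_of_le N (j t)).symm ▸ hw₁ t, rfl⟩
    | zero => rw [map_zero]; exact zero_mem _
    | add a b _ _ ha hb => rw [map_add]; exact add_mem ha hb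
    | smul c y _ hy => rw [mapM_smul]; exact Submodule.smul_mem _ _ hy

end Rational

end LinkedGrassLib

end
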