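import Groth.Agent.LinkedGrassLib.Chain
import Mathlib.LinearAlgebra.Basis.VectorSpace
import Mathlib.LinearAlgebra.Dimension.OrzechProperty

/-!
# Ranks along linked chains of subspaces
-/

set_option autoImplicit false
set_option linter.style.haveILetI false
set_option linter.unusedSectionVars false

universe u v

noncomputable section

namespace LinkedGrassLib

variable {K : Type u} [Field K] {E : Type v} [AddCommGroup E] [Module K E]

/-- The conditions on a chain with vanishing composites. -/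
structure Chain0 (n : ℕ) (A B : ℕ → (E →ₗ[K] E)) : Prop where
  AB : ∀ i < n, (A i).comp (B i) = 0
  BA : ∀ i < n, (B i).comp (A i) = 0
  ker_A : ∀ i < n, LinearMap.ker (A i) ≤ LinearMap.range (B i)
  ker_B : ∀ i < n, LinearMap.ker (B i) ≤ LinearMap.range (A i)
  inter_A : ∀ i, i + 1 < n → LinearMap.range (A i) ⊓ LinearMap.ker (A (i + 1)) = ⊥
  inter_B : ∀ i, i + 1 < n → LinearMap.range (B (i + 1)) ⊓ LinearMap.ker (B i) = ⊥

theorem Chain0.mono {n m : ℕ} {A B : ℕ → (E →ₗ[K] E)} (h : Chain0 n A B) (hm : m ≤ n) : Chain0 m A B :=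
  ⟨fun i hi => h.AB i (hi.trans_le hm), fun i hi => h.BA i (hi.trans_le hm), fun i hi => h.ker_A i (hi.trans_le hm),
    fun i hi => h.ker_B i (hi.trans_le hm), fun i hi => h.inter_A i (hi.trans_le hm), fun i hi => h.inter_B i (hi.trans_le hm)⟩

/-- The rank of a forward map. -/
def rkA (A : ℕ → (E →ₗ[K] E)) (V : ℕ → Submodule K E) (i : ℕ) : ℕ := Module.finrank K ↥((V i).map (A i))

/-- The rank of a backward map. -/
def rkB (B : ℕ → (E →ₗ[K] E)) (V : ℕ → Submodule K E) (i : ℕ) : ℕ := Module.finrank K ↥((V (i + 1)).map (B i))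

variable [FiniteDimensional K E]

theorem finrank_map_add_finrank_inf (L : E →ₗ[K] E) (Q : Submodule K E) :
    Module.finrank K (Q.map L) + Module.finrank K ↥(Q ⊓ LinearMap.ker L) = Module.finrank K Q := by
  have h := LinearMap.finrank_range_add_finrank_ker (K := K) (V := Q) (V₂ := E) (L.domRestrict Q)
  rw [LinearMap.range_domRestrict, LinearMap.ker_domRestrict] at h
  rw [← h, ← Submodule.map_comap_subtype, Submodule.finrank_map_subtype_eq]

variable {n r : ℕ} {A B : ℕ → (E →ₗ[K] E)} {V : ℕ → Submodule K E}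

/-- Linked subspaces of constant dimension. -/
structure Linked (n r : ℕ) (A B : ℕ → (E →ₗ[K] E)) (V : ℕ → Submodule K E) : Prop where
  mapA : ∀ i < n, (V i).map (A i) ≤ V (i + 1)
  mapB : ∀ i < n, (V (i + 1)).map (B i) ≤ V i
  rank : ∀ i ≤ n, Module.finrank K (V i) = r

theorem Linked.mono (hV : Linked n r A B V) {m : ℕ} (hm : m ≤ n) : Linked m r A B V :=
  ⟨fun i hi => hV.mapA i (hi.trans_le hm), fun i hi => hV.mapB i (hi.trans_le hm), fun i hi => hV.rank i (hi.trans hm)⟩

theorem rank_le (hc : Chain0 n A B) (hV : Linked n r A B V) {i : ℕ} (hi : i < n) : rkA A V i + rkB B V i ≤ r := by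
  have hle : (V (i + 1)).map (B i) ≤ V i ⊓ LinearMap.ker (A i) := le_inf (hV.mapB i hi) (by
    rintro _ ⟨x, -, rfl⟩
    exact LinearMap.congr_fun (hc.AB i hi) x)
  have h1 := finrank_map_add_finrank_inf (A i) (V i)
  rw [hV.rank i hi.le] at h1
  have h2 := Submodule.finrank_mono hle
  show Module.finrank K _ + Module.finrank K _ ≤ r
  omega

theorem ker_le_of_rank_eq (hc : Chain0 n A B) (hV : Linked n r A B V) {i : ℕ} (hi : i < n)
    (h : rkA A V i + rkB B V i = r) :
    LinearMap.ker (A i) ⊓ V i ≤ (V (i + 1)).map (B i) ∧ LinearMap.ker (B i) ⊓ V (i + 1) ≤ (V i).map (A i) := by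
  simp only [rkA, rkB] at h
  constructor
  · have hle : (V (i + 1)).map (B i) ≤ V i ⊓ LinearMap.ker (A i) := le_inf (hV.mapB i hi) (by
      rintro _ ⟨x, -, rfl⟩
      exact LinearMap.congr_fun (hc.AB i hi) x)
    have h1 := finrank_map_add_finrank_inf (A i) (V i)
    rw [hV.rank i hi.le] at h1
    rw [inf_comm]
    exact (Submodule.eq_of_le_of_finrank_eq hle (by omega)).ge
  · have hle : (V i).map (A i) ≤ V (i + 1) ⊓ LinearMap.ker (B i) := le_inf (hV.mapA i hi) (by
      rintro _ ⟨x, -, rfl⟩
      exact LinearMap.congr_fun (hc.BA i hi) x)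
    have h1 := finrank_map_add_finrank_inf (B i) (V (i + 1))
    rw [hV.rank (i + 1) hi] at h1
    rw [inf_comm]
    exact (Submodule.eq_of_le_of_finrank_eq hle (by omega)).ge

theorem rank_eq_of_ker_le (hc : Chain0 n A B) (hV : Linked n r A B V) {i : ℕ} (hi : i < n)
    (h : LinearMap.ker (A i) ⊓ V i ≤ (V (i + 1)).map (B i)) : rkA A V i + rkB B V i = r := by
  have hle : (V (i + 1)).map (B i) ≤ V i ⊓ LinearMap.ker (A i) := le_inf (hV.mapB i hi) (by
    rintro _ ⟨x, -, rfl⟩
    exact LinearMap.congr_fun (hc.AB i hi) x)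
  have he : V i ⊓ LinearMap.ker (A i) = (V (i + 1)).map (B i) := le_antisymm (inf_comm (V i) _ ▸ h) hle
  have h1 := finrank_map_add_finrank_inf (A i) (V i)
  rw [hV.rank i hi.le, he] at h1
  exact h1

/-- Vectors adapted to a linked chain compute its ranks. -/
theorem ranks_of_adapted (hc : Chain0 n A B) (hV : Linked n r A B V) {σ : Type*} [Fintype σ] (j : σ → ℕ)
    (w : σ → E) (hcard : Fintype.card σ = r) (hw : ∀ t, w t ∈ V (j t)) (hj : ∀ t, j t ≤ n)
    (hspan : ∀ i ≤ n, V i ≤ Submodule.span K (Set.range fun t => trans A B i (j t) (w t))) {i : ℕ} (hi : i < n) :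
    rkA A V i + rkB B V i = r ∧ rkB B V i = (Finset.univ.filter fun t => i < j t).card := by
  classical
  have heq : ∀ l ≤ n, V l = Submodule.span K (Set.range fun t => trans A B l (j t) (w t)) := fun l hl => by
    refine le_antisymm (hspan l hl) (Submodule.span_le.2 ?_)
    rintro _ ⟨t, rfl⟩
    exact map_trans_le A B V hV.mapA hV.mapB hl (hj t) ⟨w t, hw t, rfl⟩
  have hli : ∀ l ≤ n, LinearIndependent K fun t => trans A B l (j t) (w t) := fun l hl => by
    rw [linearIndependent_iff_card_eq_finrank_span, hcard, ← hV.rank l hl, heq l hl]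
    rfl
  have hsubA : ∀ t, j t ≤ i → A i (trans A B i (j t) (w t)) = trans A B (i + 1) (j t) (w t) := fun t h =>
    LinearMap.congr_fun (F_trans A B h) (w t)
  have hsubA' : ∀ t, i < j t → A i (trans A B i (j t) (w t)) = 0 := fun t h => by
    have := LinearMap.congr_fun (F_trans_of_gt A B h (0 : K) (by rw [hc.AB i hi, zero_smul])) (w t)
    rwa [zero_smul] at this
  have hsubB : ∀ t, i < j t → B i (trans A B (i + 1) (j t) (w t)) = trans A B i (j t) (w t) := fun t h =>
    LinearMap.congr_fun (G_trans A B h) (w t)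
  have hsubB' : ∀ t, j t ≤ i → B i (trans A B (i + 1) (j t) (w t)) = 0 := fun t h => by
    have := LinearMap.congr_fun (G_trans_of_le A B h (0 : K) (by rw [hc.BA i hi, zero_smul])) (w t)
    rwa [zero_smul] at this
  have hA' : (V i).map (A i) = Submodule.span K (Set.range fun t : {t // j t ≤ i} => trans A B (i + 1) (j t) (w t)) := by
    rw [heq i hi.le, Submodule.map_span, ← Set.range_comp]
    refine le_antisymm (Submodule.span_le.2 ?_) (Submodule.span_mono ?_)
    · rintro _ ⟨t, rfl⟩
      show A i (trans A B i (j t) (w t)) ∈ Submodule.span K _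
      rcases le_or_gt (j t) i with h | h
      · rw [hsubA t h]
        exact Submodule.subset_span ⟨⟨t, h⟩, rfl⟩
      · rw [hsubA' t h]
        exact zero_mem _
    · rintro _ ⟨⟨t, h⟩, rfl⟩
      exact ⟨t, hsubA t h⟩
  have hB' : (V (i + 1)).map (B i) = Submodule.span K (Set.range fun t : {t // i < j t} => trans A B i (j t) (w t)) := by
    rw [heq (i + 1) hi, Submodule.map_span, ← Set.range_comp]
    refine le_antisymm (Submodule.span_le.2 ?_) (Submodule.span_mono ?_)
    · rintro _ ⟨t, rfl⟩
      show B i (trans A B (i + 1) (j t) (w t)) ∈ Submodule.span K _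
      rcases le_or_gt (j t) i with h | h
      · rw [hsubB' t h]
        exact zero_mem _
      · rw [hsubB t h]
        exact Submodule.subset_span ⟨⟨t, h⟩, rfl⟩
    · rintro _ ⟨⟨t, h⟩, rfl⟩
      exact ⟨t, hsubB t h⟩
  have h1 : rkA A V i = Fintype.card {t // j t ≤ i} := by
    rw [rkA, hA']
    exact finrank_span_eq_card ((hli (i + 1) hi).comp _ Subtype.val_injective)
  have h2 : rkB B V i = Fintype.card {t // i < j t} := by
    rw [rkB, hB']
    exact finrank_span_eq_card ((hli i hi.le).comp _ Subtype.val_injective)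
  refine ⟨?_, by rw [h2, Fintype.card_subtype]⟩
  have h3 := Fintype.card_congr (Equiv.sumCompl fun t => j t ≤ i)
  rw [Fintype.card_sum, hcard] at h3
  have h4 : Fintype.card {t // ¬ j t ≤ i} = Fintype.card {t // i < j t} :=
    Fintype.card_congr (Equiv.subtypeEquivRight fun t => Nat.not_le)
  omega

end LinkedGrassLib

end
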